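import Cfsg.Agent.P8.Stm
import Cfsg.Agent.Trans.Thompson
import Cfsg.Agent.Trans.Pumpup
import Cfsg.Agent.Gold.Cm
import Cfsg.Agent.Solv.CardModEq
import Cfsg.Agent.S0144

/-! Basic facts on groups with element orders at most 8. -/

set_option autoImplicit false

namespace Cfsg.Lib.P8

open Subgroup Cfsg.Lib.Trans Cfsg.Lib.Gold
open scoped commutatorElement

universe u v

namespace Bas1H

variable {G : Type u} [Group G] [Finite G]

omit [Finite G] in
theorem ord (h : Le8 G) {a b : G} (e : a * b = b * a) (c : (orderOf a).Coprime (orderOf b)) :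
    orderOf a * orderOf b ≤ 8 :=
  (show Commute a b from e).orderOf_mul_eq_mul_orderOf_of_coprime c ▸ h _

omit [Finite G] in
theorem ord_pow {p : ℕ} [Fact p.Prime] {S : Subgroup G} (hS : IsPGroup p S) {s : G} (hs : s ∈ S) :
    ∃ k, orderOf s = p ^ k := by
  obtain ⟨k, hk⟩ := IsPGroup.iff_orderOf.1 hS ⟨s, hs⟩
  exact ⟨k, by rw [← hk, orderOf_mk]⟩

omit [Finite G] in
theorem c3 (h : Le8 G) {x : G} (hx : orderOf x = 3) {S : Subgroup G} (hS : IsPGroup 2 S)
    (hc : S ≤ C1 x) : EA S := by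
  have : Fact (Nat.Prime 2) := ⟨Nat.prime_two⟩
  have sq : ∀ s ∈ S, s * s = 1 := fun s hs => by
    obtain ⟨k, hk⟩ := ord_pow hS hs
    have := ord h (mem_C1.1 (hc hs)) (by rw [hk, hx]; exact Nat.Coprime.pow_left k (by norm_num))
    rw [hk, hx] at this
    have k1 : k ≤ 1 := by
      by_contra! k2
      have := Nat.pow_le_pow_right (n := 2) two_pos k2
      omega
    rw [← pow_two, ← orderOf_dvd_iff_pow_eq_one, hk]
    exact pow_dvd_pow 2 k1
  exact ⟨isMulCommutative_of_sq sq, fun a ha => by rw [pow_two, sq a ha]⟩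

omit [Finite G] in
theorem e3 (h : Le8 G) {P : Subgroup G} (hP : IsPGroup 3 P) : ∀ g ∈ P, g ^ 3 = 1 := fun g hg => by
  have : Fact (Nat.Prime 3) := ⟨Nat.prime_three⟩
  obtain ⟨k, hk⟩ := ord_pow hP hg
  have := h g
  rw [hk] at this
  have k1 : k ≤ 1 := by
    by_contra! k2
    have := Nat.pow_le_pow_right (n := 3) three_pos k2
    omega
  rw [← orderOf_dvd_iff_pow_eq_one, hk]
  exact pow_dvd_pow 3 k1

theorem e9 (h : Le8 G) {P : Subgroup G} (hP : IsPGroup 3 P) (hc : 3 < Nat.card P) :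
    ∃ a ∈ P, ∃ b ∈ P, E9 a b := by
  have : Fact (Nat.Prime 3) := ⟨Nat.prime_three⟩
  obtain ⟨z, hz, c, o⟩ := exists_orderOf_eq_mem_centralizer hP hP le_normalizer fun e => by
    rw [e, card_bot] at hc; omega
  obtain ⟨b, hb, nb⟩ : ∃ b ∈ P, b ∉ zpowers z := SetLike.not_le_iff_exists.1 fun le => by
    have := Subgroup.card_le_of_le le
    rw [Nat.card_zpowers, o] at this; omega
  exact ⟨z, hz, b, hb, o, orderOf_eq_prime (e3 h hP b hb) fun e => nb (e ▸ one_mem _),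
    (c b hb).symm, nb⟩

theorem fpf (h : Le8 G) {σ : G} (hσ : orderOf σ = 5 ∨ orderOf σ = 7) (g : G) (e : g * σ = σ * g) :
    g ^ orderOf σ = 1 := by
  have hp : (orderOf σ).Prime := by rcases hσ with e | e <;> rw [e] <;> norm_num
  have h0 := orderOf_pos g
  have h1 := h g
  rw [← orderOf_dvd_iff_pow_eq_one]
  by_cases d : orderOf σ ∣ orderOf g
  · obtain ⟨k, hk⟩ := d
    rcases hσ with e | e <;> rw [e] at hk ⊢ <;> exact Dvd.intro_left 1 (by omega)
  · have := ord h e (hp.coprime_iff_not_dvd.2 d).symm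
    rw [show orderOf g = 1 by rcases hσ with e | e <;> rw [e] at this <;> omega]
    exact one_dvd _

theorem exists_ord {N : Subgroup G} {p : ℕ} (hp : p.Prime) (d : p ∣ Nat.card N) :
    ∃ g ∈ N, orderOf g = p := by
  have := Fact.mk hp
  obtain ⟨g, hg⟩ := exists_prime_orderOf_dvd_card' (G := N) p d
  exact ⟨g, g.2, by rw [orderOf_coe, hg]⟩

theorem sol (h : Le8 G) {N : Subgroup G} (h5 : ¬ 5 ∣ Nat.card N) (h7 : ¬ 7 ∣ Nat.card N) :
    Group.IsSolvable N := by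
  have n0 : Nat.card N ≠ 0 := Nat.card_pos.ne'
  refine Cfsg.Agent.S0144.result 2 3 ((Nat.card N).factorization 2) ((Nat.card N).factorization 3)
    Nat.prime_two Nat.prime_three ?_
  have sub : (Nat.card N).factorization.support ⊆ {2, 3} := fun p hp => by
    rw [Nat.support_factorization, Nat.mem_primeFactors] at hp
    obtain ⟨g, -, o⟩ := exists_ord hp.1 hp.2.1
    have := h g
    have := hp.1.two_le
    rw [o] at *
    obtain ⟨p1, p2, -⟩ := hp
    interval_cases p <;> first | decide | contradiction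
  conv_lhs => rw [← Nat.prod_factorization_pow_eq_self n0]
  rw [Finsupp.prod_of_support_subset _ sub _ (by simp), Finset.prod_pair (by norm_num)]

theorem cen (h : Le8 G) {t : G} (ht : orderOf t = 2 ∨ orderOf t = 3) :
    ¬ 5 ∣ Nat.card ↥(C1 t) ∧ ¬ 7 ∣ Nat.card ↥(C1 t) := by
  have k : ∀ g ∈ C1 t, orderOf g = 5 ∨ orderOf g = 7 → False := fun g hg o => by
    have := orderOf_dvd_of_pow_eq_one (fpf h o t (mem_C1.1 hg).symm)
    rcases ht with e | e <;> rcases o with o | o <;> rw [e, o] at this <;> omega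
  exact ⟨fun d => let ⟨g, hg, o⟩ := exists_ord (by norm_num) d; k g hg (.inl o),
    fun d => let ⟨g, hg, o⟩ := exists_ord (by norm_num) d; k g hg (.inr o)⟩

theorem one (h : Le8 G) {σ : G} (hσ : orderOf σ = 5 ∨ orderOf σ = 7) {Q : Subgroup G}
    (hQ : IsPGroup 2 Q) {g : G} (hg : g ∈ Q) (e : g * σ = σ * g) : g = 1 := by
  have : Fact (Nat.Prime 2) := ⟨Nat.prime_two⟩
  obtain ⟨k, hk⟩ := ord_pow hQ hg
  refine orderOf_eq_one_iff.1 (Nat.eq_one_of_dvd_coprimes (a := 2 ^ k) ?_ hk.dvd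
    (orderOf_dvd_of_pow_eq_one (fpf h hσ g e)))
  rcases hσ with o | o <;> rw [o] <;> exact Nat.Coprime.pow_left k (by norm_num)

theorem md (h : Le8 G) {σ : G} (hσ : orderOf σ = 5 ∨ orderOf σ = 7) {Q : Subgroup G}
    (hQ : IsPGroup 2 Q) (hn : σ ∈ Ns Q) : Nat.card Q % orderOf σ = 1 := by
  have hp : (orderOf σ).Prime := by rcases hσ with e | e <;> rw [e] <;> norm_num
  have := Fact.mk hp
  have := Solv.card_modEq_one_of_inf_centralizer_eq_bot (q := orderOf σ) (Q := zpowers σ) (L := Q)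
    (.of_card (n := 1) (by rw [Nat.card_zpowers, pow_one])) (zpowers_le.2 hn)
    (eq_bot_iff.2 fun g hg => one h hσ hQ hg.1 (hg.2 σ (mem_zpowers σ)).symm)
  rwa [Nat.ModEq, Nat.mod_eq_of_lt hp.one_lt] at this

omit [Finite G] in
theorem fl {Q : Subgroup G} {a b : G} (h : Q ⊓ C1 a ⊓ C1 b = ⊥) :
    Nat.card Q ≤ (C1 a).relIndex Q * (C1 b).relIndex Q := by
  refine le_trans (le_of_eq ?_) relIndex_inf_le
  rw [← inf_relIndex_left, ← inf_assoc, h, relIndex_bot_left]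

theorem fl5 (h : Le8 G) {Q : Subgroup G} {j σ : G} (hQ : IsPGroup 2 Q) (hσ : σ ∈ Ns Q)
    (o : orderOf σ = 5) (j2 : j * j = 1) (e : j * σ * j⁻¹ = σ⁻¹) :
    Nat.card Q ≤ (C1 j).relIndex Q ^ 2 := by
  have e1 : j * (σ * j * σ⁻¹) = σ⁻¹ ^ 2 := by
    calc j * (σ * j * σ⁻¹) = j * σ * j⁻¹ * (j * j) * σ⁻¹ := by group
      _ = _ := by rw [e, j2, mul_one, pow_two]
  have o2 : orderOf (σ⁻¹ ^ 2) = 5 := by
    rw [Nat.Coprime.orderOf_pow (by rw [orderOf_inv, o]; norm_num), orderOf_inv, o]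
  have := fl (Q := Q) (a := j) (b := σ * j * σ⁻¹) (eq_bot_iff.2 fun g hg =>
    one h (.inl o2) hQ hg.1.1 (by
      rw [← e1, ← mul_assoc g, mem_C1.1 hg.1.2, mul_assoc j, mem_C1.1 hg.2, mul_assoc j]))
  rwa [← cj_C1, ← mem_Ns_iff.1 hσ, relIndex_cj, mem_Ns_iff.1 hσ, ← pow_two] at this

theorem cidx {D I : Subgroup G} {v : G} (h : ∀ d ∈ D, ⁅d, v⁆ ∈ I) :
    (C1 v).relIndex D ≤ Nat.card I := by
  refine Nat.card_le_card_of_injective
    (fun q : D ⧸ (C1 v).subgroupOf D => (⟨⁅(q.out : G), v⁆, h _ q.out.2⟩ : I)) fun p q e => ?_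
  have e' : ⁅(p.out : G), v⁆ = ⁅(q.out : G), v⁆ := congrArg Subtype.val e
  rw [← p.out_eq', ← q.out_eq', QuotientGroup.eq]
  refine mem_C1.2 ?_
  change (p.out : G)⁻¹ * q.out * v = v * ((p.out : G)⁻¹ * q.out)
  rw [commutatorElement_def, commutatorElement_def, mul_left_inj] at e'
  calc (p.out : G)⁻¹ * q.out * v = (p.out : G)⁻¹ * (q.out * v * (q.out : G)⁻¹) * q.out := by group
    _ = _ := by rw [← e']; group

theorem half {V : Subgroup G} {j : G} (hV : EA V) (hj : j ∈ Ns V) (j2 : j * j ∈ Cs V) :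
    (C1 j).relIndex V ≤ Nat.card ↥(V ⊓ C1 j) ∧ ⁅V, zpowers j⁆ ≤ C1 j ∧
      Nat.card ↥⁅V, zpowers j⁆ = (C1 j).relIndex V := by
  have cm : ∀ a ∈ V, ∀ b ∈ V, a * b = b * a := fun a ha b hb => TJ.ea_comm hV ha hb
  have iv : ∀ a ∈ V, a⁻¹ = a := fun a ha => inv_eq_of_sq (by rw [← pow_two]; exact hV.2 a ha)
  have cj' : ∀ a ∈ V, j * a * j⁻¹ ∈ V := fun a ha => mem_normalizer_conj hj ha
  have e0 : ∀ a ∈ V, ⁅a, j⁆ = a * (j * a * j⁻¹) := fun a ha => by
    rw [commutatorElement_def, iv a ha]; group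
  have jj : ∀ a ∈ V, j * (j * a * j⁻¹) * j⁻¹ = a := fun a ha => by
    calc j * (j * a * j⁻¹) * j⁻¹ = j * j * a * (j * j)⁻¹ := by group
      _ = a := by rw [← mem_Cs.1 j2 a ha]; group
  let f : V →* G := MonoidHom.mk' (fun a => ⁅(a : G), j⁆) fun a b => by
    change ⁅(a : G) * b, j⁆ = _
    rw [e0 _ (mul_mem a.2 b.2), e0 _ a.2, e0 _ b.2, ← conj_mul, mul_assoc, mul_assoc (a : G),
      ← mul_assoc (b : G), cm _ b.2 _ (cj' _ a.2), mul_assoc (j * a * j⁻¹)]
  have fC : f.range ≤ V ⊓ C1 j := by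
    rintro _ ⟨a, rfl⟩
    change ⁅(a : G), j⁆ ∈ _
    rw [e0 _ a.2]
    refine ⟨mul_mem a.2 (cj' _ a.2), mem_C1.2 (mul_inv_eq_iff_eq_mul.1 ?_).symm⟩
    rw [← conj_mul, jj _ a.2, cm _ (cj' _ a.2) _ a.2]
  have hk : f.ker = (C1 j).subgroupOf V := Subgroup.ext fun a =>
    commutatorElement_eq_one_iff_mul_comm.trans mem_C1.symm
  have hr : ⁅V, zpowers j⁆ = f.range := by
    refine le_antisymm (commutator_le.2 fun a ha x hx => ?_) ?_
    · have : x ∈ Cs V ∨ x * j⁻¹ ∈ Cs V := by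
        obtain ⟨m, rfl⟩ := mem_zpowers_iff.1 hx
        rcases Int.even_or_odd' m with ⟨k, rfl | rfl⟩
        · left; rw [zpow_mul, zpow_two]; exact zpow_mem j2 k
        · right; rw [zpow_add, zpow_one, mul_inv_cancel_right, zpow_mul, zpow_two]
          exact zpow_mem j2 k
      rcases this with m | m
      · rw [commutatorElement_eq_one_iff_mul_comm.2 (mem_Cs.1 m a ha)]; exact one_mem _
      · refine ⟨⟨a, ha⟩, ?_⟩
        change ⁅a, j⁆ = ⁅a, x⁆
        have := mem_Cs.1 m _ (cj' _ (inv_mem ha))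
        calc ⁅a, j⁆ = a * (j * a⁻¹ * j⁻¹ * (x * j⁻¹)) * (x * j⁻¹)⁻¹ := by
              rw [commutatorElement_def]; group
          _ = _ := by rw [this, commutatorElement_def]; group
    · rintro _ ⟨a, rfl⟩
      exact commutator_mem_commutator a.2 (mem_zpowers j)
  have hc : Nat.card f.range = (C1 j).relIndex V := by rw [← index_ker, hk]; rfl
  exact ⟨hc ▸ Subgroup.card_le_of_le fC, hr ▸ fC.trans inf_le_right, hr ▸ hc⟩

end Bas1H

theorem pf_Bas1 : Bas1.{u} where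
  sub := fun h H g => by rw [← orderOf_coe]; exact h _
  quo := fun h N _ g => by
    obtain ⟨x, rfl⟩ := QuotientGroup.mk'_surjective N g
    exact (Nat.le_of_dvd (orderOf_pos x) (orderOf_map_dvd _ x)).trans (h x)
  c3 := fun h _ hx _ => Bas1H.c3 h hx
  e3 := fun h _ => Bas1H.e3 h
  e9 := fun h _ => Bas1H.e9 h
  fpf := fun h _ => Bas1H.fpf h
  sol := fun h _ => Bas1H.sol h
  cen := fun h _ => Bas1H.cen h
  md := fun h _ hσ _ => Bas1H.md h hσ
  fl := Bas1H.fl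
  fl5 := fun h _ _ _ hQ _ => Bas1H.fl5 h hQ
  half := Bas1H.half
  cidx := Bas1H.cidx

end Cfsg.Lib.P8
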