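import Cfsg.Agent.P8.Stm
import Cfsg.Agent.Gold.Cm
import Cfsg.Agent.CIT.Basic
import Cfsg.Agent.Solv.FrattiniP
import Cfsg.Agent.Solv.CoprimeFixed
import Cfsg.Agent.Solv.Cores

/-!
# Groups with element orders at most 8: section modules
-/

set_option autoImplicit false

namespace Cfsg.Lib.P8

open Subgroup Cfsg.Lib.Trans Cfsg.Lib.Gold
open scoped commutatorElement

universe u v

namespace BrgH

variable {G : Type u} [Group G] {X : Type v} [Group X] {H Q U₁ U₂ : Subgroup G} {π : G → X}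

theorem exists_p [Finite G] (hn : U₂ ≤ Ns U₁) (hs : ∀ a ∈ U₂, a * a ∈ U₁) :
    ∃ (M : Type u) (_ : AddCommGroup M) (_ : Finite M) (p : G → M),
      (∀ a ∈ U₂, ∀ b ∈ U₂, p (a * b) = p a + p b) ∧ (∀ a ∈ U₂, p a = 0 ↔ a ∈ U₁) ∧
        ∀ m : M, ∃ a ∈ U₂, p a = m := by
  classical
  have hN : (U₁.subgroupOf U₂).Normal := ⟨fun a ha g => mem_normalizer_conj (T := U₁) (hn g.2) ha⟩
  have h2 : ∀ y : U₂ ⧸ U₁.subgroupOf U₂, y * y = 1 := fun y => by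
    obtain ⟨a, rfl⟩ := QuotientGroup.mk_surjective y
    exact (QuotientGroup.eq_one_iff (a * a)).2 (hs a a.2)
  let i : CommGroup (U₂ ⧸ U₁.subgroupOf U₂) :=
    { (inferInstance : Group (U₂ ⧸ U₁.subgroupOf U₂)) with
      mul_comm := fun a b => by
        rw [← inv_eq_of_sq (h2 (a * b)), mul_inv_rev, inv_eq_of_sq (h2 a), inv_eq_of_sq (h2 b)] }
  refine ⟨Additive (U₂ ⧸ U₁.subgroupOf U₂), inferInstance, inferInstance,
    fun g => if h : g ∈ U₂ then Additive.ofMul (QuotientGroup.mk ⟨g, h⟩) else 0, ?_, ?_, ?_⟩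
  · intro a ha b hb
    simp only [dif_pos ha, dif_pos hb, dif_pos (mul_mem ha hb)]
    rfl
  · intro a ha
    simp only [dif_pos ha]
    exact QuotientGroup.eq_one_iff (N := U₁.subgroupOf U₂) ⟨a, ha⟩
  · intro m
    obtain ⟨a, ha⟩ := QuotientGroup.mk_surjective (Additive.toMul m)
    refine ⟨a, a.2, ?_⟩
    simp only [dif_pos a.2]
    exact congrArg Additive.ofMul ha

section
variable {M : Type u} [AddCommGroup M] {p : G → M}

theorem p_one (ha : ∀ a ∈ U₂, ∀ b ∈ U₂, p (a * b) = p a + p b) : p 1 = 0 := by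
  have := ha 1 (one_mem _) 1 (one_mem _)
  rwa [mul_one, left_eq_add] at this

theorem p_inv (ha : ∀ a ∈ U₂, ∀ b ∈ U₂, p (a * b) = p a + p b) {a : G} (h : a ∈ U₂) :
    p a⁻¹ = -p a := by
  rw [eq_neg_iff_add_eq_zero, ← ha _ (inv_mem h) _ h, inv_mul_cancel, p_one ha]

theorem p_eq (ha : ∀ a ∈ U₂, ∀ b ∈ U₂, p (a * b) = p a + p b) (hz : ∀ a ∈ U₂, p a = 0 ↔ a ∈ U₁)
    {a b : G} (h : a ∈ U₂) (h' : b ∈ U₂) : p a = p b ↔ a⁻¹ * b ∈ U₁ := by
  rw [← hz _ (mul_mem (inv_mem h) h'), ha _ (inv_mem h) _ h', p_inv ha h, neg_add_eq_zero]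

theorem exists_act [PjB.{u, v}] (hP : Pj H Q π) (h : SecOK H Q U₁ U₂)
    (ha : ∀ a ∈ U₂, ∀ b ∈ U₂, p (a * b) = p a + p b) (hz : ∀ a ∈ U₂, p a = 0 ↔ a ∈ U₁)
    (hs : ∀ m : M, ∃ a ∈ U₂, p a = m) : ∃ _ : DistribMulAction X M, Sec H U₁ U₂ π p := by
  choose s hs1 hs2 using hP.sur
  choose r hr1 hr2 using hs
  obtain ⟨h1, -, -, -, h5⟩ := PjB.one hP
  have cm : ∀ {g a}, g ∈ H → a ∈ U₂ → g * a * g⁻¹ ∈ U₂ := fun hg => mem_normalizer_conj (h.n2 hg)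
  have key : ∀ g ∈ H, ∀ a ∈ U₂, p (s (π g) * r (p a) * (s (π g))⁻¹) = p (g * a * g⁻¹) := by
    intro g hg a hA
    have e1 := (h5 _ (hs1 _) _ hg).1 (hs2 (π g))
    have e2 := (p_eq ha hz (hr1 _) hA).1 (hr2 (p a))
    rw [p_eq ha hz (cm (hs1 _) (hr1 _)) (cm hg hA)]
    have := mem_normalizer_conj (h.n1 (hs1 (π g)))
      (mul_mem e2 (h.cen (commutator_mem_commutator (inv_mem hA) e1)))
    convert this using 1
    simp only [commutatorElement_def]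
    group
  have ind : ∀ {P : X → Prop}, (∀ g ∈ H, P (π g)) → ∀ x, P x := fun k x => hs2 x ▸ k _ (hs1 x)
  have ind' : ∀ {P : M → Prop}, (∀ a ∈ U₂, P (p a)) → ∀ m, P m := fun k m => hr2 m ▸ k _ (hr1 m)
  let i : SMul X M := ⟨fun x m => p (s x * r m * (s x)⁻¹)⟩
  have key' : ∀ g ∈ H, ∀ a ∈ U₂, π g • p a = p (g * a * g⁻¹) := key
  let j : DistribMulAction X M := { i with
    one_smul := ind' fun a hA => by rw [← h1, key' _ (one_mem _) _ hA]; simp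
    mul_smul := ind fun g hg => ind fun k hk => ind' fun a hA => by
      rw [← hP.mul _ hg _ hk, key' _ (mul_mem hg hk) _ hA, key' _ hk _ hA, key' _ hg _ (cm hk hA)]
      congr 1
      group
    smul_zero := ind fun g hg => by rw [← p_one ha, key' _ hg _ (one_mem _)]; simp
    smul_add := ind fun g hg => ind' fun a hA => ind' fun b hB => by
      rw [← ha _ hA _ hB, key' _ hg _ (mul_mem hA hB), key' _ hg _ hA, key' _ hg _ hB,
        ← ha _ (cm hg hA) _ (cm hg hB)]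
      congr 1
      group }
  exact ⟨j, ha, hz, fun m => ⟨_, hr1 m, hr2 m⟩, fun g hg a hA => (key' g hg a hA).symm⟩

variable [DistribMulAction X M]

theorem comm_mem (hS : Sec H U₁ U₂ π p) (hn : H ≤ Ns U₂) {x a : G} (hx : x ∈ H) (ha : a ∈ U₂)
    (e : π x • p a = p a) : ⁅a, x⁆ ∈ U₁ := by
  have h1 := mem_normalizer_conj (hn hx) (inv_mem ha)
  rw [show ⁅a, x⁆ = a * (x * a⁻¹ * x⁻¹) by simp only [commutatorElement_def, mul_assoc],
    ← hS.zero _ (mul_mem ha h1), hS.add _ ha _ h1, hS.eqv _ hx _ (inv_mem ha), p_inv hS.add ha,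
    smul_neg, e, add_neg_cancel]

variable [Finite G]

theorem fixed [Bas2.{u}] (hP : Pj H Q π) (h : SecOK H Q U₁ U₂) (hS : Sec H U₁ U₂ π p) {x : G}
    (hx : x ∈ H) (ho : Odd (orderOf x)) {m : M} (e : π x • m = m) :
    ∃ b ∈ U₂, b * x = x * b ∧ p b = m := by
  obtain ⟨a, ha, rfl⟩ := hS.sur m
  obtain ⟨b, hb, h1, h2⟩ := Bas2.lift (hP.two.to_le h.leQ) h.le (h.leQ.trans (hP.le.trans h.n1))
    (h.n1 hx) (h.n2 hx) ho ha (comm_mem hS h.n2 hx ha e)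
  exact ⟨b, hb, h1, ((p_eq hS.add hS.zero ha hb).2 h2).symm⟩

theorem md [Bas1.{u}] [Bas2.{u}] [PjB.{u, v}] (h8 : Le8 G) (hP : Pj H Q π) (h : SecOK H Q U₁ U₂)
    (hS : Sec H U₁ U₂ π p) : Md X M := by
  obtain ⟨h1, -, h3, h4, -⟩ := PjB.one hP
  refine ⟨fun m => ?_, fun g hg m e => ?_, fun s x ox hc hs m e => ?_, fun s hs m => ?_⟩
  · obtain ⟨a, ha, rfl⟩ := hS.sur m
    rw [← hS.add _ ha _ ha, hS.zero _ (mul_mem ha ha)]
    exact h.sq a ha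
  · obtain ⟨x, hx, rfl⟩ := hP.sur g
    obtain ⟨e1, e2⟩ := PjB.o57 h8 hP x hx hg
    obtain ⟨b, hb, e3, rfl⟩ := fixed hP h hS hx (by rw [e1]; rcases hg with k | k <;> rw [k] <;> decide) e
    rw [mem_bot.1 (e2.le ⟨h.leQ hb, mem_C1.2 e3⟩), p_one hS.add]
  · obtain ⟨x₀, hx₀, rfl⟩ := hP.sur x
    obtain ⟨x, hx, e1, e2⟩ := PjB.odd hP x₀ hx₀ (by rw [ox]; decide)
    replace hx := zpowers_le.2 hx₀ hx
    rw [ox] at e2
    rw [← e1] at hc e
    obtain ⟨a, ha, e3, rfl⟩ := PjB.cen hP x hx (by rw [e2]; decide) s hc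
    obtain ⟨n, hn⟩ := PjB.twoP hP a ha hs
    obtain ⟨b, hb, e4, rfl⟩ := fixed hP h hS hx (by rw [e2]; decide) e
    have h5 : IsPGroup 2 ↥((Q ⊓ C1 x) ⊔ zpowers a) :=
      (hP.two.to_le inf_le_left).to_sup_of_normal_left'
        (IsPGroup.of_card (by rw [Nat.card_zpowers, hn]))
        (zpowers_le.2 (mem_Ns_inf (h4 ha) (mem_Ns_C1 e3)))
    have h6 := Bas1.c3 h8 e2 h5 (sup_le inf_le_right (zpowers_le.2 (mem_C1.2 e3)))
    have h7 := comm_of_sq (fun c hc => by rw [← pow_two]; exact h6.2 c hc) a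
      (mem_sup_right (mem_zpowers a)) b (mem_sup_left (mem_inf.2 ⟨h.leQ hb, mem_C1.2 e4⟩))
    rw [← hS.eqv a ha b hb, h7, mul_inv_cancel_right]
  · obtain ⟨a, ha, rfl⟩ := hS.sur m
    obtain ⟨t, ht, rfl⟩ := hP.sur s
    have k : ∀ y ∈ H, π y = π t → y ^ 8 = 1 := fun y hy e => by
      have d : 8 ∣ orderOf y := by
        rw [← hs, ← e, orderOf_dvd_iff_pow_eq_one, ← h3 y hy, pow_orderOf_eq_one, h1]
      rw [← le_antisymm (h8 y) (Nat.le_of_dvd (orderOf_pos y) d), pow_orderOf_eq_one]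
    have haH := hP.le (h.leQ ha)
    have k' : ∀ n : ℕ, (a * t) ^ n * (t ^ n)⁻¹ ∈ U₂ ∧
        p ((a * t) ^ n * (t ^ n)⁻¹) = ∑ i ∈ Finset.range n, π t ^ i • p a := by
      intro n
      induction n with
      | zero => simpa using p_one hS.add
      | succ n ih =>
        have h5 := mem_normalizer_conj (h.n2 (pow_mem ht n)) ha
        rw [show (a * t) ^ (n + 1) * (t ^ (n + 1))⁻¹ =
          (a * t) ^ n * (t ^ n)⁻¹ * (t ^ n * a * (t ^ n)⁻¹) by simp only [pow_succ]; group]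
        refine ⟨mul_mem ih.1 h5, ?_⟩
        rw [hS.add _ ih.1 _ h5, ih.2, Finset.sum_range_succ, hS.eqv _ (pow_mem ht n) _ ha, h3 t ht]
    rw [← (k' 8).2, k t ht rfl, k _ (mul_mem haH ht) (by
      rw [hP.mul _ haH _ ht, (hP.ker a haH).2 (h.leQ ha), one_mul]), inv_one, mul_one, p_one hS.add]

theorem fth [BasJ.{u}] [PjB.{u, v}] (hP : Pj H Q π) (hQ : Q = O2 H) (hC : H ⊓ Cs Q ≤ Q)
    (hS : Sec H (Phi Q) Q π p) : Fth X M := by
  obtain ⟨h1, h2, -, h4, -⟩ := PjB.one hP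
  let K : Subgroup G :=
    { carrier := {k | k ∈ H ∧ ∀ m : M, π k • m = m}
      one_mem' := ⟨one_mem _, fun m => by rw [h1, one_smul]⟩
      mul_mem' := fun {a b} ha hb => ⟨mul_mem ha.1 hb.1, fun m => by
        rw [hP.mul _ ha.1 _ hb.1, mul_smul, hb.2, ha.2]⟩
      inv_mem' := fun {a} ha => ⟨inv_mem ha.1, fun m => by rw [h2 _ ha.1, inv_smul_eq_iff, ha.2]⟩ }
  have hK : IsPGroup 2 K := by
    by_contra hn
    obtain ⟨k, hk, ho, h5⟩ := CIT.exists_odd_of_not_isPGroup hn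
    rw [← Nat.card_zpowers] at ho
    refine h5 (eq_one_of_mem_of_odd hP.two ho (hC ⟨hk.1, ?_⟩) (mem_zpowers k))
    refine Solv.Coprime.le_centralizer_of_commutator_le_frattini (zpowers_le.2 (h4 hk.1))
      ?_ (commutator_le.2 fun q hq a ha => ?_) (mem_zpowers k)
    · rw [← card_subtype]
      exact (coprime_of_odd (U := Phi Q) (hP.two.to_le (map_subtype_le _)) ho).symm
    · have := (zpowers_le.2 hk : _ ≤ K) ha
      exact comm_mem hS h4 this.1 hq (this.2 _)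
  have hle : K ≤ Q := hQ ▸ (BasJ.o2 H).2.2.2.1 K (fun _ h => h.1) hK fun g hg =>
    mem_normalizer_of_cj_le (cj_le_iff.2 fun k hk => ⟨mul_mem (mul_mem hg hk.1) (inv_mem hg), fun m => by
      rw [hP.mul _ (mul_mem hg hk.1) _ (inv_mem hg), hP.mul _ hg _ hk.1, h2 _ hg, mul_smul, mul_smul,
        hk.2, smul_inv_smul]⟩)
  intro g hg
  obtain ⟨k, hk, rfl⟩ := hP.sur g
  exact (hP.ker k hk).2 (hle ⟨hk, hg⟩)

end

theorem exists_pow {U : Subgroup G} (k : ℕ) : ∀ a : G, a ^ 2 ^ k ∈ U → a ∉ U →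
    ∃ n : ℕ, a ^ n ∉ U ∧ a ^ n * a ^ n ∈ U := by
  induction k with
  | zero => exact fun a h h' => absurd (by simpa using h) h'
  | succ k ih =>
    intro a h h'
    by_cases h2 : a * a ∈ U
    · exact ⟨1, by simpa using h', by simpa using h2⟩
    · obtain ⟨n, hn⟩ := ih (a * a) (by rwa [← pow_two, ← pow_mul, ← pow_succ']) h2
      exact ⟨2 * n, by rwa [pow_mul, pow_two]⟩

/-- The preimage of `Z(Q / U)`. -/
def Zq (Q U : Subgroup G) (h : Q ≤ Ns U) : Subgroup G where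
  carrier := {a | a ∈ Q ∧ ∀ q ∈ Q, ⁅a, q⁆ ∈ U}
  one_mem' := ⟨one_mem _, fun q _ => by simp⟩
  mul_mem' {a b} ha hb := ⟨mul_mem ha.1 hb.1, fun q hq => by
    rw [show ⁅a * b, q⁆ = a * ⁅b, q⁆ * a⁻¹ * ⁅a, q⁆ by simp only [commutatorElement_def]; group]
    exact mul_mem (mem_normalizer_conj (h ha.1) (hb.2 q hq)) (ha.2 q hq)⟩
  inv_mem' {a} ha := ⟨inv_mem ha.1, fun q hq => by
    rw [show ⁅a⁻¹, q⁆ = a⁻¹ * ⁅a, q⁆⁻¹ * a by simp only [commutatorElement_def]; group]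
    exact mem_normalizer_conj' (h ha.1) (inv_mem (ha.2 q hq))⟩

/-- The preimage of `Ω₁ Z(Q / U)`. -/
def Oq (Q U : Subgroup G) (h : Q ≤ Ns U) : Subgroup G where
  carrier := {a | a ∈ Zq Q U h ∧ a * a ∈ U}
  one_mem' := ⟨one_mem _, by simp⟩
  mul_mem' {a b} ha hb := ⟨mul_mem ha.1 hb.1, by
    rw [show a * b * (a * b) = a * a * ⁅a⁻¹, b⁆ * (b * b) by simp only [commutatorElement_def]; group]
    exact mul_mem (mul_mem ha.2 ((inv_mem ha.1).2 b hb.1.1)) hb.2⟩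
  inv_mem' {a} ha := ⟨inv_mem ha.1, by rw [← mul_inv_rev]; exact inv_mem ha.2⟩

theorem fix [Finite G] [BasJ.{u}] {x : G} (hQ : IsPGroup 2 Q) (hn : H ≤ Ns Q) (h : Q ⊓ C1 x ≠ ⊥) :
    ∃ U₁ U₂, SecOK H Q U₁ U₂ ∧ ∃ a ∈ U₂, a ∉ U₁ ∧ a * x = x * a := by
  obtain ⟨U, ⟨h1, h2, h3⟩, hm⟩ := (Set.toFinite
    {U : Subgroup G | U ≤ Q ∧ H ⊔ Q ≤ Ns U ∧ ¬ Q ⊓ C1 x ≤ U}).exists_maximal
    ⟨⊥, bot_le, fun g _ => mem_Ns_iff.2 (cj_bot g), by rwa [le_bot_iff]⟩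
  have hQU : Q ≤ Ns U := le_sup_right.trans h2
  have h4 : H ⊔ Q ≤ Ns (Oq Q U hQU) := fun g hg => by
    have hg' : g ∈ Ns Q := sup_le hn le_normalizer hg
    refine mem_normalizer_of_cj_le (cj_le_iff.2 fun a ha =>
      ⟨⟨mem_normalizer_conj hg' ha.1.1, fun q hq => ?_⟩, ?_⟩)
    · rw [show ⁅g * a * g⁻¹, q⁆ = g * ⁅a, g⁻¹ * q * g⁆ * g⁻¹ by
        simp only [commutatorElement_def]; group]
      exact mem_normalizer_conj (h2 hg) (ha.1.2 _ (mem_normalizer_conj' hg' hq))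
    · rw [conj_mul']
      exact mem_normalizer_conj (h2 hg) ha.2
  have h5 : U ≤ Oq Q U hQU := fun a ha => ⟨⟨h1 ha, fun q hq =>
    commutator_le_left_of_le hQU (commutator_mem_commutator ha hq)⟩, mul_mem ha ha⟩
  have h6 : Oq Q U hQU ≤ Q := fun _ ha => ha.1.1
  obtain ⟨a, ha, a1, a2⟩ := BasJ.zfix hQ hQ (lt_of_le_of_ne h1 fun e => h3 (e ▸ inf_le_left)) hQU
    le_normalizer hQU
  obtain ⟨k, hk⟩ := hQ ⟨a, ha⟩
  obtain ⟨n, n1, n2⟩ := exists_pow (U := U) k a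
    (by rw [show a ^ 2 ^ k = 1 from congrArg Subtype.val hk]; exact one_mem _) a1
  have h7 : Q ⊓ C1 x ≤ Oq Q U hQU := by
    by_contra h7
    exact n1 (hm ⟨h6, h4, h7⟩ h5 ⟨(Zq Q U hQU).pow_mem ⟨ha, a2⟩ n, n2⟩)
  obtain ⟨b, hb, b1⟩ := SetLike.not_le_iff_exists.1 h3
  exact ⟨U, _, ⟨h5, h6, le_sup_left.trans h2, le_sup_left.trans h4,
    commutator_le.2 fun a ha q hq => ha.1.2 q hq, fun a ha => ha.2⟩, b, h7 hb, b1, mem_C1.1 hb.2⟩

theorem quo [Finite G] (N : Subgroup G) : ∃ (Y : Type u) (_ : Group Y) (_ : Finite Y)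
    (π : G → Y), Pj N (O2 N) π ∧ pCore 2 Y = ⊥ := by
  classical
  refine ⟨N ⧸ pCore 2 N, inferInstance, inferInstance,
    fun g => if h : g ∈ N then QuotientGroup.mk ⟨g, h⟩ else 1,
    ⟨map_subtype_le _, (Solv.pCore_isPGroup 2 N).map _, fun a ha b hb => ?_, fun y => ?_,
      fun a ha => ?_⟩, Solv.pCore_quotient_pCore 2 N⟩
  · simp only [dif_pos ha, dif_pos hb, dif_pos (mul_mem ha hb)]
    rfl
  · obtain ⟨a, rfl⟩ := QuotientGroup.mk_surjective y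
    exact ⟨a, a.2, by simp only [dif_pos a.2]⟩
  · simp only [dif_pos ha]
    rw [QuotientGroup.eq_one_iff]
    exact ⟨fun h => ⟨_, h, rfl⟩, fun ⟨b, hb, e⟩ => by
      rwa [show (⟨a, ha⟩ : N) = b from Subtype.ext e.symm]⟩

end BrgH

open BrgH in
theorem pf_Brg [Bas1.{u}] [Bas2.{u}] [BasJ.{u}] [PjB.{u, v}] : Brg.{u, v} where
  sec h8 hP h := by
    obtain ⟨M, _, _, p, h1, h2, h3⟩ := exists_p (h.leQ.trans (hP.le.trans h.n1)) h.sq
    obtain ⟨_, hS⟩ := exists_act hP h h1 h2 h3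
    exact ⟨M, _, ‹_›, _, p, md h8 hP h hS, hS⟩
  om {G} _ _ _ Q hn := by
    obtain ⟨-, -, h1, h2, h3, h4, -⟩ := BasJ.leT Q
    exact ⟨bot_le, h1, fun g _ => mem_Ns_iff.2 (cj_bot g), hn.trans h2,
      (commutator_eq_bot_iff_le_centralizer.2 (le_Cs_comm.1 h4)).le,
      fun a ha => by rw [← pow_two]; exact h3.2 a ha⟩
  phi hQ hn := ⟨map_subtype_le _, le_rfl, hn.trans (Solv.normalizer_le_normalizer_frattini _), hn,
    commutator_le.2 fun a ha b hb => ⟨⁅⟨a, ha⟩, ⟨b, hb⟩⁆, Solv.commutator_le_frattini_of_isPGroup hQ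
      (commutator_mem_commutator trivial trivial), rfl⟩,
    fun a ha => ⟨_, Solv.pow_mem_frattini hQ ⟨a, ha⟩, pow_two a⟩⟩
  fth hP hQ hC hS := fth hP hQ hC hS
  fix hQ hn _ _ h := fix hQ hn h
  quo N := quo N

end Cfsg.Lib.P8
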