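import Cfsg.Agent.P8.Stm
import Cfsg.Agent.Solv.Glauberman
import Cfsg.Agent.Solv.CoprimeFixed
import Cfsg.Agent.Gold.Cm

/-!
# Groups with element orders at most 8: lifting through a projection with 2-group kernel
-/

set_option autoImplicit false

namespace Cfsg.Lib.P8

open Subgroup Cfsg.Lib.Trans Cfsg.Lib.Gold Cfsg.Lib.Solv
open scoped commutatorElement

universe u v

namespace PjBH

variable {G : Type u} [Group G] {X : Type v} [Group X] {H Q : Subgroup G} {π : G → X}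

theorem hom (h : Pj H Q π) :
    ∃ f : ↥H →* X, (∀ a : ↥H, f a = π a) ∧ Function.Surjective f ∧ f.ker = Q.subgroupOf H :=
  ⟨MonoidHom.mk' (fun a => π a) fun a b => h.mul _ a.2 _ b.2, fun _ => rfl,
    fun x => (h.sur x).elim fun a k => ⟨⟨a, k.1⟩, k.2⟩, Subgroup.ext fun a => h.ker _ a.2⟩

theorem one (h : Pj H Q π) : π 1 = 1 := (h.ker 1 H.one_mem).2 Q.one_mem

theorem inv (h : Pj H Q π) {a : G} (ha : a ∈ H) : π a⁻¹ = (π a)⁻¹ :=
  eq_inv_of_mul_eq_one_left (by rw [← h.mul _ (inv_mem ha) _ ha, inv_mul_cancel, one h])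

theorem pow (h : Pj H Q π) {a : G} (ha : a ∈ H) (n : ℕ) : π (a ^ n) = π a ^ n := by
  induction n with
  | zero => rw [pow_zero, pow_zero, one h]
  | succ n ih => rw [pow_succ, pow_succ, h.mul _ (pow_mem ha n) _ ha, ih]

theorem nor (h : Pj H Q π) : H ≤ Ns Q := by
  obtain ⟨f, -, -, e⟩ := hom h
  have : (Q.subgroupOf H).Normal := e ▸ inferInstance
  exact le_normalizer_of_normal_subgroupOf h.le

theorem eq_iff (h : Pj H Q π) {a b : G} (ha : a ∈ H) (hb : b ∈ H) : π a = π b ↔ a⁻¹ * b ∈ Q := by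
  rw [← h.ker _ (mul_mem (inv_mem ha) hb), h.mul _ (inv_mem ha) _ hb, inv h ha, inv_mul_eq_one]

theorem cj (h : Pj H Q π) {a b : G} (ha : a ∈ H) (hb : b ∈ H) : π (a * b * a⁻¹) = π a * π b * (π a)⁻¹ := by
  rw [h.mul _ (mul_mem ha hb) _ (inv_mem ha), h.mul _ ha _ hb, inv h ha]

theorem dvd (h : Pj H Q π) {a : G} (ha : a ∈ H) : orderOf (π a) ∣ orderOf a :=
  orderOf_dvd_of_pow_eq_one (by rw [← pow h ha, pow_orderOf_eq_one, one h])

theorem pw (h : Pj H Q π) {a : G} (ha : a ∈ H) : ∃ k, (a ^ orderOf (π a)) ^ 2 ^ k = 1 :=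
  (h.two ⟨_, (h.ker _ (pow_mem ha _)).1 (by rw [pow h ha, pow_orderOf_eq_one])⟩).imp
    fun _ => congrArg Subtype.val

theorem im (h : Pj H Q π) (A : Subgroup G) (hA : A ≤ H) :
    ∃ B : Subgroup X, (∀ y, y ∈ B ↔ ∃ a ∈ A, π a = y) ∧ Nat.card B = Q.relIndex A := by
  obtain ⟨f, e, -, k⟩ := hom h
  exact ⟨(A.subgroupOf H).map f, fun y => ⟨fun ⟨a, l, m⟩ => ⟨a, l, (e a).symm.trans m⟩,
    fun ⟨a, l, m⟩ => ⟨⟨a, hA l⟩, l, (e _).trans m⟩⟩, by rw [← relIndex_ker, k, relIndex_subgroupOf hA]⟩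

theorem odd (h : Pj H Q π) (a : G) (ha : a ∈ H) (o : Odd (orderOf (π a))) :
    ∃ b ∈ zpowers a, π b = π a ∧ orderOf b = orderOf (π a) := by
  obtain ⟨k, hk⟩ := pw h ha
  obtain ⟨e, e1, e2⟩ := Nat.chineseRemainder (Nat.Coprime.pow_right k (Nat.coprime_two_right.2 o)) 1 0
  obtain ⟨d, rfl⟩ := (Nat.modEq_zero_iff_dvd).1 e2
  have p : π (a ^ (2 ^ k * d)) = π a := by rw [pow h ha, pow_eq_pow_iff_modEq.2 e1, pow_one]
  refine ⟨_, npow_mem_zpowers a _, p, Nat.dvd_antisymm (orderOf_dvd_of_pow_eq_one ?_) (p ▸ dvd h (pow_mem ha _))⟩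
  rw [← pow_mul, mul_comm, pow_mul, pow_mul, hk, one_pow]

theorem o57 [Finite G] [Bas1.{u}] (h8 : Le8 G) (h : Pj H Q π) (a : G) (ha : a ∈ H)
    (o : orderOf (π a) = 5 ∨ orderOf (π a) = 7) : orderOf a = orderOf (π a) ∧ Q ⊓ C1 a = ⊥ := by
  have e : orderOf a = orderOf (π a) := by
    have d := dvd h ha
    have := h8 a
    have := orderOf_pos a
    rcases o with o | o <;> rw [o] at d ⊢ <;> omega
  refine ⟨e, eq_bot_iff.2 fun g hg => ?_⟩
  obtain ⟨k, hk⟩ := h.two ⟨g, hg.1⟩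
  have := Bas1.fpf h8 (e ▸ o) g (mem_C1.1 hg.2)
  exact (pow_eq_one_iff_of_coprime (Nat.Coprime.pow_right k (Nat.coprime_two_right.2 (by
    rcases o with o | o <;> rw [e, o] <;> decide)))).1 ⟨this, congrArg Subtype.val hk⟩

theorem cop [Finite G] {x : G} (o : Odd (orderOf x)) (hQ : IsPGroup 2 Q) :
    (Nat.card (zpowers x)).Coprime (Nat.card Q) := by
  obtain ⟨n, e⟩ := hQ.exists_card_eq
  rw [e, Nat.card_zpowers]
  exact (Nat.coprime_two_right.2 o).pow_right n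

end PjBH

open PjBH in
theorem pf_PjB [Bas1.{u}] : PjB.{u, v} where
  one h := ⟨one h, fun _ => inv h, fun _ => pow h, nor h, fun _ ha _ => eq_iff h ha⟩
  hom := hom
  card h := by
    obtain ⟨f, e, s, k⟩ := hom h
    refine ⟨.of_surjective f s, ?_, fun h8 x => ?_, fun _ => Group.isSolvable_of_surjective s, fun _ => ?_⟩
    · rw [relIndex, ← k, index_ker, MonoidHom.range_eq_top.2 s, card_top]
    · obtain ⟨a, ha, rfl⟩ := h.sur x
      exact (Nat.le_of_dvd (orderOf_pos a) (dvd h ha)).trans (h8 a)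
    · have := Coprime.isSolvable_of_isPGroup (k ▸ isPGroup_subgroupOf h.two _)
      exact Group.isSolvable_of_ker_le_range f.ker.subtype f (range_subtype _).ge
  im := im
  pre {G _ _ X _ H Q π} h B := by
    classical
    obtain ⟨f, e, s, k⟩ := hom h
    have m : ∀ a, a ∈ (B.comap f).map H.subtype ↔ a ∈ H ∧ π a ∈ B := fun a =>
      ⟨by rintro ⟨a, l, rfl⟩; exact ⟨a.2, e a ▸ l⟩, fun l => ⟨⟨a, l.1⟩, show f _ ∈ B by rw [e]; exact l.2, rfl⟩⟩
    have t : IsPGroup 2 B → IsPGroup 2 ((B.comap f).map H.subtype) := fun l =>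
      (l.comap_of_ker_isPGroup f (k ▸ isPGroup_subgroupOf h.two _)).map _
    generalize (B.comap f).map H.subtype = A at m t
    have le : Q ≤ A := fun a ha => (m a).2 ⟨h.le ha, (h.ker a (h.le ha)).2 ha ▸ B.one_mem⟩
    obtain ⟨B', h1, h2⟩ := im h A fun a ha => ((m a).1 ha).1
    obtain rfl : B' = B := Subgroup.ext fun y => (h1 y).trans ⟨fun ⟨a, l, n⟩ => n ▸ ((m a).1 l).2, fun l =>
      (h.sur y).imp fun a ⟨n, n'⟩ => ⟨(m a).2 ⟨n, n' ▸ l⟩, n'⟩⟩
    have p : ∀ a ∈ A, ((if l : π a ∈ B' then (⟨π a, l⟩ : B') else 1 : B') : X) = π a := fun a ha => by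
      rw [dif_pos ((m a).1 ha).2]
    refine ⟨A, m, le, h2.symm, t, _, ⟨le, h.two, fun a ha b hb => Subtype.ext ?_, fun y => ?_, fun a ha => ?_⟩, p⟩
    · rw [coe_mul, p a ha, p b hb, p _ (mul_mem ha hb), h.mul _ ((m a).1 ha).1 _ ((m b).1 hb).1]
    · exact ((h1 y).1 y.2).imp fun a l => ⟨l.1, Subtype.ext ((p a l.1).trans l.2)⟩
    · rw [Subtype.ext_iff, p a ha]; exact h.ker a ((m a).1 ha).1
  odd := odd
  twoP h a ha := fun ⟨n, e⟩ => by
    obtain ⟨k, hk⟩ := pw h ha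
    rw [e, ← pow_mul, ← pow_add] at hk
    exact ((Nat.dvd_prime_pow Nat.prime_two).1 (orderOf_dvd_of_pow_eq_one hk)).imp fun _ l => l.2
  o57 := o57
  cen h x hx o y c := by
    obtain ⟨g, hg, rfl⟩ := h.sur y
    obtain ⟨n, hn, k⟩ := exists_centralizer_mem_coset _ (zpowers x) ((zpowers_le.2 hx).trans (nor h))
      (cop o h.two) (.inl (Coprime.isSolvable_zpowers x)) g fun a ha => by
        obtain ⟨i, rfl⟩ := mem_powers_iff_mem_zpowers.2 ha
        dsimp only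
        rw [← eq_iff h hg (mul_mem (mul_mem (pow_mem hx i) hg) (inv_mem (pow_mem hx i))), cj h (pow_mem hx i) hg,
          pow h hx, ← (Commute.pow_right c i).eq, mul_inv_cancel_right]
    exact ⟨_, mul_mem hg (h.le hn), (k x (mem_zpowers x)).symm, by
      rw [h.mul _ hg _ (h.le hn), (h.ker n (h.le hn)).2 hn, mul_one]⟩
  inv {_ _ _ _ _ _ _ π} h j hj j2 r o e := by
    obtain ⟨n, hn⟩ := o
    obtain ⟨g, hg, k⟩ := h.sur (r ^ n)
    have ji : j⁻¹ = j := inv_eq_of_mul_eq_one_right j2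
    have m := mul_mem (mul_mem (mul_mem hj hg) (inv_mem hj)) (inv_mem hg)
    have p : π (j * g * j⁻¹ * g⁻¹) = r := by
      rw [h.mul _ (mul_mem (mul_mem hj hg) (inv_mem hj)) _ (inv_mem hg), cj h hj hg, inv h hg, k, ← conj_pow, e,
        inv_pow, ← mul_inv_rev, ← pow_add, ← two_mul, inv_eq_iff_mul_eq_one, ← pow_succ, ← hn, pow_orderOf_eq_one]
    obtain ⟨b, hb, b1, b2⟩ := odd h _ m (p ▸ ⟨n, hn⟩)
    refine ⟨b, zpowers_le.2 m hb, b1.trans p, p ▸ b2, ?_⟩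
    obtain ⟨i, rfl⟩ := hb
    rw [← conj_zpow, ← inv_zpow, ji]
    congr 1
    simp only [mul_inv_rev, ji, ← mul_assoc, j2, one_mul, inv_inv]
  syl h T hT := by
    obtain ⟨f, e, s, k⟩ := hom h
    have := Finite.of_surjective f s
    have := (hT.subgroupOf_top.map f)
    rw [map_top_of_surjective f s] at this
    obtain ⟨S, hS⟩ := this.exists_sylow_eq
    exact ⟨hT.le_of_normal h.two h.le (nor h), S, fun y => hS ▸ ⟨fun ⟨a, l, m⟩ => ⟨a, l, (e a).symm.trans m⟩,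
      fun ⟨a, l, m⟩ => ⟨⟨a, hT.le l⟩, l, (e _).trans m⟩⟩⟩
  equiv {_ _ _ _ H Q π _ _} e := by
    have k : Pj H Q π → Pj H Q fun g => e (π g) := fun h => ⟨h.le, h.two, fun a ha b hb => by
      rw [h.mul a ha b hb, map_mul], fun y => (h.sur (e.symm y)).imp fun a l => ⟨l.1, by rw [l.2]; simp⟩,
      fun a ha => by rw [← h.ker a ha, e.map_eq_one_iff]⟩
    exact ⟨k, fun h => ⟨k h.toPj, h.eq, h.ch, h.ne⟩⟩
  qw {G _ _ X _ _ H Q π} h8 h d U₁ U₂ le leQ n1 n2 j hj jQ c := by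
    obtain ⟨f, e, s, k⟩ := hom h
    have := Finite.of_surjective f s
    let K : Subgroup H :=
      { carrier := {g | ∀ a ∈ U₂, a⁻¹ * (g * a * g⁻¹) ∈ U₁}
        one_mem' := fun a _ => by simp
        mul_mem' := fun {x y} hx hy a ha => by
          simpa [mul_assoc] using mul_mem (hx a ha) ((mem_normalizer_iff.1 (n1 x.2) _).1 (hy a ha))
        inv_mem' := fun {x} hx a ha => by
          simpa [mul_assoc] using (mem_normalizer_iff''.1 (n1 x.2) _).1 (inv_mem (hx a ha)) }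
    have : K.Normal := ⟨fun x hx g a ha => by
      simpa [mul_assoc] using (mem_normalizer_iff.1 (n1 g.2) _).1
        (hx _ ((mem_normalizer_iff''.1 (n2 g.2) a).1 ha))⟩
    have top := ((this.map f s).eq_bot_or_eq_top).resolve_left fun l => jQ ((h.ker j hj).1 (by
      rw [← e ⟨j, hj⟩, ← mem_bot, ← l]
      refine mem_map_of_mem f fun a ha => ?_
      simpa [commutatorElement_def, mul_assoc] using
        c (commutator_mem_commutator (inv_mem ha) (mem_zpowers j))))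
    obtain ⟨y, o⟩ : ∃ y : X, orderOf y = 5 ∨ orderOf y = 7 := by
      rcases d with d | d
      · exact (exists_prime_orderOf_dvd_card' (hp := ⟨by norm_num⟩) 5 d).imp fun _ => .inl
      · exact (exists_prime_orderOf_dvd_card' (hp := ⟨by norm_num⟩) 7 d).imp fun _ => .inr
    obtain ⟨x, hx, rfl⟩ := top.ge (mem_top y)
    rw [e] at o
    obtain ⟨o1, o2⟩ := o57 h8 h x x.2 o
    intro a ha
    obtain ⟨n, hn, l⟩ := exists_centralizer_mem_coset U₁ (zpowers x.1) ((zpowers_le.2 x.2).trans n1)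
      (cop (by rcases o with o | o <;> rw [o1, o] <;> decide) (h.two.to_le (le.trans leQ)))
      (.inl (Coprime.isSolvable_zpowers _)) a (by rintro _ ⟨i, rfl⟩; exact zpow_mem hx i a ha)
    rw [← mul_mem_cancel_right hn, mem_bot.1 (o2.le ⟨leQ (mul_mem ha (le hn)),
      mem_C1.2 (l _ (mem_zpowers _)).symm⟩)]
    exact one_mem _

end Cfsg.Lib.P8
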