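import Cfsg.Agent.P8.Stm
import Cfsg.Agent.S2119

/-!
# The types of the nonsolvable subgroups of characteristic two
-/

set_option autoImplicit false

namespace Cfsg.Lib.P8

open Subgroup Cfsg.Lib.Trans Cfsg.Lib.Gold

universe u v

namespace TYPH

theorem a5 {X : Type u} [Group X] [Finite X] (L : Subgroup X) [L.Normal] (e : L ≃* A5)
    (c : Cs L = ⊥) : L = ⊤ ∨ Nonempty (X ≃* S5) := by
  let ψ : MulAut L ≃* S5 := (MulAut.congr e).trans (MulEquiv.ofBijective _
    (Agent.S2119.result 5 (by decide) (by decide))).symm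
  let φ : X →* S5 := ψ.toMonoidHom.comp MulAut.conjNormal
  have inj : Function.Injective φ := (injective_iff_map_eq_one _).2 fun g hg => by
    have k : MulAut.conjNormal (H := L) g = 1 := (MulEquiv.map_eq_one_iff ψ).1 hg
    refine mem_bot.1 (c ▸ mem_centralizer_iff.2 fun l hl => ?_)
    have := congrArg (fun f : MulAut L => (f ⟨l, hl⟩ : X)) k
    exact (mul_inv_eq_iff_eq_mul.1 this).symm
  have c5 : Nat.card S5 = 120 := by rw [Nat.card_perm]; simp [Nat.factorial]
  have cL : Nat.card L = 60 := by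
    have := card_mul_index (alternatingGroup (Fin 5))
    rw [alternatingGroup.index_eq_two, c5] at this
    rw [Nat.card_congr e.toEquiv]
    exact Nat.eq_of_mul_eq_mul_right two_pos this
  have h1 := card_dvd_of_injective φ inj
  have h2 := card_mul_index L
  rw [← h2, c5, cL] at h1
  rcases (Nat.dvd_prime Nat.prime_two).1
    (Nat.dvd_of_mul_dvd_mul_left (by decide : 0 < 60) h1) with k | k
  · exact .inl (index_eq_one.1 k)
  · exact .inr ⟨MulEquiv.ofBijective φ ((Nat.bijective_iff_injective_and_card φ).2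
      ⟨inj, by rw [← h2, c5, cL, k]⟩)⟩

theorem ord3 [PjB.{u, v}] {G : Type u} [Group G] {X : Type v} [Group X] {H Q : Subgroup G}
    {π : G → X} (pj : Pj H Q π) {x : G} (hx : x ∈ H) (o : orderOf x = 3) : orderOf (π x) = 3 := by
  have := Fact.mk Nat.prime_three
  obtain ⟨h1, -, h3, -⟩ := PjB.one pj
  refine orderOf_eq_prime (by rw [← h3 x hx, ← o, pow_orderOf_eq_one, h1]) fun k => ?_
  obtain ⟨n, hn⟩ := pj.two ⟨x, (pj.ker x hx).1 k⟩
  have d : orderOf x ∣ 2 ^ n := orderOf_dvd_of_pow_eq_one (congrArg Subtype.val hn)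
  rw [o] at d
  exact absurd (Nat.prime_three.dvd_of_dvd_pow d) (by decide)

end TYPH

theorem pf_TYP [Bas1.{u}] [PjB.{u, u}] [PjB.{u, 0}] [Brg.{u, u}] [Brg.{u, 0}] [MdA.{u, u}] [MA5.{u}]
    [M7.{u}] [M9b.{u}] [Soc.{u}] : TYP.{u} where
  out := fun {G} _ _ hP ih N ch ne ns => by
    obtain ⟨X, _, _, π, pj, o2⟩ := Brg.quo.{u, u} N
    have hN := (PjB.one pj).2.2.2.1
    obtain ⟨M, _, _, _, p, md, sec⟩ := Brg.sec hP pj (Brg.phi.{u, u} pj.two hN)
    have ft := Brg.fth.{u, u} pj rfl ch sec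
    have nt : Nontrivial M := by
      by_contra h
      rw [not_nontrivial_iff_subsingleton] at h
      have : frattini ↥(O2 N) = ⊤ := eq_top_iff.2 fun a _ => by
        obtain ⟨b, hb, e⟩ := (sec.zero a a.2).1 (Subsingleton.elim _ _)
        exact (Subtype.ext e : b = a) ▸ hb
      have k := frattini_nongenerating (K := ⊥) (by rw [this, sup_top_eq])
      refine ne (eq_bot_iff.2 fun a ha => ?_)
      have m : (⟨a, ha⟩ : O2 N) ∈ (⊥ : Subgroup (O2 N)) := by rw [k]; exact mem_top _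
      exact mem_bot.2 (congrArg Subtype.val (mem_bot.1 m))
    obtain ⟨-, cX, l8, -, sX⟩ := PjB.card pj
    have nX : ¬ Group.IsSolvable X := fun h => ns (sX h)
    have tX : Nontrivial X := by
      by_contra h
      rw [not_nontrivial_iff_subsingleton] at h
      exact nX inferInstance
    obtain ⟨L, _, _, nc, cL⟩ := Soc.soc (l8 hP) tX (Soc.nab (l8 hP) nX o2 md ft)
    have lt : Nat.card L < Nat.card G := by
      have h1 := card_le_card_group L
      have h2 := card_le_card_group N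
      have h3 := card_mul_index ((O2 N).subgroupOf N)
      rw [Nat.card_congr (subgroupOfEquivOfLe pj.le).toEquiv] at h3
      have h4 := (one_lt_card_iff_ne_bot _).2 ne
      have h5 : 0 < Nat.card X := Nat.card_pos
      change _ * (O2 N).relIndex N = _ at h3
      rw [cX] at h3
      nlinarith
    have ty : Ty N (O2 N) π := ⟨pj, rfl, ch, ne⟩
    have top : ∀ {Y : Type} [Group Y], L ≃* Y → L = ⊤ → ∃ π : G → Y, Ty N (O2 N) π :=
      fun e k => ⟨_, (PjB.equiv (topEquiv.symm.trans ((MulEquiv.subgroupCongr k).symm.trans e))).2 ty⟩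
    rcases ih L lt nc (Bas1.sub (l8 hP) L) with ⟨⟨e⟩⟩ | ⟨⟨e⟩⟩ | ⟨⟨e⟩⟩ | h
    · rcases TYPH.a5 L e cL with k | ⟨⟨f⟩⟩
      · exact .inl (top e k)
      · have ty' := (PjB.equiv f).2 ty
        refine .inr (.inl ⟨_, ty', fun x hx o => ?_⟩)
        by_contra n
        obtain ⟨U₁, U₂, ok, a, h2, h1, c⟩ := Brg.fix.{u, u} pj.two hN hx (by rw [o]; decide) n
        obtain ⟨M', _, _, _, p', md', sec'⟩ := Brg.sec hP ty'.toPj ok
        refine h1 ((sec'.zero a h2).1 (MA5.s5 md' _ (TYPH.ord3 ty'.toPj hx o) _ ?_))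
        rw [← sec'.eqv x hx a h2, ← c, mul_inv_cancel_right]
    · exact .inr (.inr (.inl (top e (M9b.out (l8 hP) md nt L ⟨e⟩ cL))))
    · exact .inr (.inr (.inr (top e (M7.l32 (l8 hP) md nt L ⟨e⟩ cL))))
    · exact absurd (M7.lst h (MdA.sub L md)) (not_subsingleton M)

end Cfsg.Lib.P8
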