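import Cfsg.Agent.P8.Brg
import Cfsg.Agent.P8.TYP

/-!
# The type `A₅`: the basic setting
-/

set_option autoImplicit false

namespace Cfsg.Lib.P8

open Subgroup Cfsg.Lib.Trans Cfsg.Lib.Gold
open scoped commutatorElement

universe u v

namespace A5FH

theorem f1 : ∀ y : A5, y * y = 1 ∨ y ^ 3 = 1 ∨ y ^ 5 = 1 := by decide +kernel

theorem f2 : ∀ (p : Fin 5) (a : A5), a.1 p = p ∧ a * a = 1 → ∀ b : A5, b.1 p = p ∧ b * b = 1 →
    a * b * (a * b) = 1 := by decide +kernel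

theorem f3 : ∀ s : A5, s ≠ 1 ∧ s * s = 1 → ∃ p, ∀ y : A5, y * s = s * y → y.1 p = p := by
  decide +kernel

theorem f4 : ∀ p : Fin 5, Fintype.card {y : A5 // y.1 p = p ∧ y * y = 1} = 4 := by decide +kernel

set_option synthInstance.maxSize 1000 in
theorem f5 : ∀ p : Fin 5, ∃ x : A5, (x.1 p = p ∧ x ^ 3 = 1 ∧ x ≠ 1) ∧
    (∀ y : A5, y.1 p = p ∧ y * y = 1 → (∃ y' : A5, (y'.1 p = p ∧ y' * y' = 1) ∧
      y' * x * y'⁻¹ * x⁻¹ = y) ∧ (y * x = x * y → y = 1)) ∧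
    ∀ g : A5, g.1 p = p → g * g = 1 ∨ g * x * (g * x) = 1 ∨ g * x⁻¹ * (g * x⁻¹) = 1 := by
  decide +kernel

theorem f6 : ∀ (p : Fin 5) (g : A5), g.1 p ≠ p → ∃ y : A5, (y.1 p = p ∧ y * y = 1) ∧
    (g * y * g⁻¹).1 p ≠ p ∧ ∃ y' : A5, (y'.1 p = p ∧ y' * y' = 1) ∧
      (y' * (g * y * g⁻¹)) ^ 5 = 1 ∧ y' * (g * y * g⁻¹) ≠ 1 := by decide +kernel

theorem f7 : ∀ j : A5, j ≠ 1 ∧ j * j = 1 → (∃ σ : A5, σ ^ 5 = 1 ∧ σ ≠ 1 ∧ j * σ * j⁻¹ = σ⁻¹) ∧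
    ∃ h : A5, (j * (h * j * h⁻¹)) ^ 5 = 1 ∧ j * (h * j * h⁻¹) ≠ 1 := by decide +kernel

/-- The four group fixing a point. -/
def V (p : Fin 5) : Subgroup A5 where
  carrier := {y | y.1 p = p ∧ y * y = 1}
  one_mem' := ⟨rfl, one_mul 1⟩
  mul_mem' {a b} ha hb := ⟨by rw [coe_mul, Equiv.Perm.mul_apply, hb.1, ha.1], f2 p a ha b hb⟩
  inv_mem' {a} ha := by rwa [inv_eq_of_mul_eq_one_right ha.2]

theorem V_eq_1' : type_of% @V.eq_1 := @V.eq_1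

theorem syl (S : Sylow 2 A5) : ∃ p, (S : Subgroup A5) = V p := by
  have two : ∀ p, IsPGroup 2 (V p) := fun p y => ⟨1, Subtype.ext (by
    rw [pow_one, pow_two]; exact y.2.2)⟩
  have sq : ∀ y ∈ (S : Subgroup A5), y * y = 1 := fun y hy => by
    obtain ⟨n, hn⟩ := S.2 ⟨y, hy⟩
    have d : orderOf y ∣ 2 ^ n := orderOf_dvd_of_pow_eq_one (congrArg Subtype.val hn)
    have k : ∀ m, Odd m → y ^ m = 1 → y * y = 1 := fun m o h => by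
      rw [orderOf_eq_one_iff.1 (Nat.eq_one_of_dvd_coprimes (Nat.Coprime.pow_left n
        (Nat.coprime_two_left.2 o)) d (orderOf_dvd_of_pow_eq_one h)), one_mul]
    exact (f1 y).elim id fun h => h.elim (k 3 (by decide)) (k 5 (by decide))
  by_cases h : ∃ s ∈ (S : Subgroup A5), s ≠ 1
  · obtain ⟨s, hs, n⟩ := h
    obtain ⟨p, hp⟩ := f3 s ⟨n, sq s hs⟩
    refine ⟨p, (S.3 (two p) fun y hy => ⟨hp y ?_, sq y hy⟩).symm⟩
    rw [← inv_eq_of_sq (sq _ (mul_mem hy hs)), mul_inv_rev, inv_eq_of_sq (sq y hy),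
      inv_eq_of_sq (sq s hs)]
  · push Not at h
    exact ⟨0, (S.3 (two 0) fun y hy => h y hy ▸ one_mem _).symm⟩

variable {G : Type u} [Group G] [Finite G] {H Q T : Subgroup G} {π : G → A5} {x : G}

theorem ex [PjB.{u, 0}] (hP : Le8 G) (pj : Pj H Q π) (hT : IsSylowIn 2 T H) : ∃ x, AT H Q T x := by
  have := Fact.mk Nat.prime_three
  have := Fact.mk Nat.prime_five
  obtain ⟨le, S, hS⟩ := PjB.syl pj T hT
  obtain ⟨p, e⟩ := syl S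
  obtain ⟨h1, h2, -, -, h5⟩ := PjB.one pj
  rw [e] at hS
  have mT : ∀ {h}, h ∈ H → (h ∈ T ↔ (π h).1 p = p ∧ π h * π h = 1) := fun {h} hh =>
    ⟨fun k => (hS _).2 ⟨h, k, rfl⟩, fun k => by
      obtain ⟨t, ht, r⟩ := (hS _).1 k
      simpa using mul_mem ht (le ((h5 t (hT.1 ht) h hh).1 r))⟩
  have cj : ∀ {a b}, a ∈ H → b ∈ H → π (a * b * a⁻¹) = π a * π b * (π a)⁻¹ := fun ha hb => by
    rw [pj.mul _ (mul_mem ha hb) _ (inv_mem ha), pj.mul _ ha _ hb, h2 _ ha]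
  have nr : ∀ {h}, h ∈ H → (π h).1 p = p → h ∈ Ns T := fun {h} hh k =>
    mem_normalizer_fintype fun t ht => by
      have m := (mT (hT.1 ht)).1 ht
      rw [SetLike.mem_coe, mT (mul_mem (mul_mem hh (hT.1 ht)) (inv_mem hh)), cj hh (hT.1 ht),
        conj_mul, m.2]
      refine ⟨?_, by simp⟩
      rw [coe_mul, coe_mul, Equiv.Perm.mul_apply, Equiv.Perm.mul_apply, coe_inv,
        Equiv.Perm.inv_eq_iff_eq.2 k.symm, m.1, k]
  obtain ⟨y, ⟨y1, y2, y3⟩, y4, y5⟩ := f5 p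
  obtain ⟨a, ha, rfl⟩ := pj.sur y
  have o := orderOf_eq_prime y2 y3
  obtain ⟨x, hx, ex, ox⟩ := PjB.odd pj a ha (by rw [o]; decide)
  have xH : x ∈ H := zpowers_le.2 ha hx
  rw [← ex] at y1 y4 y5
  refine ⟨x, hT, le, ?_, fun t ht => ?_, xH, ox.trans o, nr xH y1, fun t ht => ?_, fun t ht => ?_,
    fun h hh => ?_, fun N h1 h2 h3 g hg => ?_, fun j hj n jj => ?_, fun j hj n jj => ?_⟩
  · obtain ⟨B, hB, c⟩ := PjB.im pj T hT.1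
    rw [← c, show B = V p from ext fun y => (hB y).trans (hS y).symm, ← f4 p,
      ← Nat.card_eq_fintype_card]
    rfl
  · rw [← pj.ker _ (hT.1 (mul_mem ht ht)), pj.mul _ (hT.1 ht) _ (hT.1 ht)]
    exact ((mT (hT.1 ht)).1 ht).2
  · obtain ⟨y, m, r⟩ := (y4 _ ((mT (hT.1 ht)).1 ht)).1
    obtain ⟨s, hs, rfl⟩ := (hS y).1 m
    have c : s * x * s⁻¹ * x⁻¹ ∈ H := mul_mem (mul_mem (mul_mem (hT.1 hs) xH) (inv_mem (hT.1 hs)))
      (inv_mem xH)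
    have q := (h5 _ c t (hT.1 ht)).1 (by
      rw [← r, pj.mul _ (mul_mem (mul_mem (hT.1 hs) xH) (inv_mem (hT.1 hs))) _ (inv_mem xH),
        cj (hT.1 hs) xH, h2 _ xH])
    simpa [commutatorElement_def, mul_assoc] using
      mul_mem_sup (commutator_mem_commutator hs (mem_zpowers x)) q
  · refine (pj.ker _ (hT.1 ht.1)).1 ((y4 _ ((mT (hT.1 ht.1)).1 ht.1)).2 ?_)
    rw [← pj.mul _ (hT.1 ht.1) _ xH, mem_centralizer_singleton_iff.1 ht.2, pj.mul _ xH _ (hT.1 ht.1)]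
  · have k : (π h).1 p = p := by
      by_contra n
      obtain ⟨y, m, r, -⟩ := f6 p _ n
      obtain ⟨s, hs, rfl⟩ := (hS y).1 m
      have := mem_normalizer_conj hh.2 hs
      exact r (cj hh.1 (hT.1 hs) ▸ ((mT (hT.1 this)).1 this).1)
    have k' : ∀ {w}, w ∈ zpowers x → (π w).1 p = p → π h * π w * (π h * π w) = 1 →
        h ∈ T ⊔ zpowers x := fun {w} hw f s => by
      have wH := zpowers_le.2 xH hw
      have : h * w ∈ T := by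
        rw [mT (mul_mem hh.1 wH), pj.mul _ hh.1 _ wH]
        exact ⟨by rw [coe_mul, Equiv.Perm.mul_apply, f, k], s⟩
      simpa using mul_mem_sup this (inv_mem hw)
    rcases y5 _ k with r | r | r
    · exact mem_sup_left ((mT hh.1).2 ⟨k, r⟩)
    · exact k' (mem_zpowers x) y1 r
    · exact k' (inv_mem (mem_zpowers x)) (by
        rw [h2 _ xH, coe_inv, Equiv.Perm.inv_eq_iff_eq.2 y1.symm]) (by rwa [h2 _ xH])
  · refine nr (h2 hg) ?_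
    by_contra n
    obtain ⟨y, m, -, y', m', r1, r2⟩ := f6 p _ n
    obtain ⟨s, hs, rfl⟩ := (hS y).1 m
    obtain ⟨s', hs', rfl⟩ := (hS y').1 m'
    have c : s' * (g * s * g⁻¹) ∈ N := mul_mem (h1 hs') (mul_mem (mul_mem hg (h1 hs)) (inv_mem hg))
    have o5 : orderOf (π (s' * (g * s * g⁻¹))) = 5 := by
      rw [pj.mul _ (hT.1 hs') _ (h2 (mul_mem (mul_mem hg (h1 hs)) (inv_mem hg))),
        cj (h2 hg) (hT.1 hs)]
      exact orderOf_eq_prime r1 r2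
    exact h3 (o5 ▸ (PjB.o57 hP pj _ (h2 c) (.inl o5)).1 ▸ orderOf_dvd_natCard N c)
  · obtain ⟨σ, s1, s2, s3⟩ := (f7 (π j) ⟨mt (pj.ker j hj).1 n, by rw [← pj.mul j hj j hj, jj, h1]⟩).1
    have o5 := orderOf_eq_prime s1 s2
    obtain ⟨b, hb, -, e2, e3⟩ := PjB.inv pj j hj jj σ (by rw [o5]; decide) s3
    exact ⟨b, hb, e2.trans o5, e3⟩
  · obtain ⟨σ, s1, s2⟩ := (f7 (π j) ⟨mt (pj.ker j hj).1 n, by
      rw [← pj.mul j hj j hj, (pj.ker _ (mul_mem hj hj)).2 jj]⟩).2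
    obtain ⟨b, hb, rfl⟩ := pj.sur σ
    have c : b * j * b⁻¹ ∈ H := mul_mem (mul_mem hb hj) (inv_mem hb)
    have o5 : orderOf (π (j * (b * j * b⁻¹))) = 5 := by
      rw [pj.mul _ hj _ c, cj hb hj]
      exact orderOf_eq_prime s1 s2
    exact ⟨b, hb, (PjB.o57 hP pj _ (mul_mem hj c) (.inl o5)).1.trans o5⟩

theorem im [PjB.{u, 0}] (pj : Pj H Q π) (h : AT H Q T x) : ∃ B : Subgroup A5,
    (∀ y, y ∈ B ↔ ∃ a ∈ T, π a = y) ∧ Nat.card B = 4 ∧ orderOf (π x) = 3 ∧ π x ∈ Ns B := by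
  obtain ⟨B, hB, c⟩ := PjB.im pj T h.syl.1
  refine ⟨B, hB, c.trans h.idx, TYPH.ord3 pj h.xH h.ox, mem_normalizer_fintype fun y hy => ?_⟩
  obtain ⟨t, ht, rfl⟩ := (hB y).1 hy
  refine (hB _).2 ⟨_, mem_normalizer_conj h.xT ht, ?_⟩
  rw [pj.mul _ (mul_mem h.xH (h.syl.1 ht)) _ (inv_mem h.xH), pj.mul _ h.xH _ (h.syl.1 ht),
    (PjB.one pj).2.1 _ h.xH]

theorem o [Bas2.{u}] [PjB.{u, 0}] [Brg.{u, 0}] [MA5.{u}] (hP : Le8 G) (pj : Pj H Q π)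
    (h : AT H Q T x) (n : T ⊓ C1 x ≠ ⊥) : ⁅T, zpowers x⁆ ⊓ C1 x ≠ ⊥ := by
  have od : Odd (orderOf x) := by rw [h.ox]; decide
  obtain ⟨U₁, U₂, ok, a, a2, a1, c⟩ := Brg.fix.{u, 0} pj.two (PjB.one pj).2.2.2.1 h.xH od
    fun k => n (eq_bot_iff.2 (k ▸ le_inf h.fix inf_le_right))
  obtain ⟨M, _, _, _, p, md, sec⟩ := Brg.sec hP pj ok
  obtain ⟨B, hB, cB, o3, nB⟩ := im pj h
  obtain ⟨m, t, ht, w0, wx, -⟩ := MA5.a md B (π x) cB o3 nB ⟨p a, mt (sec.zero a a2).1 a1, by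
    rw [← sec.eqv x h.xH a a2, ← c, mul_inv_cancel_right]⟩
  obtain ⟨-, -, -, RT, TR⟩ := Bas2.cop h.syl.2.1 h.xT od
  have cm : ∀ t ∈ T, ⁅t, x⁆ ∈ ⁅T, zpowers x⁆ := fun t ht =>
    commutator_mem_commutator ht (mem_zpowers x)
  have gen := h.gen
  generalize ⁅T, zpowers x⁆ = R at RT TR cm gen
  obtain ⟨r, hr, rfl⟩ : ∃ r ∈ R, π r = t := by
    obtain ⟨t, ht', rfl⟩ := (hB t).1 ht
    obtain ⟨B', hB', -⟩ := PjB.im pj R (RT.trans h.syl.1)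
    obtain ⟨A, hA, QA, -⟩ := PjB.pre pj B'
    exact (hB' _).1 ((hA t).1 (sup_le (fun r hr => (hA r).2 ⟨h.syl.1 (RT hr), (hB' _).2
      ⟨r, hr, rfl⟩⟩) QA (gen ht'))).2
  have rH := h.syl.1 (RT hr)
  obtain ⟨b, hb, rfl⟩ := sec.sur m
  have c2 : r * b * r⁻¹ * b⁻¹ ∈ U₂ := mul_mem (mem_normalizer_conj (ok.n2 rH) hb) (inv_mem hb)
  have cR : r * b * r⁻¹ * b⁻¹ ∈ R := by
    simpa [mul_assoc] using mul_mem hr (mem_normalizer_conj (TR (h.le (ok.leQ hb))) (inv_mem hr))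
  have pc : p (r * b * r⁻¹ * b⁻¹) = p b + π r • p b := by
    rw [sec.add _ (mem_normalizer_conj (ok.n2 rH) hb) _ (inv_mem hb), sec.eqv r rH b hb,
      BrgH.p_inv sec.add hb, neg_eq_of_add_eq_zero_right (md.two _), add_comm]
  rw [← pc] at w0 wx
  generalize r * b * r⁻¹ * b⁻¹ = c at c2 cR w0 wx
  have xR : x ∈ Ns R := mem_normalizer_fintype fun r hr => by
    simpa [commutatorElement_def, mul_assoc] using mul_mem (inv_mem (cm r (RT hr))) hr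
  have ni : ∀ {g} {U : Subgroup G}, g ∈ Ns R → g ∈ Ns U → g ∈ Ns (R ⊓ U) := fun h1 h2 =>
    mem_normalizer_fintype fun r hr =>
      mem_inf.2 ⟨mem_normalizer_conj h1 hr.1, mem_normalizer_conj h2 hr.2⟩
  obtain ⟨d, hd, d1, d2⟩ := Bas2.lift (U₁ := R ⊓ U₁) (U₂ := R ⊓ U₂) (x := x) (a := c)
    (h.syl.2.1.to_le (inf_le_left.trans RT)) (inf_le_inf_left _ ok.le)
    (fun g hg => ni (le_normalizer hg.1) (ok.n1 (h.syl.1 (RT hg.1)))) (ni xR (ok.n1 h.xH))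
    (ni xR (ok.n2 h.xH)) od ⟨cR, c2⟩ ⟨cm c (RT cR), by
      have k := mem_normalizer_conj (ok.n2 h.xH) (inv_mem c2)
      rw [commutatorElement_def, mul_assoc, mul_assoc, ← mul_assoc x]
      refine (sec.zero _ (mul_mem c2 k)).1 ?_
      rw [sec.add _ c2 _ k, sec.eqv x h.xH _ (inv_mem c2), BrgH.p_inv sec.add c2, smul_neg, wx,
        add_neg_cancel]⟩
  intro k
  have : d = 1 := mem_bot.1 (k ▸ mem_inf.2 ⟨hd.1, mem_centralizer_singleton_iff.2 d1⟩)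
  rw [this, mul_one] at d2
  exact w0 ((sec.zero c c2).2 (inv_mem_iff.1 (mem_inf.1 d2).2))

theorem q [BasJ.{u}] [PjB.{u, 0}] [Brg.{u, 0}] [MA5.{u}] (hP : Le8 G) (pj : Pj H Q π)
    (h : AT H Q T x) (n : Om T ⊓ C1 x = ⊥) (t : G) (ht : t ∈ T) (tQ : t ∉ Q) :
    Om Q ⊓ C1 t ≤ Om T := by
  have ok := Brg.om.{u, 0} (PjB.one pj).2.2.2.1
  obtain ⟨M, _, _, _, p, md, sec⟩ := Brg.sec hP pj ok
  obtain ⟨B, hB, cB, o3, nB⟩ := im pj h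
  have fx : ∀ g ∈ H, ∀ a ∈ Om Q, π g • p a = p a → g * a = a * g := fun g hg a ha e => by
    rw [← sec.eqv g hg a ha, BrgH.p_eq sec.add sec.zero (mem_normalizer_conj (ok.n2 hg) ha) ha,
      mem_bot, inv_mul_eq_one, mul_inv_eq_iff_eq_mul] at e
    exact e
  have om : ∀ a ∈ Om Q, (∀ s ∈ B, s • p a = p a) → a ∈ Om T := fun a ha k =>
    (BasJ.leT T).2.2.2.2.2.2 a (h.le (ok.leQ ha)) (fun s hs => mem_centralizer_singleton_iff.2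
      (fx s (h.syl.1 hs) a ha (k _ ((hB _).2 ⟨s, hs, rfl⟩)))) (ok.sq a ha)
  intro b hb
  refine om b hb.1 (MA5.b md B (π x) cB o3 (fun m hm => ?_) (π t) ((hB _).2 ⟨t, ht, rfl⟩)
    (mt (pj.ker t (h.syl.1 ht)).1 tQ) _ ?_)
  · by_contra m0
    obtain ⟨m, s, -, w0, wx, wT⟩ := MA5.a md B (π x) cB o3 nB ⟨m, m0, hm⟩
    obtain ⟨c, hc, e⟩ := sec.sur (m + s • m)
    rw [← e] at w0 wx wT
    exact w0 ((sec.zero c hc).2 (n ▸ mem_inf.2 ⟨om c hc wT,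
      mem_centralizer_singleton_iff.2 (fx x h.xH c hc wx).symm⟩))
  · rw [← sec.eqv t (h.syl.1 ht) b hb.1, ← mem_centralizer_singleton_iff.1 hb.2,
      mul_inv_cancel_right]

end A5FH

theorem pf_A5F [Bas2.{u}] [BasJ.{u}] [PjB.{u, 0}] [Brg.{u, 0}] [MA5.{u}] : A5F.{u} where
  ex hP _ _ _ _ ty hT := A5FH.ex hP ty.toPj hT
  o hP _ _ _ _ _ ty h := A5FH.o hP ty.toPj h
  q hP _ _ _ _ _ ty h := A5FH.q hP ty.toPj h

end Cfsg.Lib.P8
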