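import Cfsg.Agent.P8.Stm
import Cfsg.Agent.Trans.Thompson
import Cfsg.Agent.Local.CharP
import Cfsg.Agent.Gold.Cm
import Cfsg.Agent.Solv.PGroupNormal
import Cfsg.Agent.S0199

/-! Thompson subgroup, `Ω₁ Z` and `O₂`. -/

set_option autoImplicit false

namespace Cfsg.Lib.P8

open Subgroup Cfsg.Lib.Trans Cfsg.Lib.Gold
open scoped commutatorElement

universe u v

namespace BasJH

variable {G : Type u} [Group G] [Finite G]

theorem off {T Q V A : Subgroup G} (hA : A ≤ T) (hV : V ≤ T) (eA : EA A) (eV : EA V)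
    (hc : A ⊓ Q ≤ Cs V) (hm : ∀ B : Subgroup G, B ≤ T → EA B → Nat.card B ≤ Nat.card A)
    (VQ : V ≤ Q) : A.relIndex V ≤ Q.relIndex A := by
  have h1 := hm _ (sup_le (inf_le_left.trans hA) hV) (TJ.ea_sup (TJ.ea_mono eA inf_le_left) eV hc)
  have h2 := Solv.card_sup_mul_card_inf_of_le_normalizer (N := V) (H := A ⊓ Q) (hc.trans Cs_le_Ns)
  have h3 := card_mul_relIndex (inf_le_right : A ⊓ V ≤ V)
  have h4 := card_mul_relIndex (inf_le_left : A ⊓ Q ≤ A)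
  rw [inf_relIndex_right] at h3
  rw [inf_relIndex_left] at h4
  rw [show V ⊓ (A ⊓ Q) = A ⊓ V from le_antisymm (fun x hx => ⟨hx.2.1, hx.1⟩)
    fun x hx => ⟨hx.2, hx.1, VQ hx.2⟩, sup_comm, ← h3, mul_comm (Nat.card ↥(A ⊓ Q ⊔ V)), mul_assoc] at h2
  have h5 := Nat.eq_of_mul_eq_mul_left Nat.card_pos h2
  rw [h5, ← h4, mul_comm] at h1
  exact Nat.le_of_mul_le_mul_left h1 Nat.card_pos

theorem bs {N A : Subgroup G} (hA : A ≤ N) (h2 : IsPGroup 2 A) (hn : ¬ A ≤ O2 N) :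
    ∃ n ∈ N, ¬ IsPGroup 2 ↥(A ⊔ cj n A) := by
  have : Fact (Nat.Prime 2) := ⟨Nat.prime_two⟩
  by_contra! h
  obtain ⟨M, hM, pM, le⟩ := Cfsg.Agent.S0199.result (p := 2) (A.subgroupOf N)
    (isPGroup_subgroupOf h2 N) fun g => (isPGroup_subgroupOf (h g g.2) N).to_le (sup_le
      (comap_mono le_sup_left) (by
        rintro _ ⟨x, hx, rfl⟩
        exact mem_sup_right (conj_mem_cj.2 hx)))
  exact hn fun a ha => ⟨⟨a, hA ha⟩, le_sSup (s := {M : Subgroup N | M.Normal ∧ IsPGroup 2 M})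
    ⟨hM, pM⟩ (le ha), rfl⟩

theorem zfix {T U₁ U₂ : Subgroup G} (hT : IsPGroup 2 T) (hU : IsPGroup 2 U₂) (lt : U₁ < U₂)
    (n2 : T ≤ Ns U₂) : ∃ a ∈ U₂, a ∉ U₁ ∧ ∀ t ∈ T, ⁅a, t⁆ ∈ U₁ := by
  have : Fact (Nat.Prime 2) := ⟨Nat.prime_two⟩
  have p : IsPGroup 2 ↥(U₂ ⊔ T) := IsPGroup.to_sup_of_normal_left' hU hT n2
  obtain ⟨a, ha, na, h⟩ := Solv.PG.exists_not_mem_commutator_mem p.isNilpotent le_sup_left
    (sup_le le_normalizer n2) lt.not_ge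
  exact ⟨a, ha, na, fun t ht => (h t (mem_sup_right ht)).1⟩

end BasJH

theorem pf_BasJ : BasJ.{u} where
  ex := fun h => by
    obtain ⟨A, hA, hn⟩ : ∃ A, TJ.MaxEA 2 _ A ∧ ¬ A ≤ _ := by
      by_contra! k
      exact h (TJ.J_le_iff.2 k)
    exact ⟨A, hA.le, hA.ea, hn, hA.2.2⟩
  le := fun h1 h2 h3 =>
    have m : TJ.MaxEA 2 _ _ := ⟨h1, h2, h3⟩
    ⟨m.le_J, fun _ hy e => m.mem_of_mem_centralizer hy.1 hy.2 (by rw [pow_two, e])⟩
  leT := fun T => ⟨TJ.J_le T, TJ.normalizer_le_normalizer_J T,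
    (TJ.omegaOne_le _).trans inf_le_left, TJ.normalizer_le_normalizer_omegaOne_center T,
    TJ.ea_omegaOne_center T, le_Cs_comm.1 ((TJ.omegaOne_le _).trans inf_le_right),
    fun _ hy h e => TJ.mem_omegaOne_center_iff.2
      ⟨hy, mem_Cs.2 fun _ ht => mem_C1.1 (h ht), by rw [pow_two, e]⟩⟩
  ne := fun h1 h2 =>
    have : Fact (Nat.Prime 2) := ⟨Nat.prime_two⟩
    ⟨TJ.J_ne_bot h1 h2, TJ.omegaOne_ne_bot (h1.to_le inf_le_left)
      (Solv.PG.inf_centralizer_ne_bot h1 h1 le_normalizer h2)⟩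
  eq := fun h1 h2 => TJ.J_eq_of_le h2 h1
  off := BasJH.off
  bs := BasJH.bs
  o2 := fun N =>
    have : Fact (Nat.Prime 2) := ⟨Nat.prime_two⟩
    ⟨Local.pCoreOf_le N, Local.isPGroup_pCoreOf N, Local.normalizer_le_normalizer_pCoreOf N,
      fun _ h1 h2 h3 => Local.le_pCoreOf h1 h3 h2, fun _ h => Local.pCoreOf_le_sylowIn h⟩
  zfix := fun h1 h2 h3 _ h4 _ => BasJH.zfix h1 h2 h3 h4

end Cfsg.Lib.P8
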