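import Cfsg.Agent.P8.Bas1
import Cfsg.Agent.Trans.MinimalAction
import Cfsg.Agent.Solv.CoprimeGen
import Cfsg.Agent.Solv.SecRank
import Cfsg.Agent.Local.CharP
import Cfsg.Agent.S1232

/-! Coprime action and characteristic 2. -/

set_option autoImplicit false

namespace Cfsg.Lib.P8

open Subgroup Cfsg.Lib.Trans Cfsg.Lib.Gold
open scoped commutatorElement

universe u v

namespace Bas2H

variable {G : Type u} [Group G] [Finite G]

theorem cp {T : Subgroup G} {x : G} (hT : IsPGroup 2 T) (ho : Odd (orderOf x)) :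
    (Nat.card (zpowers x)).Coprime (Nat.card T) := by
  have : Fact (Nat.Prime 2) := ⟨Nat.prime_two⟩
  obtain ⟨k, hk⟩ := IsPGroup.iff_card.1 hT
  rw [hk, Nat.card_zpowers]
  exact Nat.Coprime.pow_right k (Nat.coprime_two_right.2 ho)

theorem cop {T : Subgroup G} {x : G} (hT : IsPGroup 2 T) (hx : x ∈ Ns T) (ho : Odd (orderOf x)) :
    T ≤ ⁅T, zpowers x⁆ ⊔ (T ⊓ C1 x) ∧ ⁅⁅T, zpowers x⁆, zpowers x⁆ = ⁅T, zpowers x⁆ ∧
      ⁅T, zpowers x⁆ ⊓ C1 x ≤ ⁅⁅T, zpowers x⁆, ⁅T, zpowers x⁆⁆ ∧ ⁅T, zpowers x⁆ ≤ T ∧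
        T ≤ Ns ⁅T, zpowers x⁆ := by
  have n := zpowers_le.2 hx
  have c := cp hT ho
  have le : ⁅T, zpowers x⁆ ≤ T := commutator_le_left_of_le n
  have e := Solv.Coprime.commutator_commutator n c
  refine ⟨?_, e, ?_, le, left_le_Ns_commutator⟩
  · rw [← Cs_zpowers]
    exact (Solv.Coprime.commutator_sup_centralizer n c
      (.inl (Solv.Coprime.isSolvable_zpowers x))).ge
  · have := inf_centralizer_inf_commutator_le (K := ⁅T, zpowers x⁆) (A := zpowers x)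
      right_le_Ns_commutator (cp (hT.to_le le) ho)
    rw [e] at this
    rw [← Cs_zpowers]
    exact (le_inf le_rfl inf_le_left).trans this

theorem lift {U₁ U₂ : Subgroup G} {x a : G} (hU : IsPGroup 2 U₂) (le : U₁ ≤ U₂) (n : U₂ ≤ Ns U₁)
    (hx : x ∈ Ns U₁) (ho : Odd (orderOf x)) (ha : a ∈ U₂) (e : ⁅a, x⁆ ∈ U₁) :
    ∃ b ∈ U₂, b * x = x * b ∧ a⁻¹ * b ∈ U₁ := by
  have e1 : a⁻¹ * (x * a * x⁻¹) ∈ U₁ := by
    have := mem_normalizer_conj' (n ha) (inv_mem e)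
    rwa [show a⁻¹ * ⁅a, x⁆⁻¹ * a = a⁻¹ * (x * a * x⁻¹) by rw [commutatorElement_def]; group] at this
  obtain ⟨h, hh, c⟩ := Solv.Coprime.exists_mul_mem_centralizer (A := zpowers x) (zpowers_le.2 hx)
    (cp (hU.to_le le) ho) (.inl (Solv.Coprime.isSolvable_zpowers x)) (g := a) fun y hy => by
      obtain ⟨m, rfl⟩ := mem_powers_iff_mem_zpowers.2 hy
      induction m with
      | zero => simp
      | succ m ih =>
        have := mul_mem e1 (mem_normalizer_conj hx (ih (pow_mem (mem_zpowers x) m)))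
        rwa [show a⁻¹ * (x * a * x⁻¹) * (x * (a⁻¹ * (x ^ m * a * (x ^ m)⁻¹)) * x⁻¹) =
          a⁻¹ * (x ^ (m + 1) * a * (x ^ (m + 1))⁻¹) by group] at this
  exact ⟨a * h, mul_mem ha (le hh), (c x (mem_zpowers x)).symm, by simpa using hh⟩

theorem idx2 {D : Subgroup G} {x w q : G} (hD : IsPGroup 2 D) (hx : x ∈ Ns D)
    (hK : x ∈ Ns (D ⊓ C1 w)) (ho : Odd (orderOf x)) (hi : (C1 w).relIndex D ≤ 2) (hq : q ∈ D)
    (nq : q ∉ C1 w) : ∃ b ∈ D, b * x = x * b ∧ q⁻¹ * b ∈ C1 w := by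
  have i2 : (C1 w).relIndex D = 2 := by
    have h0 : (C1 w).relIndex D ≠ 0 := index_ne_zero_of_finite
    have h1 : (C1 w).relIndex D ≠ 1 := fun e => nq (relIndex_eq_one.1 e hq)
    omega
  have two : ∀ a ∈ D, ∀ b ∈ D, (a * b ∈ C1 w ↔ (a ∈ C1 w ↔ b ∈ C1 w)) := fun a ha b hb =>
    mul_mem_iff_of_index_two (H := (C1 w).subgroupOf D) i2 (a := ⟨a, ha⟩) (b := ⟨b, hb⟩)
  have n : D ≤ Ns (D ⊓ C1 w) := fun a ha => mem_normalizer_of_cj_le (cj_le_iff.2 fun g hg => by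
    have g1 : g ∈ D := (mem_inf.1 hg).1
    have g2 : g ∈ C1 w := (mem_inf.1 hg).2
    have g3 : a * g * a⁻¹ ∈ C1 w := by
      rw [two _ (mul_mem ha g1) _ (inv_mem ha), two _ ha _ g1, inv_mem_iff]
      tauto
    exact mem_inf.2 ⟨mul_mem (mul_mem ha g1) (inv_mem ha), g3⟩)
  have m := mem_normalizer_conj hx (inv_mem hq)
  obtain ⟨b, hb, e, k⟩ := lift hD inf_le_left n hK ho hq (by
    rw [show ⁅q, x⁆ = q * (x * q⁻¹ * x⁻¹) by rw [commutatorElement_def]; group]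
    refine ⟨mul_mem hq m, (two _ hq _ m).2 (iff_of_false nq fun k => nq ?_)⟩
    have : x⁻¹ * (x * q⁻¹ * x⁻¹) * x ∈ C1 w := (mem_normalizer_conj' hK ⟨m, k⟩).2
    rwa [show x⁻¹ * (x * q⁻¹ * x⁻¹) * x = q⁻¹ by group, inv_mem_iff] at this)
  exact ⟨b, hb, e, k.2⟩

theorem rk3 (h : Le8 G) {D : Subgroup G} {x w : G} (hD : IsPGroup 2 D) (hx : x ∈ Ns D)
    (o : orderOf x = 3) (hw : w ∈ D) (e : w * x = x * w) (hi : (C1 w).relIndex D ≤ 2) :
    D ≤ C1 w := fun q hq => by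
  by_contra nq
  obtain ⟨b, hb, e', k⟩ := idx2 hD hx (mem_Ns_inf hx (mem_Ns_C1 e.symm)) (by rw [o]; decide) hi hq nq
  have := TJ.ea_comm (Bas1H.c3 h o (hD.to_le (inf_le_left : D ⊓ C1 x ≤ D)) inf_le_right)
    ⟨hb, mem_C1.2 e'⟩ ⟨hw, mem_C1.2 e⟩
  exact nq (inv_mem_iff.1 ((mul_mem_cancel_right (mem_C1.2 this)).1 k))

theorem five {A : Type*} [CommGroup A] (y u : Fin 5 → A) (sq : ∀ i, y i * y i = 1)
    (inj : Function.Injective y) (ne : ∀ i, y i ≠ 1) (hy : ∏ i, y i = 1) (hu : ∏ i, u i = 1)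
    (h : ∀ i, u i = 1 ∨ u i = y i) (h0 : u 0 = 1) : u 1 = 1 := by
  classical
  have key : ∀ S : Finset (Fin 5), ∏ i ∈ S, y i = 1 → S.card ≠ 1 ∧ S.card ≠ 2 := fun S e => by
    refine ⟨fun c => ?_, fun c => ?_⟩
    · obtain ⟨a, rfl⟩ := Finset.card_eq_one.1 c
      exact ne a (by simpa using e)
    · obtain ⟨a, b, ab, rfl⟩ := Finset.card_eq_two.1 c
      rw [Finset.prod_pair ab] at e
      exact ab (inj (mul_right_cancel (e.trans (sq b).symm)))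
  have e1 : ∏ i ∈ Finset.univ.filter (fun i => u i ≠ 1), y i = 1 :=
    (Finset.prod_congr rfl fun i hi => ((h i).resolve_left (Finset.mem_filter.1 hi).2).symm).trans
      ((Finset.prod_filter_ne_one Finset.univ).trans hu)
  have e2 := Finset.prod_mul_prod_compl (Finset.univ.filter fun i => u i ≠ 1) y
  rw [e1, hy, one_mul] at e2
  have k1 := key _ e1
  have k2 := key _ e2
  have k3 := Finset.card_add_card_compl (Finset.univ.filter fun i => u i ≠ 1)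
  rw [Fintype.card_fin] at k3
  by_contra h1
  have p1 := Finset.card_pos.2 ⟨1, (Finset.mem_filter (p := fun i => u i ≠ 1)).2
    ⟨Finset.mem_univ _, h1⟩⟩
  have p2 := Finset.card_pos.2 ⟨0, (Finset.mem_compl
    (s := Finset.univ.filter fun i => u i ≠ 1)).2 (by simp [h0])⟩
  omega

theorem norm (h : Le8 G) {Q : Subgroup G} {σ g : G} (hQ : IsPGroup 2 Q) (hσ : σ ∈ Ns Q)
    (o : orderOf σ = 5) (hg : g ∈ Q) :
    σ ^ 0 * g * (σ ^ 0)⁻¹ * (σ ^ 1 * g * (σ ^ 1)⁻¹) * (σ ^ 2 * g * (σ ^ 2)⁻¹) *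
      (σ ^ 3 * g * (σ ^ 3)⁻¹) * (σ ^ 4 * g * (σ ^ 4)⁻¹) = 1 := by
  have inj : Function.Injective fun a : Q =>
      (⟨(a : G)⁻¹ * (σ * a * σ⁻¹), mul_mem (inv_mem a.2) (mem_normalizer_conj hσ a.2)⟩ : Q) := by
    intro a b e
    have e' : (a : G)⁻¹ * (σ * a * σ⁻¹) = (b : G)⁻¹ * (σ * b * σ⁻¹) := congrArg Subtype.val e
    have := Bas1H.one h (.inl o) hQ (mul_mem b.2 (inv_mem a.2)) (by
      calc b * (a : G)⁻¹ * σ = b * ((a : G)⁻¹ * (σ * a * σ⁻¹)) * σ * (a : G)⁻¹ := by group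
        _ = _ := by rw [e']; group)
    exact Subtype.ext (mul_inv_eq_one.1 this).symm
  obtain ⟨a, ha⟩ := Finite.injective_iff_surjective.1 inj ⟨g, hg⟩
  have e : (a : G)⁻¹ * (σ * a * σ⁻¹) = g := congrArg Subtype.val ha
  have s5 : σ ^ 5 = 1 := o ▸ pow_orderOf_eq_one σ
  calc _ = (a : G)⁻¹ * (σ ^ 5 * a * (σ ^ 5)⁻¹) := by
        rw [← e]; simp only [pow_succ, pow_zero, one_mul, mul_inv_rev, inv_one, mul_one, mul_assoc,
          inv_mul_cancel_left, mul_inv_cancel_left, inv_inv]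
    _ = 1 := by rw [s5]; group

open scoped IsMulCommutative in
theorem r5 (h : Le8 G) {Q : Subgroup G} {σ w y : G} (hQ : IsPGroup 2 Q) (hσ : σ ∈ Ns Q)
    (o : orderOf σ = 5) (hw : w ∈ Q) (hy : y ∈ Q) (hc : Q ≤ C1 y) (y2 : y * y = 1)
    (e : ∀ q ∈ Q, ⁅w, q⁆ ∈ zpowers y) : Q ≤ C1 w := by
  have : Fact (Nat.Prime 2) := ⟨Nat.prime_two⟩
  have : Fact (Nat.Prime 5) := ⟨Nat.prime_five⟩
  have s5 : σ ^ 5 = 1 := o ▸ pow_orderOf_eq_one σ
  have zp : ∀ x ∈ zpowers y, x = 1 ∨ x = y := fun x hx => by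
    obtain ⟨m, rfl⟩ := mem_zpowers_iff.1 hx
    have h2 : y ^ (2 : ℤ) = 1 := by rw [zpow_two, y2]
    rcases Int.even_or_odd' m with ⟨j, rfl | rfl⟩
    · left; rw [zpow_mul, h2, one_zpow]
    · right; rw [zpow_add, zpow_mul, h2, one_zpow, one_mul, zpow_one]
  by_cases y1 : y = 1
  · exact fun q hq => mem_C1.2 (commutatorElement_eq_one_iff_mul_comm.1
      ((zp _ (e q hq)).elim id fun k => k.trans y1)).symm
  have cm : IsMulCommutative ↥(Q ⊓ Cs Q) := ⟨⟨fun a b => Subtype.ext (mem_Cs.1 b.2.2 a a.2.1)⟩⟩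
  have yZ : y ∈ Q ⊓ Cs Q := ⟨hy, mem_Cs.2 fun g hg => mem_C1.1 (hc hg)⟩
  have nZ : ∀ j : ℕ, ∀ z ∈ Q ⊓ Cs Q, σ ^ j * z * (σ ^ j)⁻¹ ∈ Q ⊓ Cs Q := fun j z hz =>
    mem_normalizer_conj (pow_mem (mem_Ns_inf hσ (mem_Ns_Cs hσ)) j) hz
  have cj' : ∀ (j : ℕ) (q : G), ⁅σ ^ j * w * (σ ^ j)⁻¹, q⁆ =
      σ ^ j * ⁅w, (σ ^ j)⁻¹ * q * σ ^ j⁆ * (σ ^ j)⁻¹ := fun j q => by
    simp only [commutatorElement_def]; group
  have mq : ∀ j : ℕ, ∀ q ∈ Q, ⁅w, (σ ^ j)⁻¹ * q * σ ^ j⁆ ∈ zpowers y := fun j q hq =>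
    e _ (mem_normalizer_conj' (pow_mem hσ j) hq)
  have uZ : ∀ j : ℕ, ∀ q ∈ Q, ⁅σ ^ j * w * (σ ^ j)⁻¹, q⁆ ∈ Q ⊓ Cs Q := fun j q hq =>
    cj' j q ▸ nZ j _ (zpowers_le.2 yZ (mq j q hq))
  have ml : ∀ q ∈ Q, ∀ a ∈ Q, ∀ b : G, ⁅b, q⁆ ∈ Q ⊓ Cs Q → ⁅a * b, q⁆ = ⁅a, q⁆ * ⁅b, q⁆ :=
    fun q hq a ha b hb => by
      calc ⁅a * b, q⁆ = a * ⁅b, q⁆ * (q * a⁻¹ * q⁻¹) := by simp only [commutatorElement_def]; group
        _ = ⁅b, q⁆ * ⁅a, q⁆ := by rw [mem_Cs.1 hb.2 a ha, commutatorElement_def a]; group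
        _ = _ := (mem_Cs.1 hb.2 _ (mul_mem (mul_mem (mul_mem ha hq) (inv_mem ha)) (inv_mem hq))).symm
  have key : ∀ q ∈ Q ⊓ C1 w, σ⁻¹ * q * σ⁻¹⁻¹ ∈ Q ⊓ C1 w := fun q hq => by
    have wj : ∀ j : ℕ, σ ^ j * w * (σ ^ j)⁻¹ ∈ Q := fun j => mem_normalizer_conj (pow_mem hσ j) hw
    have := five (A := ↥(Q ⊓ Cs Q)) (fun j => ⟨_, nZ j y yZ⟩) (fun j => ⟨_, uZ j q hq.1⟩)
      (fun j => Subtype.ext (by
        change σ ^ (j : ℕ) * y * (σ ^ (j : ℕ))⁻¹ * (σ ^ (j : ℕ) * y * (σ ^ (j : ℕ))⁻¹) = 1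
        rw [conj_mul, y2]; group))
      (fun i j k => by
        have k' : σ ^ (i : ℕ) * y * (σ ^ (i : ℕ))⁻¹ = σ ^ (j : ℕ) * y * (σ ^ (j : ℕ))⁻¹ :=
          congrArg Subtype.val k
        by_contra ij
        refine y1 (Bas1H.one h (σ := (σ ^ (j : ℕ))⁻¹ * σ ^ (i : ℕ)) (.inl (orderOf_eq_prime ?_
          fun e1 => ij (Fin.ext (pow_injOn_Iio_orderOf (x := σ) (by rw [o]; exact i.2)
            (by rw [o]; exact j.2) (inv_mul_eq_one.1 e1).symm)))) hQ hy ?_)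
        · rw [((Commute.refl σ).pow_pow _ _).inv_left.mul_pow, inv_pow, ← pow_mul, ← pow_mul,
            mul_comm (i : ℕ) 5, mul_comm (j : ℕ) 5, pow_mul, pow_mul, s5]
          simp
        · calc y * ((σ ^ (j : ℕ))⁻¹ * σ ^ (i : ℕ)) = (σ ^ (j : ℕ))⁻¹ *
                (σ ^ (j : ℕ) * y * (σ ^ (j : ℕ))⁻¹) * σ ^ (i : ℕ) := by group
            _ = _ := by rw [← k']; group)
      (fun j k => y1 (conj_eq_one_iff.1 (congrArg Subtype.val k)))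
      (by rw [Fin.prod_univ_five]; exact Subtype.ext (norm h hQ hσ o hy))
      (by
        rw [Fin.prod_univ_five]
        refine Subtype.ext ?_
        change ⁅σ ^ 0 * w * (σ ^ 0)⁻¹, q⁆ * ⁅σ ^ 1 * w * (σ ^ 1)⁻¹, q⁆ * ⁅σ ^ 2 * w * (σ ^ 2)⁻¹, q⁆ *
          ⁅σ ^ 3 * w * (σ ^ 3)⁻¹, q⁆ * ⁅σ ^ 4 * w * (σ ^ 4)⁻¹, q⁆ = 1
        rw [← ml q hq.1 _ (wj 0) _ (uZ 1 q hq.1),
          ← ml q hq.1 _ (mul_mem (wj 0) (wj 1)) _ (uZ 2 q hq.1),
          ← ml q hq.1 _ (mul_mem (mul_mem (wj 0) (wj 1)) (wj 2)) _ (uZ 3 q hq.1),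
          ← ml q hq.1 _ (mul_mem (mul_mem (mul_mem (wj 0) (wj 1)) (wj 2)) (wj 3)) _ (uZ 4 q hq.1),
          norm h hQ hσ o hw, commutatorElement_one_left])
      (fun j => (zp _ (mq j q hq.1)).imp
        (fun k => Subtype.ext ((cj' j q).trans (by rw [k]; simp)))
        fun k => Subtype.ext ((cj' j q).trans (by rw [k])))
      (Subtype.ext (by
        change ⁅σ ^ 0 * w * (σ ^ 0)⁻¹, q⁆ = 1
        simpa [commutatorElement_eq_one_iff_mul_comm] using (mem_C1.1 hq.2).symm))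
    have k : ⁅σ ^ 1 * w * (σ ^ 1)⁻¹, q⁆ = 1 := congrArg Subtype.val this
    rw [cj', conj_eq_one_iff, pow_one, commutatorElement_eq_one_iff_mul_comm] at k
    exact ⟨mem_normalizer_conj (inv_mem hσ) hq.1, mem_C1.2 (by rw [inv_inv]; exact k.symm)⟩
  have nK : σ ∈ Ns (Q ⊓ C1 w) := inv_mem_iff.1 (mem_normalizer_of_cj_le (cj_le_iff.2 key))
  intro q hq
  by_contra nq
  obtain ⟨b, hb, e', k⟩ := idx2 hQ hσ nK (by rw [o]; decide) (by
    refine (Bas1H.cidx (I := zpowers y) fun d hd => ?_).trans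
      (by rw [Nat.card_zpowers, orderOf_eq_prime (p := 2) (by rw [pow_two, y2]) y1])
    rw [← commutatorElement_inv]; exact inv_mem (e d hd)) hq nq
  rw [Bas1H.one h (.inl o) hQ hb e', mul_one, inv_mem_iff] at k
  exact nq k

theorem three {Q : Type*} [Group Q] [Finite Q] (c : Nat.card Q = 3) (x y : Q) :
    x = 1 ∨ y = 1 ∨ x * y = 1 ∨ x * y⁻¹ = 1 := by
  classical
  refine or_iff_not_imp_left.2 fun hx => ?_
  have o : orderOf x = 3 := ((Nat.dvd_prime Nat.prime_three).1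
    (c ▸ _root_.orderOf_dvd_natCard x)).resolve_left (by simpa using hx)
  have hy : y ∈ zpowers x := (eq_top_of_card_eq _ (by rw [Nat.card_zpowers, o, c])).ge (mem_top y)
  rw [mem_zpowers_iff_mem_range_orderOf, o, Finset.mem_image] at hy
  obtain ⟨i, hi, rfl⟩ := hy
  have hi := Finset.mem_range.1 hi
  interval_cases i
  · exact .inl (pow_zero x)
  · exact .inr (.inr (by simp))
  · exact .inr (.inl (by rw [← pow_succ']; exact orderOf_dvd_iff_pow_eq_one.1 o.dvd))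

theorem gen9 {D : Subgroup G} {a b : G} (hD : IsPGroup 2 D) (ha : a ∈ Ns D) (hb : b ∈ Ns D)
    (h : E9 a b) : D ≤ (D ⊓ C1 a) ⊔ (D ⊓ C1 b) ⊔ (D ⊓ C1 (a * b)) ⊔ (D ⊓ C1 (a * b⁻¹)) := by
  have : Fact (Nat.Prime 2) := ⟨Nat.prime_two⟩
  have : Fact (Nat.Prime 3) := ⟨Nat.prime_three⟩
  have ea : IsElementaryAbelian 3 (closure ({a, b} : Set G)) := TJ.ea_closure (by
    rintro x (rfl | rfl) y (rfl | rfl)
    exacts [rfl, h.2.2.1, h.2.2.1.symm, rfl]) (by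
    rintro x (rfl | rfl)
    exacts [h.1 ▸ pow_orderOf_eq_one _, h.2.1 ▸ pow_orderOf_eq_one _])
  have := ea.1
  have ma : a ∈ closure ({a, b} : Set G) := subset_closure (.inl rfl)
  have mb : b ∈ closure ({a, b} : Set G) := subset_closure (.inr rfl)
  obtain ⟨k, hk⟩ := IsPGroup.iff_card.1 hD
  obtain ⟨m, hm⟩ := IsPGroup.iff_card.1 (TJ.ea_isPGroup ea)
  refine Solv.Coprime.le_of_forall_hyperplane ea.2
    (fun e => h.2.2.2 (mem_bot.1 (e ▸ mb) ▸ one_mem _))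
    ((closure_le _).2 (by rintro x (rfl | rfl) <;> assumption))
    (by rw [hk, hm]; exact Nat.Coprime.pow _ _ (by norm_num)) fun B _ hi => ?_
  have hN : (B.subgroupOf (closure ({a, b} : Set G))).Normal := ⟨fun n hn g => by
    rw [IsMulCommutative.is_comm.comm g n, mul_inv_cancel_right]; exact hn⟩
  have t := three (Q := closure ({a, b} : Set G) ⧸ B.subgroupOf _) hi (QuotientGroup.mk ⟨a, ma⟩)
    (QuotientGroup.mk ⟨b, mb⟩)
  rw [← QuotientGroup.mk_inv, ← QuotientGroup.mk_mul, ← QuotientGroup.mk_mul,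
    QuotientGroup.eq_one_iff, QuotientGroup.eq_one_iff, QuotientGroup.eq_one_iff,
    QuotientGroup.eq_one_iff] at t
  rcases t with t | t | t | t <;> refine (inf_le_inf_left D (Cs_le_C1 t)).trans ?_
  exacts [le_sup_left.trans (le_sup_left.trans le_sup_left),
    le_sup_right.trans (le_sup_left.trans le_sup_left), le_sup_right.trans le_sup_left, le_sup_right]

omit [Finite G] in
theorem chl (h : IsCharacteristicTwoType G) {M : Subgroup G} (hM : IsTwoLocal M) :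
    Ch M ∧ O2 M ≠ ⊥ := by
  obtain ⟨T, hT, h1, rfl⟩ := hM
  exact ⟨Local.charP_iff.2 (h.2 T hT h1),
    fun e => h1 (le_bot_iff.1 (e ▸ Local.le_pCoreOf le_normalizer le_rfl hT))⟩

omit [Finite G] in
theorem loc {t : G} (o : orderOf t = 2) : IsTwoLocal (C1 t) := by
  classical
  have : Fact (Nat.Prime 2) := ⟨Nat.prime_two⟩
  have t1 : t ≠ 1 := fun e => by rw [e, orderOf_one] at o; omega
  refine ⟨zpowers t, .of_card (n := 1) (by rw [Nat.card_zpowers, o]; rfl), by simpa using t1,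
    le_antisymm ((Cs_zpowers t).ge.trans Cs_le_Ns) fun g hg => mem_C1.2 ?_⟩
  have m := mem_normalizer_conj hg (mem_zpowers t)
  rw [(isOfFinOrder_iff_pow_eq_one.2 ⟨2, two_pos, o ▸ pow_orderOf_eq_one t⟩).mem_zpowers_iff_mem_range_orderOf,
    o, Finset.mem_image] at m
  obtain ⟨i, hi, e⟩ := m
  have hi := Finset.mem_range.1 hi
  interval_cases i
  · exact absurd (conj_eq_one_iff.1 (e.symm.trans (pow_zero t))) t1
  · exact mul_inv_eq_iff_eq_mul.1 (e.symm.trans (pow_one t))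

theorem sr8 {T W : Subgroup G} (hT : IsPGroup 2 T) (le : W ≤ T) (hW : EA W) (c : Nat.card W = 8)
    (h : T ⊓ Cs W ≤ W) : SR4 ↥T :=
  Cfsg.Agent.S1232.result hT (W.subgroupOf T) (TJ.ea_subgroupOf hW T)
    (by rw [Solv.Coprime.card_subgroupOf le, c]) (le_antisymm
      (fun g hg => h ⟨g.2, mem_Cs.2 fun w hw => congrArg Subtype.val (hg ⟨w, le hw⟩ hw)⟩)
      (TJ.ea_le_centralizer (TJ.ea_subgroupOf hW T)))

end Bas2H

theorem pf_Bas2 : Bas2.{u} where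
  rk3 := fun h _ _ _ => Bas2H.rk3 h
  r5 := fun h _ _ _ _ => Bas2H.r5 h
  cop := Bas2H.cop
  lift := fun h1 h2 h3 h4 _ => Bas2H.lift h1 h2 h3 h4
  gen9 := Bas2H.gen9
  ch := fun h _ _ _ hM hT h1 h2 =>
    have : Fact (Nat.Prime 2) := ⟨Nat.prime_two⟩
    Local.CharP.of_pCoreOf_le (Bas2H.chl h hM).1
      ((Local.pCoreOf_le_sylowIn (hT.mono (h1.trans h2) le_top)).trans h1) h2
  chl := fun h _ => Bas2H.chl h
  chc := fun h _ o => ⟨Bas2H.loc o, (Bas2H.chl h (Bas2H.loc o)).1⟩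
  nor := fun hH h1 h2 h3 => hH.2 _ ⟨_, h1, h2, rfl⟩ h3
  sr := fun hT h => by
    have : Fact (Nat.Prime 2) := ⟨Nat.prime_two⟩
    obtain ⟨P, rfl⟩ := hT.exists_sylow_eq
    exact Solv.PG.secRank_of_sylow P h
  sr8 := Bas2H.sr8

end Cfsg.Lib.P8
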