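import Cfsg.Agent.P8.M3h

/-!
# Groups with element orders at most 8: `A₆`-modules have a vector fixed by a parabolic subgroup
-/

set_option autoImplicit false

namespace Cfsg.Lib.P8

open Subgroup Equiv Equiv.Perm Cfsg.Lib.Trans Cfsg.Lib.Gold M3hH

universe u v

namespace M3aH

/-- The syntheme. -/
def τ : Perm (Fin 6) := swap 0 1 * swap 2 3 * swap 4 5
/-- The duad. -/
def δ : Perm (Fin 6) := swap 4 5
/-- Same flag. -/
def rl (g h : Perm (Fin 6)) : Bool := decide (g * δ * g⁻¹ = h * δ * h⁻¹) && decide (g * τ * g⁻¹ = h * τ * h⁻¹)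
/-- The three flags of an orbit. -/
def tl {X : Type*} [Group X] (a g : X) : List X := [g, g * a, g * a * a]

theorem τ_eq_1' : type_of% @τ.eq_1 := @τ.eq_1
theorem δ_eq_1' : type_of% @δ.eq_1 := @δ.eq_1
theorem rl_eq_1' : type_of% @rl.eq_1 := @rl.eq_1
theorem tl_eq_1' : type_of% @tl.eq_1 := @tl.eq_1

theorem exp4 : ∀ g : Perm (Fin 6), g * δ = δ * g → g * τ = τ * g → g * g * (g * g) = 1 := by
  decide +kernel

theorem par1 : ∀ g : Perm (Fin 6), (g 4).val / 2 = 2 → (g 5).val / 2 = 2 →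
    red rl (tl (el 6 4489216 : Perm (Fin 6)) g ++ tl (el 6 4489216 : Perm (Fin 6)) 1) = [] := by
  decide +kernel

theorem par2 : ∀ g : Perm (Fin 6), (∀ i j : Fin 6, i.val / 2 = j.val / 2 → (g i).val / 2 = (g j).val / 2) →
    red rl (tl (el 6 11413072 : Perm (Fin 6)) g ++ tl (el 6 11413072 : Perm (Fin 6)) 1) = [] := by
  decide +kernel

theorem five : ∀ p ∈ [(10880520, 8683520), (6947848, 10551296), (9274376, 11304960), (10847240, 8683520)],
    el 6 p.1 * el 6 p.1 * el 6 p.1 * el 6 p.1 * el 6 p.1 = 1 ∧ el 6 p.1 ≠ 1 := by decide +kernel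

theorem cert : red rl ((1 :: ([(10880520, 8683520), (6947848, 10551296), (9274376, 11304960),
    (10847240, 8683520)].flatMap (fun p => nl (el 6 p.1) (el 6 p.2)) ++
    [11411456, 10878976].flatMap (fun c => tl (el 6 4489216) (el 6 c)) ++
    [0].flatMap (fun c => tl (el 6 11413072) (el 6 c)))).map fun g : A6 => (g : Perm (Fin 6))) = [] := by
  decide +kernel

end M3aH

open M3aH

theorem pf_M3a [MdA.{u, 0}] : M3a.{u} := ⟨fun {M} _ _ _ h hM => by
  obtain ⟨m, -, m0, hm⟩ := MdA.fix2 h (S := (C1 δ ⊓ C1 τ).subgroupOf (alternatingGroup (Fin 6)))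
    (fun g => ⟨2, Subtype.ext (Subtype.ext (by
      have := exp4 g.1.1 (mem_C1.1 g.2.1) (mem_C1.1 g.2.2)
      simpa [pow_succ, mul_assoc] using this))⟩) (K := ⊤) (fun _ _ _ _ => trivial) top_ne_bot
  have hr : ∀ g k : A6, rl g k = true → g • m = k • m := fun g k e => by
    simp only [rl, Bool.and_eq_true, decide_eq_true_eq] at e
    have c : ∀ s : Perm (Fin 6), (g : Perm (Fin 6)) * s * (g : Perm (Fin 6))⁻¹ =
        (k : Perm (Fin 6)) * s * (k : Perm (Fin 6))⁻¹ → ((k⁻¹ * g : A6) : Perm (Fin 6)) ∈ C1 s :=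
      fun s e => mem_C1.2 (by
        rw [Subgroup.coe_mul, Subgroup.coe_inv]
        calc _ = (k : Perm (Fin 6))⁻¹ * ((g : Perm (Fin 6)) * s * (g : Perm (Fin 6))⁻¹) * g := by group
          _ = _ := by rw [e]; group)
    have := hm (k⁻¹ * g) ⟨c _ e.1, c _ e.2⟩
    rw [mul_smul, inv_smul_eq_iff] at this
    exact this
  have k1 : ∀ a g : A6, ((tl a g).map (· • m)).sum = g • (m + a • m + (a * a) • m) := fun a g => by
    simp [tl, mul_smul, add_assoc]
  have k2 : ∀ a g : A6, red rl (tl (a : Perm (Fin 6)) g ++ tl (a : Perm (Fin 6)) 1) = [] →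
      g • (m + a • m + (a * a) • m) = m + a • m + (a * a) • m := fun a g e => by
    have := sum_zero h.two (fun g : A6 => (g : Perm (Fin 6))) hr (l := tl a g ++ tl a 1) e
    rw [List.map_append, List.sum_append, k1, k1, one_smul, ← h.two (m + a • m + (a * a) • m)] at this
    exact add_right_cancel this
  by_cases e1 : m + el 6 4489216 • m + (el 6 4489216 * el 6 4489216) • m = 0
  swap
  · exact ⟨_, e1, .inl fun g h1 h2 => k2 _ g (par1 g h1 h2)⟩
  by_cases e2 : m + el 6 11413072 • m + (el 6 11413072 * el 6 11413072) • m = 0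
  swap
  · exact ⟨_, e2, .inr fun g h1 => k2 _ g (par2 g h1)⟩
  have := sum_zero h.two (fun g : A6 => (g : Perm (Fin 6))) hr cert
  rw [List.map_cons, List.sum_cons, List.map_append, List.sum_append, List.map_append, List.sum_append,
    sum_flatMap fun p hp => nl_sum h (five p hp) _ m,
    sum_flatMap fun c _ => by rw [k1, e1, smul_zero],
    sum_flatMap fun c _ => by rw [k1, e2, smul_zero], one_smul, add_zero, add_zero, add_zero] at this
  exact (m0 this).elim⟩

end Cfsg.Lib.P8
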