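import Cfsg.Agent.P8.M3h
import Cfsg.Agent.AltC.Pair3

/-!
# Groups with element orders at most 8: the duad module of `A₆` and the outer automorphism
-/

set_option autoImplicit false

namespace Cfsg.Lib.P8

open Subgroup Equiv Equiv.Perm Cfsg.Lib.Trans Cfsg.Lib.Gold M3hH

universe u v

namespace M3bH

/-- Same duad. -/
def rl (g h : A6) : Bool := decide
  (((g : Perm (Fin 6)) 4 = (h : Perm (Fin 6)) 4 ∧ (g : Perm (Fin 6)) 5 = (h : Perm (Fin 6)) 5) ∨
    ((g : Perm (Fin 6)) 4 = (h : Perm (Fin 6)) 5 ∧ (g : Perm (Fin 6)) 5 = (h : Perm (Fin 6)) 4))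

theorem rl_eq_1' : type_of% @rl.eq_1 := @rl.eq_1

theorem five1 : ∀ p ∈ [(8487944, 10518528), (9274376, 10518528), (11404816, 0)],
    el 6 p.1 * el 6 p.1 * el 6 p.1 * el 6 p.1 * el 6 p.1 = 1 ∧ el 6 p.1 ≠ 1 := by decide +kernel

theorem five2 : ∀ p ∈ [(8487944, 0), (10847240, 8421376), (11371528, 8945664)],
    el 6 p.1 * el 6 p.1 * el 6 p.1 * el 6 p.1 * el 6 p.1 = 1 ∧ el 6 p.1 ≠ 1 := by decide +kernel

theorem cert1 : red rl ((el 6 0 :: el 6 11665408 :: el 6 10616832 ::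
    [(8487944, 10518528), (9274376, 10518528), (11404816, 0)].flatMap
      (fun p => nl (el 6 p.1) (el 6 p.2))).map id) = [] := by decide +kernel

theorem cert2 : red rl ((el 6 10878976 :: el 6 11411456 :: el 6 0 ::
    [(8487944, 0), (10847240, 8421376), (11371528, 8945664)].flatMap
      (fun p => nl (el 6 p.1) (el 6 p.2))).map id) = [] := by decide +kernel

theorem alt (p : Perm (Fin 6)) : ∃ g : A6, (g : Perm (Fin 6)) 4 = p 4 ∧ (g : Perm (Fin 6)) 5 = p 5 ∧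
    (g : Perm (Fin 6)) 0 = p 0 := by
  rcases Int.units_eq_one_or (sign p) with e | e
  · exact ⟨⟨p, e⟩, rfl, rfl, rfl⟩
  · exact ⟨⟨p * swap 1 2, by simp [e]⟩, rfl, rfl, rfl⟩

theorem tr3 {i j k : Fin 6} (h1 : i ≠ j) (h2 : j ≠ k) (h3 : i ≠ k) : ∃ g : A6,
    (g : Perm (Fin 6)) 4 = i ∧ (g : Perm (Fin 6)) 5 = j ∧ (g : Perm (Fin 6)) 0 = k := by
  have t : ∀ i j k : Fin 6, i ≠ j → j ≠ k → i ≠ k → ∃ p : Perm (Fin 6), p 4 = i ∧ p 5 = j ∧ p 0 = k := by
    decide +kernel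
  obtain ⟨p, rfl, rfl, rfl⟩ := t i j k h1 h2 h3
  exact alt p

theorem tr2 {i j : Fin 6} (h : i ≠ j) : ∃ g : A6, (g : Perm (Fin 6)) 4 = i ∧ (g : Perm (Fin 6)) 5 = j := by
  have t : ∀ i j : Fin 6, i ≠ j → ∃ k, j ≠ k ∧ i ≠ k := by decide +kernel
  obtain ⟨k, h2, h3⟩ := t i j h
  obtain ⟨g, e1, e2, -⟩ := tr3 h h2 h3
  exact ⟨g, e1, e2⟩

theorem out [MdA.{u, 0}] {M : Type u} [AddCommGroup M] [DistribMulAction A6 M] (h : Md A6 M) (m : M)
    (hm : ∀ g : A6, ((g : Perm (Fin 6)) 4).val / 2 = 2 → ((g : Perm (Fin 6)) 5).val / 2 = 2 → g • m = m) :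
    ∃ c : Fin 6 → Fin 6 → M, c 4 5 = m ∧ (∀ i, c i i = 0) ∧ (∀ i j k, c i j + c j k = c i k) ∧
      c 0 1 + c 2 3 + c 4 5 = 0 ∧
      ∀ (g : A6) i j, g • c i j = c ((g : Perm (Fin 6)) i) ((g : Perm (Fin 6)) j) := by
  have hr : ∀ g k : A6, rl (id g) (id k) = true → g • m = k • m := fun g k e => by
    simp only [rl, decide_eq_true_eq, id] at e
    have : (k⁻¹ * g) • m = m := by
      refine hm _ ?_ ?_ <;> rw [Subgroup.coe_mul, Subgroup.coe_inv, Perm.mul_apply] <;>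
        rcases e with e | e <;> simp [e.1, e.2]
    rwa [mul_smul, inv_smul_eq_iff] at this
  classical
  obtain ⟨c, c0, hc⟩ : ∃ c : Fin 6 → Fin 6 → M, (∀ i, c i i = 0) ∧
      ∀ g : A6, c ((g : Perm (Fin 6)) 4) ((g : Perm (Fin 6)) 5) = g • m := by
    refine ⟨fun i j => if h : ∃ g : A6, (g : Perm (Fin 6)) 4 = i ∧ (g : Perm (Fin 6)) 5 = j then
      h.choose • m else 0, fun i => dif_neg ?_, fun g => ?_⟩
    · rintro ⟨g, h1, h2⟩
      exact absurd ((g : Perm (Fin 6)).injective (h1.trans h2.symm)) (by decide)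
    · have e : ∃ k : A6, (k : Perm (Fin 6)) 4 = (g : Perm (Fin 6)) 4 ∧
        (k : Perm (Fin 6)) 5 = (g : Perm (Fin 6)) 5 := ⟨g, rfl, rfl⟩
      beta_reduce
      rw [dif_pos e]
      exact hr _ _ (decide_eq_true (.inl e.choose_spec))
  have eqv : ∀ (g : A6) i j, g • c i j = c ((g : Perm (Fin 6)) i) ((g : Perm (Fin 6)) j) := by
    intro g i j
    by_cases e : i = j
    · rw [e, c0, c0, smul_zero]
    obtain ⟨k, rfl, rfl⟩ := tr2 e
    rw [hc, ← mul_smul, ← hc]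
    rfl
  have sym : ∀ i j, c i j = c j i := by
    intro i j
    by_cases e : i = j
    · rw [e]
    obtain ⟨k, rfl, rfl⟩ := tr2 e
    obtain ⟨l, h1, h2⟩ := tr2 (Ne.symm e)
    rw [hc, ← h1, ← h2, hc]
    exact hr _ _ (decide_eq_true (.inr ⟨h2.symm, h1.symm⟩))
  have v : ∀ (n : ℕ) (i j : Fin 6), (el 6 n : Perm (Fin 6)) 4 = i ∧ (el 6 n : Perm (Fin 6)) 5 = j →
      el 6 n • m = c i j := fun n i j e => by rw [← hc, e.1, e.2]
  have b1 := sum_zero h.two id hr cert1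
  have b2 := sum_zero h.two id hr cert2
  rw [List.map_cons, List.map_cons, List.map_cons, List.sum_cons, List.sum_cons, List.sum_cons] at b1 b2
  rw [sum_flatMap fun p hp => nl_sum h (five1 p hp) _ m, add_zero, v _ 4 5 (by decide +kernel),
    v _ 5 0 (by decide +kernel), v _ 0 4 (by decide +kernel)] at b1
  rw [sum_flatMap fun p hp => nl_sum h (five2 p hp) _ m, add_zero, v _ 0 1 (by decide +kernel),
    v _ 2 3 (by decide +kernel), v _ 4 5 (by decide +kernel), ← add_assoc] at b2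
  refine ⟨c, by simpa using hc 1, c0, fun i j k => ?_, b2, eqv⟩
  by_cases e1 : i = j
  · rw [e1, c0, zero_add]
  by_cases e2 : j = k
  · rw [e2, c0, add_zero]
  by_cases e3 : i = k
  · rw [e3, c0, sym k j, h.two]
  obtain ⟨g, rfl, rfl, rfl⟩ := tr3 e1 e2 e3
  have := congrArg (g • ·) b1
  simp only [smul_add, smul_zero, eqv] at this
  rw [← add_assoc, sym _ ((g : Perm (Fin 6)) 4), ← h.two (c ((g : Perm (Fin 6)) 4) ((g : Perm (Fin 6)) 0))] at this
  exact add_right_cancel this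

theorem n1 : ∀ g : Perm (Fin 6), (g 4).val / 2 = 2 → (g 5).val / 2 = 2 →
    ∀ v ∈ [swap 0 1 * swap 2 3, swap 0 2 * swap 1 3], g * v * g⁻¹ = swap 0 1 * swap 2 3 ∨
      g * v * g⁻¹ = swap 0 2 * swap 1 3 ∨ g * v * g⁻¹ = swap 0 1 * swap 2 3 * (swap 0 2 * swap 1 3) := by
  decide +kernel

theorem n2 : ∀ g : Perm (Fin 6), (∀ v ∈ [swap 0 1 * swap 2 3, swap 0 1 * swap 4 5],
    g * v * g⁻¹ = swap 0 1 * swap 2 3 ∨ g * v * g⁻¹ = swap 0 1 * swap 4 5 ∨
      g * v * g⁻¹ = swap 0 1 * swap 2 3 * (swap 0 1 * swap 4 5)) →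
    ∀ i j : Fin 6, i.val / 2 = j.val / 2 → (g i).val / 2 = (g j).val / 2 := by
  decide +kernel

theorem aut : ∃ α : A6 ≃* A6, ∀ g : A6, ((g : Perm (Fin 6)) 4).val / 2 = 2 →
    ((g : Perm (Fin 6)) 5).val / 2 = 2 → ∀ i j : Fin 6, i.val / 2 = j.val / 2 →
      ((α g : Perm (Fin 6)) i).val / 2 = ((α g : Perm (Fin 6)) j).val / 2 := by
  obtain ⟨β, b1, b2, b3, b4⟩ := AltC.exists_outer6
  let f : A6 →* A6 := (β.comp (alternatingGroup (Fin 6)).subtype).codRestrict (alternatingGroup (Fin 6))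
    fun g => mem_alternatingGroup.2 ((b2 g).trans g.2)
  have hf : Function.Injective f := fun a b e => Subtype.ext (b1.1 (congrArg Subtype.val e))
  refine ⟨MulEquiv.ofBijective f (Finite.injective_iff_bijective.1 hf), fun g h1 h2 => n2 (β g) ?_⟩
  have k : ∀ v ∈ [swap 0 1 * swap 2 3, swap 0 2 * swap 1 3], β g * β v * (β g)⁻¹ = swap 0 1 * swap 2 3 ∨
      β g * β v * (β g)⁻¹ = swap 0 1 * swap 4 5 ∨
      β g * β v * (β g)⁻¹ = swap 0 1 * swap 2 3 * (swap 0 1 * swap 4 5) := fun v hv => by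
    rw [← map_inv, ← map_mul, ← map_mul]
    rcases n1 g h1 h2 v hv with e | e | e <;> rw [e]
    · exact .inl b3
    · exact .inr (.inl b4)
    · exact .inr (.inr (by rw [map_mul, b3, b4]))
  intro v hv
  rcases List.mem_pair.1 hv with rfl | rfl
  · have := k _ List.mem_cons_self
    rwa [b3] at this
  · have := k _ (List.mem_cons_of_mem _ List.mem_cons_self)
    rwa [b4] at this

end M3bH

theorem pf_M3b [MdA.{u, 0}] : M3b.{u} := ⟨fun h m hm => M3bH.out h m hm, M3bH.aut⟩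

end Cfsg.Lib.P8
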