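import Cfsg.Agent.P8.Stm
import Cfsg.Agent.Trans.Thompson
import Cfsg.Agent.Gold.Cm
import Cfsg.Agent.Solv.Conj

/-!
# Groups with element orders at most 8: type `A₅`, the Thompson subgroup
-/

set_option autoImplicit false

namespace Cfsg.Lib.P8

open Subgroup Cfsg.Lib.Trans Cfsg.Lib.Gold
open scoped commutatorElement

universe u v

namespace A5JH

variable {G : Type u} [Group G] [Finite G]

omit [Finite G] in
theorem card_inf (A B : Subgroup G) : Nat.card ↥(A ⊓ B) * B.relIndex A = Nat.card A := by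
  rw [← inf_relIndex_left]
  exact card_mul_relIndex inf_le_left

theorem ge16 [Bas1.{u}] (hP : Le8 G) {U : Subgroup G} {σ : G} (hU : IsPGroup 2 U) (ne : U ≠ ⊥)
    (hσ : σ ∈ Ns U) (o : orderOf σ = 5) : 16 ≤ Nat.card U := by
  have : Fact (Nat.Prime 2) := ⟨Nat.prime_two⟩
  have h := Bas1.md hP (Or.inl o) hU hσ
  rw [o] at h
  obtain ⟨n, hn⟩ := IsPGroup.iff_card.1 hU
  have h1 : Nat.card U ≠ 1 := fun e => ne (card_eq_one.1 e)
  rw [hn] at h h1 ⊢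
  rcases n with _ | _ | _ | _ | n
  · simp at h1
  · simp at h
  · simp at h
  · simp at h
  · calc 16 = 2 ^ 4 := rfl
      _ ≤ _ := Nat.pow_le_pow_right (by norm_num) (by omega)

omit [Finite G] in
theorem two_mul {K T : Subgroup G} (h : K.relIndex T = 2) {a b : G} (ha : a ∈ T) (hb : b ∈ T) :
    a * b ∈ K ↔ (a ∈ K ↔ b ∈ K) :=
  mul_mem_iff_of_index_two (H := K.subgroupOf T) h (a := ⟨a, ha⟩) (b := ⟨b, hb⟩)

omit [Finite G] in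
/-- An involution with two conjugates in `T`. -/
theorem two_cls {T : Subgroup G} {y : G} (hy : y ∈ T) (yy : y * y = 1) (h : (C1 y).relIndex T = 2) :
    ∃ s ∈ T, T ≤ C1 (y * (s * y * s⁻¹)) ∧ y * (s * y * s⁻¹) * (y * (s * y * s⁻¹)) = 1 ∧
      ∀ t ∈ T, ⁅y, t⁆ ∈ zpowers (y * (s * y * s⁻¹)) := by
  obtain ⟨s, hs, ns⟩ : ∃ s ∈ T, s ∉ C1 y := by
    by_contra! k
    rw [relIndex_eq_one.2 k] at h
    omega
  have yi : y⁻¹ = y := inv_eq_of_sq yy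
  have c0 : ∀ t ∈ C1 y, t * y * t⁻¹ = y := fun t ht => by rw [mem_C1.1 ht]; group
  have c1 : ∀ t ∈ T, t ∉ C1 y → t * y * t⁻¹ = s * y * s⁻¹ := fun t ht nt => by
    have := c0 _ ((two_mul h (inv_mem hs) ht).2 (by simp [ns, nt]))
    calc t * y * t⁻¹ = s * (s⁻¹ * t * y * (s⁻¹ * t)⁻¹) * s⁻¹ := by group
      _ = _ := by rw [this]
  have c2 : ∀ t ∈ T, t ∈ C1 y → t * (s * y * s⁻¹) * t⁻¹ = s * y * s⁻¹ := fun t ht ct => by
    have := c1 (t * s) (mul_mem ht hs) fun k => ns (((two_mul h ht hs).1 k).1 ct)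
    calc t * (s * y * s⁻¹) * t⁻¹ = t * s * y * (t * s)⁻¹ := by group
      _ = _ := this
  have c3 : ∀ t ∈ T, t ∉ C1 y → t * (s * y * s⁻¹) * t⁻¹ = y := fun t ht nt => by
    have := c0 _ ((two_mul h ht hs).2 (by simp [ns, nt]))
    calc t * (s * y * s⁻¹) * t⁻¹ = t * s * y * (t * s)⁻¹ := by group
      _ = y := this
  have cm : y * (s * y * s⁻¹) = s * y * s⁻¹ * y := by
    have := c2 y hy (mem_C1.2 rfl)
    exact mul_inv_eq_iff_eq_mul.1 this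
  refine ⟨s, hs, fun t ht => mem_C1.2 (mul_inv_eq_iff_eq_mul.1 ?_), ?_, fun t ht => ?_⟩
  · rw [show t * (y * (s * y * s⁻¹)) * t⁻¹ = t * y * t⁻¹ * (t * (s * y * s⁻¹) * t⁻¹) by group]
    by_cases ct : t ∈ C1 y
    · rw [c0 t ct, c2 t ht ct]
    · rw [c1 t ht ct, c3 t ht ct, cm]
  · calc y * (s * y * s⁻¹) * (y * (s * y * s⁻¹)) = y * (s * y * s⁻¹ * y) * (s * y * s⁻¹) := by group
      _ = y * (y * (s * y * s⁻¹)) * (s * y * s⁻¹) := by rw [← cm]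
      _ = y * y * (s * (y * y) * s⁻¹) := by group
      _ = 1 := by rw [yy]; group
  · rw [show ⁅y, t⁆ = y * (t * y⁻¹ * t⁻¹) by simp only [commutatorElement_def]; group, yi]
    by_cases ct : t ∈ C1 y
    · rw [c0 t ct, yy]; exact one_mem _
    · rw [c1 t ht ct]; exact mem_zpowers _

variable {H Q T : Subgroup G} {π : G → A5} {x : G}

omit [Finite G] in
theorem ex5 (h : AT H Q T x) : ∃ σ ∈ H, orderOf σ = 5 := by
  obtain ⟨t, ht, nt⟩ : ∃ t ∈ T, t ∉ Q := by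
    by_contra! k
    have := h.idx
    rw [relIndex_eq_one.2 k] at this
    omega
  have tH := h.syl.1 ht
  obtain ⟨g, hg, o⟩ := h.inv' t tH nt (h.sq t ht)
  exact ⟨_, mul_mem tH (mul_mem (mul_mem hg tH) (inv_mem hg)), o⟩

theorem fin [Bas1.{u}] [Bas2.{u}] [BasJ.{u}] [PjB.{u, 0}] (hP : Le8 G) (ty : Ty H Q π) (h : AT H Q T x)
    (hq : ∀ t ∈ T, t ∉ Q → Om Q ⊓ C1 t ≤ Om T) (y : G) (hy : y ∈ T) (oy : orderOf y = 2) :
    (C1 y).relIndex T ≠ 2 := by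
  intro h2
  have yy : y * y = 1 := by rw [← pow_two, ← oy, pow_orderOf_eq_one]
  have nQ : H ≤ Ns Q := (PjB.one ty.toPj).2.2.2.1
  have TH : T ≤ H := h.syl.1
  by_cases yQ : y ∈ Q
  · obtain ⟨σ, hσ, o⟩ := ex5 h
    obtain ⟨s, hs, c, sq, cm⟩ := two_cls hy yy h2
    have hQ : Q ≤ C1 y := Bas2.r5 hP ty.two (nQ hσ) o yQ
      (mul_mem yQ (mem_normalizer_conj (nQ (TH hs)) yQ)) (h.le.trans c) sq fun q hq => cm q (h.le hq)
    have yO : y ∈ Om Q := (BasJ.leT Q).2.2.2.2.2.2 y yQ hQ yy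
    obtain ⟨t, ht, nt⟩ : ∃ t ∈ T ⊓ C1 y, t ∉ Q := by
      by_contra! k
      have e : T ⊓ C1 y = Q := le_antisymm k (le_inf h.le hQ)
      have := h.idx
      rw [← e, inf_relIndex_left, h2] at this
      omega
    have := hq t ht.1 nt ⟨yO, mem_C1.2 (mem_C1.1 ht.2).symm⟩
    rw [relIndex_eq_one.2 (((BasJ.leT T).2.2.2.2.2.1).trans (Cs_le_C1 this))] at h2
    omega
  · obtain ⟨σ, hσ, o, iv⟩ := h.inv y (TH hy) yQ yy
    have h1 := Bas1.fl5 hP ty.two (nQ (TH hy)) (nQ hσ) o yy iv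
    have h3 := ge16 hP ty.two ty.ne (nQ hσ) o
    have h4 : (C1 y).relIndex Q ≤ 2 := h2 ▸ relIndex_le_of_le_right h.le (by omega)
    nlinarith

theorem key [Bas1.{u}] [BasJ.{u}] (hP : Le8 G) (h : AT H Q T x) {A U : Subgroup G} (m : TJ.MaxEA 2 T A)
    {j : G} (jA : j ∈ A) (jQ : j ∉ Q) (UQ : U ≤ Q) (eU : EA U) (nU : H ≤ Ns U) (ne : U ≠ ⊥)
    (c : A ⊓ Q ≤ Cs U) :
    Nat.card U = 16 ∧ (C1 j).relIndex U = 4 ∧ A.relIndex U = 4 ∧ Q.relIndex A = 4 := by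
  have jj : j * j = 1 := by rw [← pow_two]; exact m.ea.2 j jA
  have jH := h.syl.1 (m.le jA)
  obtain ⟨σ, hσ, o, iv⟩ := h.inv j jH jQ jj
  have p := TJ.ea_isPGroup eU
  have h1 := Bas1.fl5 hP p (nU jH) (nU hσ) o jj iv
  have h2 := ge16 hP p ne (nU hσ) o
  have h3 := BasJ.off m.le (UQ.trans h.le) m.ea eU c m.2.2 UQ
  have h4 : Q.relIndex A ≤ 4 := h.idx ▸ relIndex_le_of_le_right m.le (by rw [h.idx]; omega)
  have h5 : (C1 j).relIndex U ≤ A.relIndex U :=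
    relIndex_le_of_le_left ((TJ.ea_le_centralizer m.ea).trans (Cs_le_C1 jA)) (index_ne_zero_of_finite)
  have h6 : 4 ≤ (C1 j).relIndex U := by nlinarith
  have h7 : (C1 j).relIndex U = 4 := by omega
  rw [h7] at h1
  omega

theorem jj [Bas1.{u}] [BasJ.{u}] [PjB.{u, 0}] (hP : Le8 G) (ty : Ty H Q π) (h : AT H Q T x)
    (hJ : ¬ Jt T ≤ Q) : Om (Jt T) = Om T ∧ Nat.card ↥(Om T) ≤ 4 := by
  obtain ⟨A, AT, eA, nA, mx⟩ := BasJ.ex hJ
  have m : TJ.MaxEA 2 T A := ⟨AT, eA, mx⟩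
  obtain ⟨j, jA, jQ⟩ := SetLike.not_le_iff_exists.1 nA
  have nQ : H ≤ Ns Q := (PjB.one ty.toPj).2.2.2.1
  have TH : T ≤ H := h.syl.1
  have sq : ∀ {U : Subgroup G}, EA U → ∀ a ∈ U, a * a = 1 := fun e a ha => by
    rw [← pow_two]; exact e.2 a ha
  obtain ⟨JQ, nJQ, VQ, nV, eV, cV, mV⟩ := BasJ.leT Q
  obtain ⟨JT, -, ZT, -, eZ, cZ, mZ⟩ := BasJ.leT T
  obtain ⟨-, -, V1, nV1, eV1, cV1, mV1⟩ := BasJ.leT (Jt Q)
  obtain ⟨-, -, Z1, -, eZ1, cZ1, mZ1⟩ := BasJ.leT (Jt T)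
  obtain ⟨neJ, neV⟩ := BasJ.ne ty.two ty.ne
  have c0 : A ⊓ Q ≤ Cs (Om Q) := inf_le_right.trans cV
  obtain ⟨k1, k2, k3, k4⟩ := key hP h m jA jQ VQ eV (nQ.trans nV) neV c0
  have i1 := card_inf A Q
  have i2 := card_inf (Om Q) A
  have i3 := card_inf (Om Q) (C1 j)
  have i4 := card_mul_relIndex h.le
  have e1 := Solv.card_sup_mul_card_inf_of_le_normalizer (N := Om Q) (H := A ⊓ Q) (c0.trans Cs_le_Ns)
  have e2 := Solv.card_sup_mul_card_inf_of_le_normalizer (N := Q) (H := A) (AT.trans (TH.trans nQ))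
  rw [show Om Q ⊓ (A ⊓ Q) = Om Q ⊓ A from le_antisymm (fun x hx => ⟨hx.1, hx.2.1⟩)
    fun x hx => ⟨hx.1, hx.2, VQ hx.1⟩] at e1
  rw [inf_comm] at e2
  rw [k4] at i1
  rw [k3, k1] at i2
  rw [k2, k1] at i3
  rw [h.idx] at i4
  have eT : Q ⊔ A = T := by
    refine eq_of_le_of_card_ge (sup_le h.le AT) ?_
    rw [← i1, ← mul_assoc, mul_right_comm] at e2
    have := Nat.eq_of_mul_eq_mul_right Nat.card_pos e2
    omega
  have BQ : Om Q ⊔ A ⊓ Q ≤ Q := sup_le VQ inf_le_right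
  have mB : TJ.MaxEA 2 T (Om Q ⊔ A ⊓ Q) := m.of_card_le (BQ.trans h.le)
    (TJ.ea_sup eV (TJ.ea_mono eA inf_le_left) (le_Cs_comm.1 c0)) (by
      rw [show Nat.card ↥(Om Q ⊓ A) = 4 by omega, k1] at e1
      omega)
  have mBQ := mB.of_le BQ h.le
  have BJ : Om Q ⊔ A ⊓ Q ≤ Jt Q := mBQ.le_J
  have JJ : Jt Q ≤ Jt T := TJ.J_le_iff.2 fun C hC => (mB.up BQ h.le hC).le_J
  have VV : Om Q ≤ Om (Jt Q) := fun v hv =>
    mV1 v (BJ (mem_sup_left hv)) (JQ.trans (cV.trans (Cs_le_C1 hv))) (sq eV v hv)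
  have k5 := (key hP h m jA jQ (V1.trans JQ) eV1 (nQ.trans (nJQ.trans nV1))
    (fun e => neV (eq_bot_iff.2 (e ▸ VV))) ((le_sup_right.trans BJ).trans cV1)).1
  have eVV : Om Q = Om (Jt Q) := eq_of_le_of_card_ge VV (by omega)
  have AJ : A ≤ Jt T := m.le_J
  refine ⟨le_antisymm (fun z hz => ?_) fun z hz => ?_, ?_⟩
  · have cz : Jt T ≤ C1 z := cZ1.trans (Cs_le_C1 hz)
    have zT := JT (Z1 hz)
    have zB := (BasJ.le mB.le mB.ea mB.2.2).2 z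
      ⟨zT, mem_Cs.2 fun u hu => mem_C1.1 (cz (JJ (BJ hu)))⟩ (sq eZ1 z hz)
    have zV : z ∈ Om Q := eVV ▸ mV1 z (BJ zB) (JJ.trans cz) (sq eZ1 z hz)
    exact mZ z zT (eT ▸ sup_le (cV.trans (Cs_le_C1 zV)) (AJ.trans cz)) (sq eZ1 z hz)
  · have cz : T ≤ C1 z := cZ.trans (Cs_le_C1 hz)
    have zA := (BasJ.le AT eA mx).2 z ⟨ZT hz, mem_Cs.2 fun u hu => mem_C1.1 (cz (AT hu))⟩ (sq eZ z hz)
    exact mZ1 z (AJ zA) (JT.trans cz) (sq eZ z hz)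
  · have : Om T ≤ Om Q ⊓ C1 j := fun z hz => by
      have cz : T ≤ C1 z := cZ.trans (Cs_le_C1 hz)
      have zQ : z ∈ Q := ty.ch ⟨TH (ZT hz), mem_Cs.2 fun u hu => mem_C1.1 (cz (h.le hu))⟩
      exact ⟨mV z zQ (h.le.trans cz) (sq eZ z hz), mem_C1.2 (mem_C1.1 (cz (AT jA))).symm⟩
    have := Subgroup.card_le_of_le this
    omega

end A5JH

theorem pf_A5J [Bas1.{u}] [Bas2.{u}] [BasJ.{u}] [PjB.{u, 0}] : A5J.{u} :=
  ⟨fun hP _ _ _ _ _ ty h hq y hy oy => A5JH.fin hP ty h hq y hy oy,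
    fun hP _ _ _ _ _ ty h hJ => A5JH.jj hP ty h hJ⟩

end Cfsg.Lib.P8
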