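import Cfsg.Agent.P8.S5c

/-!
# Groups with element orders at most 8: the type `A₅`
-/

set_option autoImplicit false

namespace Cfsg.Lib.P8

open Subgroup Cfsg.Lib.Trans Cfsg.Lib.Gold
open scoped commutatorElement

universe u v

namespace A5MH

variable {G : Type u} [Group G] [Finite G]

theorem mem_of_three {K : Subgroup G} {x y : G} (ox : orderOf x = 3) (hy : y ∈ zpowers x) (y1 : y ≠ 1)
    (h : y ∈ K) : x ∈ K := by
  classical
  rw [mem_zpowers_iff_mem_range_orderOf, ox, Finset.mem_image] at hy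
  obtain ⟨n, hn, rfl⟩ := hy
  rw [Finset.mem_range] at hn
  refine mem_of_pow_mem_of_coprime h ?_
  rw [ox]
  interval_cases n
  · exact absurd (pow_zero x) y1
  · decide
  · decide

theorem sq_mem_Cs {Z : Subgroup G} (h4 : Nat.card Z ≤ 4) {z n : G} (hz : z ∈ Z) (z1 : z ≠ 1)
    (hn : n ∈ Ns Z) (hc : n * z = z * n) : n * n ∈ Cs Z := by
  classical
  refine mem_Cs.2 fun w hw => ?_
  have inj : ∀ {a b : G}, n * a * n⁻¹ = n * b * n⁻¹ → a = b := fun e => by simpa using e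
  have ez : n * z * n⁻¹ = z := by rw [hc, mul_inv_cancel_right]
  have e1 : n * 1 * n⁻¹ = 1 := by simp
  suffices e : n * (n * w * n⁻¹) * n⁻¹ = w by
    conv_lhs => rw [← e]
    group
  by_contra e
  have h1 : n * w * n⁻¹ ≠ w := fun k => e (by rw [k, k])
  have h2 : w ≠ 1 := fun k => h1 (by rw [k, e1])
  have h3 : w ≠ z := fun k => h1 (by rw [k, ez])
  have h5 : n * w * n⁻¹ ≠ 1 := fun k => h2 (inj (k.trans e1.symm))
  have h6 : n * w * n⁻¹ ≠ z := fun k => h3 (inj (k.trans ez.symm))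
  have h7 : n * (n * w * n⁻¹) * n⁻¹ ≠ 1 := fun k => h5 (inj (k.trans e1.symm))
  have h8 : n * (n * w * n⁻¹) * n⁻¹ ≠ z := fun k => h6 (inj (k.trans ez.symm))
  have h9 : n * (n * w * n⁻¹) * n⁻¹ ≠ n * w * n⁻¹ := fun k => h1 (inj k)
  have hw1 := mem_normalizer_conj hn hw
  have hw2 := mem_normalizer_conj hn hw1
  generalize n * (n * w * n⁻¹) * n⁻¹ = c at *
  generalize n * w * n⁻¹ = b at *
  have : ({c, b, w, z, 1} : Set G).ncard ≤ (Z : Set G).ncard := Set.ncard_le_ncard (by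
    simp only [Set.insert_subset_iff, Set.singleton_subset_iff]
    exact ⟨hw2, hw1, hw, hz, one_mem Z⟩)
  rw [Set.ncard_insert_of_notMem (by simp [*]), Set.ncard_insert_of_notMem (by simp [*]),
    Set.ncard_insert_of_notMem (by simp [*]), Set.ncard_pair z1, ← Nat.card_coe_set_eq] at this
  exact absurd (this.trans h4) (by decide)

omit [Finite G] in
theorem exists_ne {A : Subgroup G} (h : A ≠ ⊥) : ∃ w ∈ A, w ≠ 1 := by
  by_contra! e
  exact h ((eq_bot_iff_forall _).2 e)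

end A5MH

open A5MH S5cH in
theorem pf_A5M [Bas1.{u}] [Bas2.{u}] [BasJ.{u}] [LZ.{u}] [FF.{u}] [A5S.{u}] [A5F.{u}] [A5J.{u}] :
    A5M.{u} := ⟨by
  intro G _ _ hG H Q π hM hT
  have hP := hG.p8
  obtain ⟨T, hTH⟩ := exists_isSylowIn (p := 2) H
  refine (A5S.a5 hG hM hT hTH).imp_right fun ⟨hNT, hTG⟩ => ?_
  obtain ⟨S, rfl⟩ := hTG.exists_sylow_eq
  obtain ⟨x, hx⟩ := A5F.ex hP hT hTH
  have hZ := (BasJ.ne hTH.isPGroup fun e => hM.ne (le_bot_iff.1 (e ▸ hx.le))).2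
  obtain ⟨-, -, l1, l2, l3, l4, -⟩ := BasJ.leT (S : Subgroup G)
  have lz : ∀ N : Subgroup G, Ch N → ¬ 5 ∣ Nat.card N → ¬ 7 ∣ Nat.card N → (S : Subgroup G) ≤ N →
      x ∈ N → N ≤ Ns (S : Subgroup G) := fun N h1 h2 h3 h4 h5 => by
    by_contra hn
    obtain ⟨k1, k2⟩ := LZ.out hP h1 h2 h3 (hTG.mono h4 le_top) h5 hx.ox hx.xT hn
    exact A5F.o hP hT hx k1 k2
  by_cases hc : Om (S : Subgroup G) ⊓ C1 x = ⊥
  swap
  · obtain ⟨z, hz, z1⟩ := exists_ne hc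
    have oz : orderOf z = 2 := orderOf_eq_prime (l3.2 z hz.1) z1
    exact ⟨S, z, oz, l4.trans (Cs_le_C1 hz.1), lz _ (Bas2.chc hG.c2 oz).2 (Bas1.cen hP (.inl oz)).1
      (Bas1.cen hP (.inl oz)).2 (l4.trans (Cs_le_C1 hz.1)) (mem_C1.2 (mem_C1.1 hz.2).symm)⟩
  obtain ⟨z, hz, z1⟩ := exists_ne hZ
  have oz : orderOf z = 2 := orderOf_eq_prime (l3.2 z hz) z1
  obtain ⟨h5, h7⟩ := Bas1.cen hP (.inl oz)
  have hSz := l4.trans (Cs_le_C1 hz)
  have hxZ := zpowers_le.2 (l2 hx.xT)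
  have hd := Solv.card_sup_dvd_of_le_normalizer (le_Ns_Cs hxZ)
  rw [Nat.card_zpowers, hx.ox] at hd
  have h0 := lz (Cs (Om (S : Subgroup G)) ⊔ zpowers x)
    (Bas2.ch hG.c2 ⟨_, hTH.isPGroup.to_le l1, hZ, rfl⟩ hTG (l4.trans le_sup_left) (sup_le Cs_le_Ns hxZ))
    (fun h => (((by decide : Nat.Prime 5).dvd_mul).1 (h.trans hd)).elim
      (fun h => h5 (h.trans (card_dvd_of_le (Cs_le_C1 hz)))) (by decide))
    (fun h => (((by decide : Nat.Prime 7).dvd_mul).1 (h.trans hd)).elim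
      (fun h => h7 (h.trans (card_dvd_of_le (Cs_le_C1 hz)))) (by decide))
    (l4.trans le_sup_left) (mem_sup_right (mem_zpowers x))
  have hCZ : Cs (Om (S : Subgroup G)) ≤ S := fun c hc' => by
    have h1 := h0 (mem_sup_left hc')
    obtain ⟨t, ht, y, hy, rfl⟩ := (Solv.mem_sup_of_le_normalizer (zpowers_le.2 hx.xT)).1
      (hx.nT ⟨hNT h1, h1⟩)
    by_cases y1 : y = 1
    · rwa [y1, mul_one]
    · have := mem_of_three hx.ox hy y1 ((mul_mem_cancel_left (l4 ht)).1 hc')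
      exact absurd (hc.le ⟨hz, mem_C1.2 (mem_Cs.1 this z hz)⟩) z1
  have hJ : C1 z ≤ Ns (Jt (S : Subgroup G)) := by
    by_contra hn
    obtain ⟨y, hy, oy, e⟩ := FF.out hP (Bas1.sol hP h5 h7) (Bas2.chc hG.c2 oz).2
      (hTG.mono hSz le_top) (inf_le_right.trans hCZ) hn
    exact A5J.fin hP hT hx (A5F.q hP hT hx hc) y hy oy e
  refine ⟨S, z, oz, hSz, ?_⟩
  by_cases hJQ : Jt (S : Subgroup G) ≤ Q
  · rw [← BasJ.eq hx.le hJQ, Bas2.nor hM.mx (hT.two.to_le (BasJ.leT Q).1) (BasJ.ne hT.two hM.ne).1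
      ((hM.eq ▸ le_normalizer.trans (BasJ.o2 H).2.2.1 : H ≤ Ns Q).trans (BasJ.leT Q).2.1)] at hJ
    exact hx.ovr _ hSz hJ h5
  · obtain ⟨e, h4⟩ := A5J.j hP hT hx hJQ
    have h1 := hJ.trans (BasJ.leT _).2.2.2.1
    rw [e] at h1
    have h2 : IsPGroup 2 (C1 z) := fun n => by
      obtain ⟨k, hk⟩ := hTH.isPGroup ⟨_, hCZ (sq_mem_Cs h4 hz z1 (h1 n.2) (mem_C1.1 n.2))⟩
      refine ⟨k + 1, Subtype.ext ?_⟩
      rw [pow_succ', pow_mul, pow_two]
      exact (congrArg Subtype.val hk :)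
    exact (hTG.eq_of_le h2 hSz le_top).le.trans le_normalizer⟩

end Cfsg.Lib.P8
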