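import Cfsg.Agent.P8.Brg

/-!
# Groups with element orders at most 8: failure of factorisation in solvable subgroups
-/

set_option autoImplicit false

namespace Cfsg.Lib.P8

open Subgroup Cfsg.Lib.Trans Cfsg.Lib.Gold
open scoped commutatorElement

universe u

namespace FFH

variable {G : Type u} [Group G] [Finite G] {X : Type u} [Group X] {M : Type u} [AddCommGroup M]
  [DistribMulAction X M] {H Q U₁ U₂ : Subgroup G} {π : G → X} {p : G → M}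

/-- The section map as a homomorphism. -/
def hom (hS : Sec H U₁ U₂ π p) : ↥U₂ →* Multiplicative M :=
  MonoidHom.mk' (fun a => Multiplicative.ofAdd (p a)) fun a b => congrArg Multiplicative.ofAdd (hS.add a a.2 b b.2)

theorem idx (hS : Sec H U₁ U₂ π p) (K : AddSubgroup M) (A : Subgroup G) (h : ∀ a ∈ U₂, a ∈ A → p a ∈ K) :
    K.index ≤ A.relIndex U₂ := by
  have hs : Function.Surjective (hom hS) := fun m => by
    obtain ⟨a, ha, e⟩ := hS.sur m.toAdd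
    exact ⟨⟨a, ha⟩, congrArg Multiplicative.ofAdd e⟩
  rw [← AddSubgroup.index_toSubgroup, ← index_comap_of_surjective _ hs]
  exact Nat.le_of_dvd (Nat.pos_of_ne_zero index_ne_zero_of_finite) (index_dvd_of_le fun a ha => h a a.2 ha)

/-- The fixed vectors of a subgroup. -/
def fixS (B : Subgroup X) : AddSubgroup M where
  carrier := {m | ∀ b ∈ B, b • m = m}
  add_mem' h h' b hb := by rw [smul_add, h b hb, h' b hb]
  zero_mem' b _ := smul_zero b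
  neg_mem' h b hb := by rw [smul_neg, h b hb]

omit [Finite G] in
theorem ea [PjB.{u, u}] (hP : Pj H Q π) {A : Subgroup G} (hA : A ≤ H) (he : EA A) {B : Subgroup X}
    (hB : ∀ y, y ∈ B ↔ ∃ a ∈ A, π a = y) : EA B := by
  refine ⟨⟨⟨fun x y => Subtype.ext ?_⟩⟩, fun y hy => ?_⟩
  · obtain ⟨a, ha, e⟩ := (hB x).1 x.2
    obtain ⟨b, hb, e'⟩ := (hB y).1 y.2
    have h1 : a * b = b * a := congrArg Subtype.val (he.1.is_comm.comm ⟨a, ha⟩ ⟨b, hb⟩)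
    rw [coe_mul, coe_mul, ← e, ← e', ← hP.mul a (hA ha) b (hA hb), h1, hP.mul b (hA hb) a (hA ha)]
  · obtain ⟨a, ha, rfl⟩ := (hB y).1 hy
    rw [← (PjB.one hP).2.2.1 a (hA ha), he.2 a ha, (PjB.one hP).1]

omit [Finite G] in
theorem conj_comm {a w : G} (h : w * a = a * w) : w * a * w⁻¹ = a := by rw [h, mul_inv_cancel_right]

theorem out [BasJ.{u}] [PjB.{u, u}] [Brg.{u, u}] [SvB.{u}] [LC.{u}] [FFm.{u}] (hP : Le8 G) {N T : Subgroup G}
    (hs : Group.IsSolvable N) (hC : Ch N) (hT : IsSylowIn 2 T N) (hc : N ⊓ Cs (Om T) ≤ T) (hJ : ¬ N ≤ Ns (Jt T)) :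
    ∃ y ∈ T, orderOf y = 2 ∧ (C1 y).relIndex T = 2 := by
  obtain ⟨X, _, _, π, -, -, -, -, -, hj, hSv, -⟩ := SvB.out hP hs hC
  obtain ⟨d1, d2, d3, d4, d5⟩ := BasJ.o2 N
  have hDT := d5 T hT
  have hND : N ≤ Ns (O2 N) := le_normalizer.trans d3
  obtain ⟨-, -, t3, -, t5, t6, -⟩ := BasJ.leT T
  obtain ⟨-, u2, u3, u4, u5, u6, u7⟩ := BasJ.leT (O2 N)
  have hZ : Om T ≤ Om (O2 N) := fun y hy => by
    have h1 : ∀ d ∈ O2 N, d * y = y * d := fun d hd => (t6 (hDT hd) y hy).symm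
    exact u7 y (hC ⟨hT.1 (t3 hy), h1⟩) (fun d hd => mem_centralizer_singleton_iff.2 (h1 d hd))
      (by rw [← pow_two]; exact t5.2 y hy)
  obtain ⟨M, _, _, _, p, hM, hS⟩ := Brg.sec.{u, u} hP hj (Brg.om.{u, u} hND)
  have hinj : ∀ a ∈ Om (O2 N), ∀ b ∈ Om (O2 N), p a = p b → a = b := fun a ha b hb h =>
    inv_mul_eq_one.1 (mem_bot.1 ((BrgH.p_eq hS.add hS.zero ha hb).1 h))
  have hNU : N ≤ Ns (Om (O2 N)) := hND.trans u4
  have hF : Fth X M := by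
    intro g hg
    obtain ⟨n, hn, rfl⟩ := hj.sur g
    refine (hj.ker n hn).2 (d4 (N ⊓ Cs (Om (O2 N))) inf_le_left
      (hT.2.1.to_le ((inf_le_inf_left _ (centralizer_le hZ)).trans hc))
      ((le_inf le_normalizer (hNU.trans (normalizer_le_normalizer_centralizer _))).trans
        inf_normalizer_le_normalizer_inf) ⟨hn, fun a ha => ?_⟩)
    have := hinj _ (mem_normalizer_conj (hNU hn) ha) a ha (by rw [hS.eqv n hn a ha, hg])
    exact (mul_inv_eq_iff_eq_mul.1 this).symm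
  have hJ' : ¬ Jt T ≤ O2 N := fun h => hJ (by rw [← BasJ.eq hDT h]; exact hND.trans u2)
  obtain ⟨A, a1, a2, a3, a4⟩ := BasJ.ex hJ'
  have hAN := a1.trans hT.1
  have ho := BasJ.off a1 (u3.trans hDT) a2 u5 (inf_le_right.trans u6) a4 u3
  have hr := LC.lr hP hs hC A hAN a2
  obtain ⟨B, hB, cB⟩ := PjB.im hj A hAN
  have hBe := ea hj hAN a2 hB
  have hK : (fixS (M := M) B).index ≤ Nat.card B := by
    rw [cB]
    refine (idx hS (fixS B) A fun a ha ha' b hb => ?_).trans ho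
    obtain ⟨c, hc, rfl⟩ := (hB b).1 hb
    rw [← hS.eqv c (hAN hc) a ha, conj_comm (congrArg Subtype.val (a2.1.is_comm.comm ⟨c, hc⟩ ⟨a, ha'⟩))]
  obtain ⟨b, hb, hbD⟩ := SetLike.not_le_iff_exists.1 a3
  have hbB : π b ∈ B := (hB _).2 ⟨b, hb, rfl⟩
  have hb2 : orderOf (π b) = 2 := orderOf_eq_prime (hBe.2 _ hbB) fun h => hbD ((hj.ker b (hAN hb)).1 h)
  have h2 : 2 ∣ Nat.card B := hb2 ▸ Subgroup.orderOf_dvd_natCard B hbB
  by_cases h4 : Nat.card B = 4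
  · exact (FFm.four hSv hM hF B (fixS B) hBe h4 (fun a ha m hm => hm a ha) (hK.trans h4.le)).elim
  obtain ⟨S, hSm, -⟩ := PjB.im hj T hT.1
  have hS2 : IsPGroup 2 S := fun s => by
    obtain ⟨t, ht, e⟩ := (hSm s).1 s.2
    obtain ⟨n, hn⟩ := hT.2.1 ⟨t, ht⟩
    refine ⟨n, Subtype.ext ?_⟩
    rw [Subgroup.coe_pow, ← e, ← (PjB.one hj).2.2.1 t (hT.1 ht), show t ^ 2 ^ n = 1 from congrArg Subtype.val hn,
      (PjB.one hj).1, Subgroup.coe_one]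
  have hbS : π b ∈ S := (hSm _).2 ⟨b, a1 hb, rfl⟩
  obtain ⟨y, y', h1, h3, h5⟩ := FFm.tv hSv hM hF hS2 hbS hb2 (fixS B) (fun m hm => hm _ hbB) (by omega)
  obtain ⟨z, hz, rfl⟩ := hS.sur y
  have hcz : ∀ t ∈ T, t ∈ C1 z ↔ π t • p z = p z := fun t ht => by
    rw [← hS.eqv t (hT.1 ht) z hz, mem_centralizer_singleton_iff]
    exact ⟨fun h => by rw [conj_comm h], fun h =>
      mul_inv_eq_iff_eq_mul.1 (hinj _ (mem_normalizer_conj (hNU (hT.1 ht)) hz) z hz h)⟩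
  refine ⟨z, hDT (u3 hz), orderOf_eq_prime (u5.2 z hz) fun h => h1 ?_, relIndex_eq_two_iff.2 ⟨b, a1 hb, fun t ht => ?_⟩⟩
  · rw [← h3, h, BrgH.p_one hS.add, smul_zero]
  · have htS : π t ∈ S := (hSm _).2 ⟨t, ht, rfl⟩
    rw [hcz _ (mul_mem ht (a1 hb)), hcz t ht, hj.mul t (hT.1 ht) b (hAN hb), mul_smul, h3]
    rcases h5 _ htS with h6 | h6
    · exact .inr ⟨h6, fun h => h1 (smul_left_cancel _ (h6.trans h.symm))⟩
    · refine .inl ⟨?_, fun h => h1 (h.symm.trans h6)⟩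
      have h7 := h5 _ (mul_mem htS hbS)
      rw [mul_smul, h3] at h7
      exact h7.resolve_right fun h => h1 (smul_left_cancel _ (h6.trans h.symm))

theorem ts1 [BasJ.{u}] [PjB.{u, u}] [SvB.{u}] [FFm.{u}] (hP : Le8 G) {N W : Subgroup G} (hs : Group.IsSolvable N)
    (hC : Ch N) (hW : W ≤ N) (he : EA W) (h4 : (O2 N).relIndex W = 4) (hc : ⁅O2 N, W⁆ ≤ W ⊓ O2 N)
    (hk : Nat.card ↥(W ⊓ O2 N) ≤ 4) : False := by
  obtain ⟨X, _, _, π, M, _, _, _, p, hj, hSv, hM, hF, hS⟩ := SvB.out hP hs hC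
  obtain ⟨-, -, d3, -, -⟩ := BasJ.o2 N
  have hND : N ≤ Ns (O2 N) := le_normalizer.trans d3
  obtain ⟨B, hB, cB⟩ := PjB.im hj W hW
  let I : AddSubgroup M :=
    { carrier := {m | ∃ a ∈ W ⊓ O2 N, p a = m}
      add_mem' := by
        rintro _ _ ⟨a, ha, rfl⟩ ⟨b, hb, rfl⟩
        exact ⟨a * b, mul_mem ha hb, hS.add a ha.2 b hb.2⟩
      zero_mem' := ⟨1, one_mem _, BrgH.p_one hS.add⟩
      neg_mem' := by
        rintro _ ⟨a, ha, rfl⟩
        exact ⟨a⁻¹, inv_mem ha, BrgH.p_inv hS.add ha.2⟩ }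
  refine FFm.comm hSv hM hF B I (ea hj hW he hB) (cB.trans h4) ?_ ?_ (le_trans ?_ hk)
  · rintro b hb _ ⟨a, ha, rfl⟩
    obtain ⟨c, hc, rfl⟩ := (hB b).1 hb
    rw [← hS.eqv c (hW hc) a ha.2, conj_comm (congrArg Subtype.val (he.1.is_comm.comm ⟨c, hc⟩ ⟨a, ha.1⟩))]
  · intro b hb m
    obtain ⟨c, hc', rfl⟩ := (hB b).1 hb
    obtain ⟨d, hd, rfl⟩ := hS.sur m
    refine ⟨⁅d⁻¹, c⁆, hc (commutator_mem_commutator (inv_mem hd) hc'), ?_⟩
    rw [show ⁅d⁻¹, c⁆ = d⁻¹ * (c * d * c⁻¹) by simp only [commutatorElement_def, inv_inv, mul_assoc],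
      hS.add _ (inv_mem hd) _ (mem_normalizer_conj (hND (hW hc')) hd), hS.eqv c (hW hc') d hd, BrgH.p_inv hS.add hd,
      neg_eq_of_add_eq_zero_left (hM.two _)]
  · refine Nat.card_le_card_of_surjective (fun a : ↥(W ⊓ O2 N) => (⟨p a, a, a.2, rfl⟩ : I)) ?_
    rintro ⟨_, a, ha, rfl⟩
    exact ⟨⟨a, ha⟩, rfl⟩

end FFH

theorem pf_FF [BasJ.{u}] [PjB.{u, u}] [Brg.{u, u}] [SvB.{u}] [LC.{u}] [FFm.{u}] : FF.{u} :=
  ⟨FFH.out, FFH.ts1⟩

end Cfsg.Lib.P8
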