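import Cfsg.Agent.P8.M3h

/-!
# Groups with element orders at most 8: `E₉` in `A₆`; modules for `A₇`
-/

set_option autoImplicit false

namespace Cfsg.Lib.P8

open Subgroup Equiv Equiv.Perm Cfsg.Lib.Trans Cfsg.Lib.Gold M3hH

universe u v

namespace M4H

/-- Same bisection. -/
def rl (g h : A6) : Bool := (List.range 3).any fun i => (List.range 3).any fun j =>
  (List.range 4).any fun k => decide (g = h * (el 6 4489216 ^ i * el 6 11677696 ^ j * el 6 11146760 ^ k))

theorem rl_eq_1' : type_of% @rl.eq_1 := @rl.eq_1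

theorem five : ∀ p ∈ [(8487944, 0), (11371528, 0), (10617864, 0)],
    el 6 p.1 * el 6 p.1 * el 6 p.1 * el 6 p.1 * el 6 p.1 = 1 ∧ el 6 p.1 ≠ 1 := by decide +kernel

theorem cert : red rl ((1 :: [(8487944, 0), (11371528, 0), (10617864, 0)].flatMap
    (fun p => nl (el 6 p.1) (el 6 p.2))).map id) = [] := by decide +kernel

theorem p3 {X : Type*} [Group X] {a b : X} (h : E9 a b) : IsPGroup 3 ↥(zpowers a ⊔ zpowers b) := by
  have k : ∀ c : X, orderOf c = 3 → IsPGroup 3 (zpowers c) := fun c hc =>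
    IsPGroup.of_card (n := 1) (by rw [Nat.card_zpowers, hc, pow_one])
  refine (k a h.1).to_sup_of_normal_right' (k b h.2.1) (zpowers_le.2 (Cs_le_Ns ?_))
  rw [Cs_zpowers]
  exact mem_C1.2 h.2.2.1

theorem e9 : E9 (el 6 4489216) (el 6 11677696) :=
  ⟨ord3 (by decide +kernel), ord3 (by decide +kernel), by decide +kernel, fun h => by
    rw [mem_zpowers_iff_mem_range_orderOf, ord3 (σ := el 6 4489216) (by decide +kernel)] at h
    revert h
    decide +kernel⟩

theorem base [MdA.{u, 0}] {M : Type u} [AddCommGroup M] [Finite M] [DistribMulAction A6 M] (h : Md A6 M)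
    (m : M) (hx : el 6 4489216 • m = m) (hy : el 6 11677696 • m = m) : m = 0 := by
  by_contra m0
  let K : AddSubgroup M :=
    { carrier := {m | el 6 4489216 • m = m ∧ el 6 11677696 • m = m}
      add_mem' := fun ha hb => ⟨by rw [smul_add, ha.1, hb.1], by rw [smul_add, ha.2, hb.2]⟩
      zero_mem' := ⟨smul_zero _, smul_zero _⟩
      neg_mem' := fun ha => ⟨by rw [smul_neg, ha.1], by rw [smul_neg, ha.2]⟩ }
  have e1 : el 6 4489216 * el 6 11146760 = el 6 11146760 * (el 6 11677696 * el 6 11677696) := by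
    decide +kernel
  have e2 : el 6 11677696 * el 6 11146760 = el 6 11146760 * el 6 4489216 := by decide +kernel
  have e3 : el 6 11146760 ^ 2 ^ 2 = 1 := by decide +kernel
  have k0 : ∀ n : ℕ, ∀ m ∈ K, el 6 11146760 ^ n • m ∈ K := fun n => by
    induction n with
    | zero => intro m hm; rwa [pow_zero, one_smul]
    | succ n ih =>
      intro m hm
      obtain ⟨h1, h2⟩ := ih m hm
      rw [pow_succ', mul_smul]
      exact ⟨by rw [← mul_smul, e1, mul_smul, mul_smul, h2, h2], by rw [← mul_smul, e2, mul_smul, h1]⟩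
  obtain ⟨w, ⟨w1, w2⟩, w0, hw⟩ := MdA.fix2 h (S := zpowers (el 6 11146760))
    (IsPGroup.of_card (n := (orderOf (el 6 11146760)).factorization 2) (by
      obtain ⟨k, -, hk⟩ := (Nat.dvd_prime_pow Nat.prime_two).1 (orderOf_dvd_of_pow_eq_one e3)
      rw [Nat.card_zpowers, hk, Nat.prime_two.factorization_pow, Finsupp.single_eq_same]))
    (K := K) (fun s hs m hm => by
      obtain ⟨n, rfl⟩ := (mem_powers_iff_mem_zpowers.2 hs)
      exact k0 n m hm)
    (fun e => m0 (AddSubgroup.mem_bot.1 (e ▸ (⟨hx, hy⟩ : m ∈ K))))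
  have f : ∀ (g : A6) (n : ℕ), g • w = w → g ^ n • w = w := fun g n e =>
    MulAction.mem_stabilizer_iff.1 (pow_mem (MulAction.mem_stabilizer_iff.2 e) n)
  have hr : ∀ g k : A6, rl (id g) (id k) = true → g • w = k • w := fun g k e => by
    simp only [rl, List.any_eq_true, decide_eq_true_eq, id] at e
    obtain ⟨i, -, j, -, l, -, rfl⟩ := e
    rw [mul_smul, mul_smul, mul_smul, f _ l (hw _ (mem_zpowers _)), f _ j w2, f _ i w1]
  have := sum_zero h.two id hr cert
  rw [List.map_cons, List.sum_cons, sum_flatMap fun p hp => nl_sum h (five p hp) _ w, one_smul,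
    add_zero] at this
  exact w0 this

theorem a6 [MdA.{u, 0}] {M : Type u} [AddCommGroup M] [Finite M] [DistribMulAction A6 M] (h : Md A6 M)
    {a b : A6} (e : E9 a b) (m : M) (ha : a • m = m) (hb : b • m = m) : m = 0 := by
  have : Fact (Nat.Prime 3) := ⟨by decide⟩
  obtain ⟨T, hT, hPT⟩ := exists_isSylowIn_ge (p3 e) le_top
  have c1 : Nat.card T ≤ 9 := by
    have h1 := card_subgroup_dvd_card T
    obtain ⟨n, hn⟩ := IsPGroup.iff_card.1 hT.isPGroup
    have h2 : Nat.card A6 = 360 := by
      have : 2 * Nat.card A6 = _ := two_mul_nat_card_alternatingGroup (α := Fin 6)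
      rw [Nat.card_perm, Nat.card_fin] at this
      simp only [Nat.factorial] at this
      omega
    rw [hn, h2] at h1
    rw [hn]
    by_contra hc
    have : 3 ≤ n := by
      by_contra h3
      interval_cases n <;> simp at hc
    exact absurd ((pow_dvd_pow 3 this).trans h1) (by norm_num)
  have c2 : 9 ≤ Nat.card ↥(zpowers a ⊔ zpowers b) := by
    have h1 := card_lt_of_lt (T := zpowers a) (U := zpowers a ⊔ zpowers b)
      (left_lt_sup.2 fun k => e.2.2.2 (k (mem_zpowers b)))
    obtain ⟨n, hn⟩ := IsPGroup.iff_card.1 (p3 e)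
    rw [Nat.card_zpowers, e.1, hn] at h1
    rw [hn]
    have : 2 ≤ n := by
      by_contra h3
      interval_cases n <;> simp at h1
    exact Nat.pow_le_pow_right (n := 3) (by norm_num) this
  obtain ⟨k, -, hk⟩ := (hT.of_card_ge (p3 e) le_top (c1.trans c2)).exists_cj_le (p3 e9) le_top
  have hS : zpowers a ⊔ zpowers b ≤ MulAction.stabilizer A6 m := sup_le (zpowers_le.2 ha) (zpowers_le.2 hb)
  have f : ∀ g ∈ zpowers (el 6 4489216) ⊔ zpowers (el 6 11677696), g • k⁻¹ • m = k⁻¹ • m := fun g hg => by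
    have : (k * g * k⁻¹) • m = m := hS (cj_le_iff.1 hk g hg)
    rwa [mul_smul, mul_smul, smul_eq_iff_eq_inv_smul] at this
  have := base h (k⁻¹ • m) (f _ (mem_sup_left (mem_zpowers _))) (f _ (mem_sup_right (mem_zpowers _)))
  rwa [inv_smul_eq_iff, smul_zero] at this

theorem a7 [MdA.{u, 0}] [MdB.{u, 0}] {M : Type u} [AddCommGroup M] [Finite M] [DistribMulAction A7 M]
    (h : Md A7 M) : Subsingleton M := by
  have ox : orderOf (el 7 18387828736) = 3 := ord3 (by decide +kernel)
  have k := MdA.fi h (t := el 7 57495519232) (σ := el 7 55440408576)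
    (orderOf_eq_prime (by decide +kernel) (by decide +kernel)) (.inl (ord5 (by decide +kernel)))
    (by decide +kernel) ox (by decide +kernel)
  have f1 : fx (M := M) (el 7 18387828736) = 1 :=
    Nat.card_eq_one_iff_unique.2 ⟨⟨fun a b => Subtype.ext ((k _ a.2).trans (k _ b.2).symm)⟩,
      ⟨⟨0, smul_zero _⟩⟩⟩
  have e : E9 (el 7 18387828736) (el 7 47831842816) :=
    ⟨ox, ord3 (by decide +kernel), by decide +kernel, fun h => by
      rw [mem_zpowers_iff_mem_range_orderOf, ox] at h
      revert h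
      decide +kernel⟩
  have h1 := MdB.four h e fun m hm _ => k m hm
  have : Fact (Nat.Prime 7) := ⟨by decide⟩
  have h2 := MdB.cube h (σ := el 7 57655796808) (x := el 7 56432295936)
    (orderOf_eq_prime (by decide +kernel) (by decide +kernel)) (ord3 (by decide +kernel))
    (by decide +kernel)
  have e1 : el 7 47831842816 = el 7 45657128960 * el 7 18387828736 * (el 7 45657128960)⁻¹ := by
    decide +kernel
  have e2 : el 7 18387828736 * el 7 47831842816 =
      el 7 54114942976 * el 7 56432295936 * (el 7 54114942976)⁻¹ := by decide +kernel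
  have e3 : el 7 18387828736 * (el 7 47831842816)⁻¹ =
      el 7 47016607744 * el 7 56432295936 * (el 7 47016607744)⁻¹ := by decide +kernel
  rw [e2, e3, e1, (MdB.cjg _ _).1, (MdB.cjg _ _).1, (MdB.cjg _ _).1, f1] at h1
  have h3 : 0 < Nat.card M := Nat.card_pos
  generalize fx (M := M) (el 7 56432295936) = n at h1 h2
  have h4 : n = 1 := by
    rw [h1] at h2 h3
    have : 0 < n := by nlinarith
    have : n * n * 1 = n * n * n := by linarith
    exact (Nat.eq_of_mul_eq_mul_left (by positivity) this).symm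
  rw [h4] at h2
  exact (Nat.card_eq_one_iff_unique.1 h2).1

end M4H

theorem pf_M4 [MdA.{u, 0}] [MdB.{u, 0}] : M4.{u} := ⟨fun h _ _ e => M4H.a6 h e, fun h => M4H.a7 h⟩

end Cfsg.Lib.P8
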