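import Cfsg.Agent.P8.Stm
import Cfsg.Agent.AltC.SplA
import Cfsg.Agent.Class.Five.R53A
import Cfsg.Agent.Local.SixRecog

/-!
# Groups with element orders at most 8: the groups `A₆.2`
-/

set_option autoImplicit false

namespace Cfsg.Lib.P8

open Subgroup Cfsg.Lib.Trans Cfsg.Lib.Gold Equiv Equiv.Perm

universe u

namespace M9H

def z : A6 := ⟨swap 0 1 * swap 2 3, mem_alternatingGroup.2 (by decide)⟩
def t1 : A6 := ⟨swap 0 2 * swap 1 3, mem_alternatingGroup.2 (by decide)⟩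
def t2 : A6 := ⟨swap 0 1 * swap 4 5, mem_alternatingGroup.2 (by decide)⟩
def x0 : A6 := ⟨swap 0 1 * swap 1 2, mem_alternatingGroup.2 (by decide)⟩
def s5 : A6 := ⟨swap 4 0 * swap 0 2 * swap 2 3 * swap 3 1, mem_alternatingGroup.2 (by decide)⟩

theorem f1 : ∀ g : Perm (Fin 6), g * z.1 = z.1 * g → g * g = 1 → sign g = 1 →
    g = 1 ∨ g = z.1 ∨ g = t1.1 ∨ g = (t1 * z).1 ∨ g = t2.1 ∨ g = (t2 * z).1 := by decide +kernel

theorem f2 : ∀ c : Perm (Fin 6), c * t1.1 = (t1 * z).1 * c → c * t2.1 = (t2 * z).1 * c → c * z.1 = z.1 * c →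
    sign c = 1 → c * c = z.1 := by decide +kernel

theorem f3 : ∀ g : Perm (Fin 6), (g * t1.1 = z.1 * g ∨ g * (t1 * z).1 = z.1 * g) → g ^ 3 = 1 →
    g.cycleType = {3} := by decide +kernel

/-- The data for the second alternative inside `S₆`. -/
def P (k : Perm (Fin 6)) : Prop := ∃ τ y : Perm (Fin 6), sign τ = -1 ∧ sign y = 1 ∧ τ * τ = 1 ∧ τ * k = k * τ ∧
  y ^ 3 = 1 ∧ k * y = y * k ∧ y ≠ 1 ∧ y ≠ k ∧ y ≠ k ^ 2 ∧ τ * y * τ⁻¹ = y⁻¹

theorem P.conj {k k' : Perm (Fin 6)} (h : P k) (hc : IsConj k k') : P k' := by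
  obtain ⟨g, rfl⟩ := isConj_iff.1 hc
  obtain ⟨τ, y, h1, h2, h3, h4, h5, h6, h7, h8, h9, h10⟩ := h
  let c := MulAut.conj g
  refine ⟨c τ, c y, by simp [c, h1], by simp [c, h2], by rw [← map_mul, h3, map_one], ?_,
    by rw [← map_pow, h5, map_one], ?_, by simpa using h7, ?_, ?_, by rw [← map_inv, ← map_mul, ← map_mul, h10, map_inv]⟩
  · change c τ * c k = c k * c τ
    rw [← map_mul, ← map_mul, h4]
  · change c k * c y = c y * c k
    rw [← map_mul, ← map_mul, h6]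
  · exact fun h => h8 (c.injective h)
  · exact fun h => h9 (c.injective (by rw [h, map_pow]; rfl))

theorem p3 (k : A6) (hk : orderOf k = 3) : P k.1 := by
  rcases Local.cycleType_of_order_three k hk with h | h
  · refine P.conj (k := swap 0 1 * swap 1 2) ⟨swap 3 4, swap 3 4 * swap 4 5, by decide +kernel⟩ ?_
    rw [isConj_iff_cycleType_eq, h]; decide +kernel
  · refine P.conj (k := swap 0 1 * swap 1 2 * (swap 3 4 * swap 4 5))
      ⟨swap 0 3 * swap 1 4 * swap 2 5, swap 0 1 * swap 1 2 * (swap 3 4 * swap 4 5)⁻¹, by decide +kernel⟩ ?_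
    rw [isConj_iff_cycleType_eq, h]; decide +kernel

variable {X : Type u} [Group X] {L : Subgroup X} {ι : A6 →* X}

/-- The set-up. -/
structure St (L : Subgroup X) (ι : A6 →* X) : Prop where
  inj : Function.Injective ι
  mem : ∀ g, g ∈ L ↔ ∃ k, ι k = g
  fa : ∀ g : X, (∀ k, g * ι k * g⁻¹ = ι k) → g = 1
  aut : ∀ g : X, ∃ ψ : MulAut A6, ∀ k, ι (ψ k) = g * ι k * g⁻¹
  idx : L.index = 2

theorem St.keep (h : St L ι) {a : X} (ha : a ∉ L) {ψ : MulAut A6} (hψ : ∀ k, ι (ψ k) = a * ι k * a⁻¹)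
    (hc : IsConj x0 (ψ x0)) :
    ∀ x ∈ L, orderOf x = 3 → ∃ s : X, orderOf s = 2 ∧ s * x = x * s ∧ ∃ y ∈ L, E9 x y ∧ s * y * s⁻¹ = y⁻¹ := by
  obtain ⟨σ, rfl⟩ := AltC.Spl.aut_fin le_rfl ψ fun _ => ⟨x0, orderOf_eq_prime (by decide) (by decide), hc⟩
  have hσ : sign σ = -1 := by
    refine (Int.units_eq_one_or _).resolve_left fun h1 => ha ((h.mem a).2 ⟨⟨σ, mem_alternatingGroup.2 h1⟩, ?_⟩)
    have := h.fa ((ι ⟨σ, mem_alternatingGroup.2 h1⟩)⁻¹ * a) fun k => by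
      calc (ι ⟨σ, mem_alternatingGroup.2 h1⟩)⁻¹ * a * ι k * ((ι ⟨σ, mem_alternatingGroup.2 h1⟩)⁻¹ * a)⁻¹
          = (ι ⟨σ, mem_alternatingGroup.2 h1⟩)⁻¹ * (a * ι k * a⁻¹) * ι ⟨σ, mem_alternatingGroup.2 h1⟩ := by group
        _ = ι k := by
          rw [← hψ, ← map_inv, ← map_mul, ← map_mul]
          congr 1
          apply Subtype.ext
          simp [mul_assoc]
    exact inv_mul_eq_one.1 this
  intro x hx ho
  obtain ⟨k, rfl⟩ := (h.mem x).1 hx
  rw [orderOf_injective ι h.inj] at ho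
  obtain ⟨τ, y, h1, h2, h3, h4, h5, h6, h7, h8, h9, h10⟩ := p3 k ho
  let l : A6 := ⟨σ⁻¹ * τ, mem_alternatingGroup.2 (by simp [hσ, h1])⟩
  have hs : ∀ m m' : A6, τ * m.1 * τ⁻¹ = m'.1 → a * ι l * ι m * (a * ι l)⁻¹ = ι m' := by
    intro m m' hm
    calc a * ι l * ι m * (a * ι l)⁻¹ = a * (ι l * ι m * (ι l)⁻¹) * a⁻¹ := by group
      _ = ι m' := by
        rw [← map_inv, ← map_mul, ← map_mul, ← hψ]
        congr 1
        apply Subtype.ext
        simp [l, mul_assoc, ← hm]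
  let y' : A6 := ⟨y, mem_alternatingGroup.2 h2⟩
  have hy3 : orderOf y' = 3 := orderOf_eq_prime (Subtype.ext h5) fun h => h7 (congrArg Subtype.val h)
  refine ⟨a * ι l, orderOf_eq_prime ?_ ?_, ?_, ι y', (h.mem _).2 ⟨_, rfl⟩, ⟨?_, ?_, ?_, ?_⟩, ?_⟩
  · refine h.fa _ fun m => ?_
    have e1 := hs m (MulAut.conjNormal τ m) rfl
    have e2 := hs (MulAut.conjNormal τ m) m (by
      change τ * (τ * m * τ⁻¹) * τ⁻¹ = m
      calc τ * (τ * m * τ⁻¹) * τ⁻¹ = (τ * τ) * m * (τ * τ)⁻¹ := by group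
        _ = m := by rw [h3]; simp)
    rw [← e1] at e2
    refine Eq.trans ?_ e2
    simp only [pow_two]; group
  · intro h0
    exact ha ((mul_mem_cancel_right ((h.mem _).2 ⟨l, rfl⟩)).1 (h0 ▸ L.one_mem))
  · exact mul_inv_eq_iff_eq_mul.1 (hs k k (mul_inv_eq_iff_eq_mul.2 h4))
  · rw [orderOf_injective ι h.inj, ho]
  · rw [orderOf_injective ι h.inj, hy3]
  · rw [← map_mul, ← map_mul]; exact congrArg ι (Subtype.ext h6)
  · rw [← MonoidHom.map_zpowers, mem_map_iff_mem h.inj, mem_zpowers_iff_mem_range_orderOf, ho]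
    simp only [Finset.mem_image, Finset.mem_range]
    rintro ⟨n, hn, e⟩
    have e' := congrArg Subtype.val e
    interval_cases n
    · exact h7 e'.symm
    · exact h8 (by rw [pow_one] at e'; exact e'.symm)
    · exact h9 e'.symm
  · rw [← map_inv]; exact hs y' y'⁻¹ h10

theorem St.eight (h : St L ι) {a : X} {ψ : MulAut A6} (hψ : ∀ k, ι (ψ k) = a * ι k * a⁻¹) (h0 : ψ z = z)
    (h1 : ψ (ψ t1) = t1 * z) (h2 : ψ (ψ t2) = t2 * z) :
    ∃ b ∈ L, ∃ s σ : X, orderOf s = 8 ∧ b = s ^ 4 ∧ orderOf σ = 5 ∧ b * σ * b⁻¹ = σ⁻¹ := by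
  obtain ⟨c, hc⟩ := (h.mem _).1 (mul_self_mem_of_index_two h.idx a)
  have e : ∀ k, c * k = ψ (ψ k) * c := fun k => h.inj (by
    rw [map_mul, map_mul, hψ, hψ, hc]; group)
  have e1 : c * c = z := Subtype.ext (f2 c.1 (by rw [← h1]; exact congrArg Subtype.val (e t1))
    (by rw [← h2]; exact congrArg Subtype.val (e t2))
    (by have := e z; rw [h0, h0] at this; exact congrArg Subtype.val this) (mem_alternatingGroup.1 c.2))
  have e2 : ι z = a ^ 4 := by rw [← e1, map_mul, hc]; simp only [pow_succ, pow_zero]; group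
  refine ⟨ι z, (h.mem _).2 ⟨_, rfl⟩, a, ι s5, orderOf_eq_prime_pow (p := 2) (n := 2) ?_ ?_, e2, ?_, ?_⟩
  · change ¬ a ^ 4 = 1
    rw [← e2, map_eq_one_iff ι h.inj]; decide
  · change a ^ (4 * 2) = 1
    rw [pow_mul, ← e2, ← map_pow, map_eq_one_iff ι h.inj]; decide
  · have : Fact (Nat.Prime 5) := ⟨by norm_num⟩
    rw [orderOf_injective ι h.inj]
    exact orderOf_eq_prime (by decide) (by decide)
  · rw [← map_inv, ← map_inv, ← map_mul, ← map_mul]; exact congrArg ι (by decide)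

theorem St.main (h : St L ι) : (∃ b ∈ L, ∃ s σ : X, orderOf s = 8 ∧ b = s ^ 4 ∧ orderOf σ = 5 ∧ b * σ * b⁻¹ = σ⁻¹) ∨
    (∀ x ∈ L, orderOf x = 3 → ∃ s : X, orderOf s = 2 ∧ s * x = x * s ∧ ∃ y ∈ L, E9 x y ∧ s * y * s⁻¹ = y⁻¹) := by
  obtain ⟨a, ha, ψ, hψ, h0⟩ : ∃ a, a ∉ L ∧ ∃ ψ : MulAut A6, (∀ k, ι (ψ k) = a * ι k * a⁻¹) ∧ ψ z = z := by
    obtain ⟨a, ha⟩ : ∃ a, a ∉ L := by
      by_contra hcon
      push Not at hcon
      have := h.idx
      rw [(eq_top_iff' L).2 hcon, index_top] at this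
      omega
    obtain ⟨ψ, hψ⟩ := h.aut a
    obtain ⟨c, hc⟩ := isConj_iff.1 (Five.R53.conj_alt le_rfl (by norm_num) (ψ z) z
      (by rw [← map_mul, show z * z = 1 by decide, map_one]) (by decide) (by rw [Ne, map_eq_one_iff ψ ψ.injective]; decide)
      (by decide))
    refine ⟨ι c * a, fun h1 => ha ((mul_mem_cancel_left ((h.mem _).2 ⟨c, rfl⟩)).1 h1), MulAut.conj c * ψ,
      fun k => ?_, hc⟩
    rw [MulAut.mul_apply, MulAut.conj_apply, map_mul, map_mul, map_inv, hψ]; group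
  have hcl : ∀ t : A6, t * z = z * t → t * t = 1 → t ≠ 1 → t ≠ z →
      ψ t = t1 ∨ ψ t = t1 * z ∨ ψ t = t2 ∨ ψ t = t2 * z := by
    intro t a1 a2 a3 a4
    have b1 : ψ t * z = z * ψ t := by
      have := congrArg ψ a1
      rwa [map_mul, map_mul, h0] at this
    have b2 : ψ t * ψ t = 1 := by rw [← map_mul, a2, map_one]
    rcases f1 (ψ t).1 (congrArg Subtype.val b1) (congrArg Subtype.val b2) (mem_alternatingGroup.1 (ψ t).2) with
      e | e | e | e | e | e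
    · exact absurd ((map_eq_one_iff ψ ψ.injective).1 (Subtype.ext e)) a3
    · exact absurd (ψ.injective ((Subtype.ext e).trans h0.symm)) a4
    all_goals simp only [Subtype.ext e, true_or, or_true]
  have hk : ψ t1 = t1 ∨ ψ t1 = t1 * z → IsConj x0 (ψ x0) := by
    intro h1
    have e := congrArg ψ (show x0 * t1 = z * x0 by decide)
    rw [map_mul, map_mul, h0] at e
    refine alternatingGroup.isThreeCycle_isConj (by simp) (show x0.1.cycleType = {3} by decide +kernel)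
      (f3 (ψ x0).1 (h1.imp (fun h => ?_) (fun h => ?_)) ?_)
    · rw [h] at e; exact congrArg Subtype.val e
    · rw [h] at e; exact congrArg Subtype.val e
    · rw [← Subgroup.coe_pow, ← map_pow, show x0 ^ 3 = 1 by decide, map_one, Subgroup.coe_one]
  have hψ' : ∀ k, ι ((ψ * MulAut.conj t1) k) = a * ι t1 * ι k * (a * ι t1)⁻¹ := fun k => by
    rw [MulAut.mul_apply, hψ, MulAut.conj_apply, map_mul, map_mul, map_inv]; group
  have c0 : (ψ * MulAut.conj t1) z = z := by rw [MulAut.mul_apply, show MulAut.conj t1 z = z by decide, h0]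
  have c1 : (ψ * MulAut.conj t1) t1 = ψ t1 := by rw [MulAut.mul_apply, show MulAut.conj t1 t1 = t1 by decide]
  have c2 : (ψ * MulAut.conj t1) t2 = ψ t2 * z := by
    rw [MulAut.mul_apply, show MulAut.conj t1 t2 = t2 * z by decide, map_mul, h0]
  have zz : ∀ t : A6, t * z * z = t := fun t => by rw [mul_assoc, show z * z = 1 by decide, mul_one]
  have hn : ψ t1 * ψ t2 ≠ ψ t2 * ψ t1 := by
    rw [← map_mul, ← map_mul]; exact fun h => absurd (ψ.injective h) (by decide)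
  rcases hcl t1 (by decide) (by decide) (by decide) (by decide) with e | e | e | e
  · exact .inr (h.keep ha hψ (hk (.inl e)))
  · exact .inr (h.keep ha hψ (hk (.inr e)))
  · left
    rcases hcl t2 (by decide) (by decide) (by decide) (by decide) with f | f | f | f
    · exact h.eight hψ' c0 (by rw [c1, e, c2, f]) (by rw [c2, f, map_mul, c1, c0, e])
    · exact h.eight hψ h0 (by rw [e, f]) (by rw [f, map_mul, e, h0])
    · exact absurd (by rw [e, f]) hn
    · exact absurd (by rw [e, f]; decide) hn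
  · left
    rcases hcl t2 (by decide) (by decide) (by decide) (by decide) with f | f | f | f
    · exact h.eight hψ h0 (by rw [e, map_mul, f, h0]) (by rw [f, e])
    · exact h.eight hψ' c0 (by rw [c1, e, map_mul, c2, c0, f, zz]) (by rw [c2, f, zz, c1, e])
    · exact absurd (by rw [e, f]; decide) hn
    · exact absurd (by rw [e, f]) hn

end M9H

theorem pf_M9 : M9.{u} := by
  refine ⟨fun {X} _ _ L _ ⟨e⟩ hC hi => M9H.St.main (ι := L.subtype.comp e.symm.toMonoidHom) ⟨?_, ?_, ?_, ?_, hi⟩⟩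
  · exact L.subtype_injective.comp e.symm.injective
  · exact fun g => ⟨fun h => ⟨e ⟨g, h⟩, by simp⟩, fun ⟨k, hk⟩ => hk ▸ (e.symm k).2⟩
  · intro g hg
    rw [← mem_bot, ← hC]
    intro l hl
    have := hg (e ⟨l, hl⟩)
    simp only [MonoidHom.comp_apply, MulEquiv.coe_toMonoidHom, MulEquiv.symm_apply_apply, coe_subtype] at this
    exact (mul_inv_eq_iff_eq_mul.1 this).symm
  · exact fun g => ⟨(e.symm.trans (MulAut.conjNormal g)).trans e, fun k => by simp⟩

end Cfsg.Lib.P8
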