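import Cfsg.Agent.P8.Stm
import Cfsg.Agent.Gold.Cm

/-!
# Groups with element orders at most 8: modules for `A₅` and `S₅`
-/

set_option autoImplicit false
set_option maxRecDepth 100000

namespace Cfsg.Lib.P8

open Subgroup Cfsg.Lib.Trans Cfsg.Lib.Gold

universe u

namespace MA5H

/-- The 3-cycle on `2, 3, 4`. -/
def x0 : A5 := ⟨Equiv.swap 2 3 * Equiv.swap 3 4, Equiv.Perm.mem_alternatingGroup.2 (by decide)⟩

/-- An involution inverting it. -/
def s0 : A5 := ⟨Equiv.swap 0 1 * Equiv.swap 2 3, Equiv.Perm.mem_alternatingGroup.2 (by decide)⟩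

theorem sq4 : ∀ g : A5, g ^ 4 = 1 → g * g = 1 := by decide +kernel

theorem pt : ∀ t : A5, t * t = 1 → t ≠ 1 → ∃ p, ∀ s : A5, s * t = t * s → s.1 p = p := by
  decide +kernel

theorem c4 : ∀ p, Fintype.card {s : A5 // s * s = 1 ∧ s.1 p = p} = 4 := by decide +kernel

theorem nfix : ∀ p, ∀ x : A5, (∀ s : A5, s * s = 1 ∧ s.1 p = p → (x * s * x⁻¹).1 p = p) →
    x.1 p = p := by decide +kernel

theorem cj3 : ∀ x : A5, x ^ 3 = 1 → x ≠ 1 → ∃ g : A5, g * x * g⁻¹ = x0 := by decide +kernel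

theorem cj3' : ∀ x : S5, x ^ 3 = 1 → x ≠ 1 → ∃ g : S5, g * x * g⁻¹ = x0.1 := by decide +kernel

theorem stab : ∀ g : A5, ((g : S5) 0 = 0 ∧ (g : S5) 1 = 1) ∨ ((g : S5) 0 = 1 ∧ (g : S5) 1 = 0) →
    g ∈ [1, x0, x0 * x0, s0, s0 * x0, s0 * (x0 * x0)] := by decide +kernel

theorem pick : ∀ p, ∃ t : A5, (t * t = 1 ∧ t.1 p = p) ∧ ∃ i j,
    Function.Bijective ![p, i, j, t.1 i, t.1 j] := by decide +kernel

theorem tr2 : ∀ i j : Fin 5, i ≠ j → ∃ g : A5, g.1 0 = i ∧ g.1 1 = j := by decide +kernel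

theorem tr1 : ∀ i j : Fin 5, ∃ g : A5, g.1 i = j := by decide +kernel

theorem inv3 : ∀ t : A5, t * t = 1 → t ≠ 1 →
    ∃ g : A5, (g * g) ^ 3 = 1 ∧ g * g ≠ 1 ∧ t * g * t⁻¹ = g⁻¹ := by decide +kernel

set_option synthInstance.maxSize 2000 in
set_option synthInstance.maxHeartbeats 200000 in
theorem four : ∀ t : A5, t * t = 1 → t ≠ 1 → ∀ s : A5, s * s = 1 → s * t = t * s →
    s = 1 ∨ s = t ∨ ∃ y : A5, (∀ v ∈ [1, t, s, s * t], (y * v) ^ 3 = 1 ∧ y * v ≠ 1) ∧
      y * t * (y * t) = y * y * s ∧ y * s * (y * s) = y * y * (s * t) ∧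
      y * (s * t) * (y * (s * t)) = y * y * t := by decide +kernel

theorem exp {T : Subgroup A5} (hT : Nat.card T = 4) : ∀ t ∈ T, t * t = 1 := fun t ht =>
  sq4 t (orderOf_dvd_iff_pow_eq_one.1 (hT ▸ T.orderOf_dvd_natCard ht))

theorem four_group {T : Subgroup A5} (hT : Nat.card T = 4) :
    ∃ p, ∀ s : A5, s ∈ T ↔ s * s = 1 ∧ s.1 p = p := by
  obtain ⟨⟨t, ht⟩, t1⟩ := (ne_bot_iff_exists_ne_one (H := T)).1 fun e => by
    rw [e, card_bot] at hT; omega
  obtain ⟨p, hp⟩ := pt t (exp hT t ht) fun e => t1 (Subtype.ext e)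
  have h1 : (T : Set A5) ⊆ {s | s * s = 1 ∧ s.1 p = p} := fun s hs =>
    ⟨exp hT s hs, hp s (comm_of_sq (exp hT) s hs t ht)⟩
  refine ⟨p, Set.ext_iff.1 (Set.eq_of_subset_of_ncard_le h1 ?_)⟩
  change Nat.card {s : A5 // s * s = 1 ∧ s.1 p = p} ≤ Nat.card T
  rw [hT, Nat.card_eq_fintype_card, c4]

section
variable {X : Type} [Group X] {M : Type u} [AddCommGroup M] [Finite M] [DistribMulAction X M]

omit [Finite M] in
theorem move {x y g : X} (e : g * x * g⁻¹ = y) {m : M} (h : x • m = m) : y • g • m = g • m := by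
  rw [← e, ← mul_smul, inv_mul_cancel_right, mul_smul, h]

theorem fix2 [Finite X] [MdA.{u, 0}] (h : Md X M) {x s : X} (s2 : s * s = 1)
    (e : s * x * s⁻¹ = x⁻¹) {m : M} (m0 : m ≠ 0) (hm : x • m = m) :
    ∃ m : M, m ≠ 0 ∧ x • m = m ∧ s • m = m := by
  let K : AddSubgroup M :=
    { carrier := {m | x • m = m}
      zero_mem' := smul_zero x
      add_mem' := fun {a b} ha hb => by rw [Set.mem_ofPred_eq, smul_add, ha, hb]
      neg_mem' := fun {a} ha => by rw [Set.mem_ofPred_eq, smul_neg, ha] }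
  have h2 : ∀ a ∈ zpowers s, a = 1 ∨ a = s := by
    rintro _ ⟨n, rfl⟩
    rcases Int.even_or_odd' n with ⟨k, rfl | rfl⟩
    · exact .inl (by simp only [zpow_mul, zpow_two, s2, one_zpow])
    · exact .inr (by simp only [zpow_add, zpow_mul, zpow_two, s2, one_zpow, one_mul, zpow_one])
  obtain ⟨a, ha, a0, hs⟩ := MdA.fix2 h (S := zpowers s) (isPGroup_of_sq fun a ha => by
    rcases h2 a ha with rfl | rfl
    exacts [mul_one 1, s2]) (K := K) (fun a ha m hm => by
      rcases h2 a ha with rfl | rfl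
      · rwa [one_smul]
      · exact (inv_smul_eq_iff.1 (move e hm)).symm)
    ((AddSubgroup.ne_bot_iff_exists_ne_zero).2 ⟨⟨m, hm⟩, fun e => m0 (congrArg Subtype.val e)⟩)
  exact ⟨a, a0, ha, hs s (mem_zpowers s)⟩

end

section
variable {M : Type u} [AddCommGroup M] [DistribMulAction A5 M]

theorem duad [Du5.{u}] (h : Md A5 M) {m : M} (h1 : x0 • m = m) (h2 : s0 • m = m) :
    ∃ c : Fin 5 → Fin 5 → M, c 0 1 = m ∧ (∀ i, c i i = 0) ∧ (∀ i j k, c i j + c j k = c i k) ∧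
      (∀ (g : A5) i j, g • c i j = c ((g : S5) i) ((g : S5) j)) ∧ (∀ i j, c i j = c j i) ∧
      (∀ (g : A5) p, g • ∑ q, c p q = ∑ q, c (g.1 p) q) ∧ ∑ q, c 1 q = m + ∑ q, c 0 q := by
  obtain ⟨c, c1, c2, c3, c4⟩ := Du5.out h m fun g hg => by
    have := stab g hg
    simp only [List.mem_cons, List.not_mem_nil, or_false] at this
    rcases this with rfl | rfl | rfl | rfl | rfl | rfl <;> simp only [one_smul, mul_smul, h1, h2]
  have sy : ∀ i j, c i j = c j i := fun i j => by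
    rw [eq_neg_of_add_eq_zero_left ((c3 i j i).trans (c2 i)), neg_eq_of_add_eq_zero_left (h.two _)]
  refine ⟨c, c1, c2, c3, c4, sy, fun g p => ?_, ?_⟩
  · rw [Finset.smul_sum, ← Equiv.sum_comp g.1 (c (g.1 p))]
    exact Finset.sum_congr rfl fun q _ => c4 g p q
  · rw [← Finset.sum_congr rfl fun q _ => c3 1 0 q, Finset.sum_add_distrib, sy 1 0, c1,
      Fin.sum_univ_five (fun _ => m), h.two, zero_add, h.two, zero_add]

end

end MA5H

open MA5H

theorem pf_MA5 [MdA.{u, 0}] [Du5.{u}] : MA5.{u} := by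
  have : Fact (Nat.Prime 3) := ⟨by norm_num⟩
  have o3 : ∀ {X : Type} [Group X] {x : X}, orderOf x = 3 → x ^ 3 = 1 ∧ x ≠ 1 := fun e =>
    ⟨e ▸ pow_orderOf_eq_one _, fun e1 => by rw [e1, orderOf_one] at e; omega⟩
  refine ⟨?_, ?_, ?_⟩
  · rintro M _ _ _ h T x hT hx hn ⟨m, m0, hm⟩
    obtain ⟨p, hp⟩ := four_group hT
    obtain ⟨g, e⟩ := cj3 x (o3 hx).1 (o3 hx).2
    obtain ⟨m, m0, h1, h2⟩ := fix2 h (s := s0) (by decide) (by decide)
      ((smul_ne_zero_iff_ne g).2 m0) (move e hm)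
    obtain ⟨c, c1, c2, c3, c4, sy, c5, c6⟩ := duad h h1 h2
    obtain ⟨t, ht, i, j, hb⟩ := pick p
    have e1 : c i j + t • c i j = ∑ q, c p q := by
      rw [← hb.sum_comp (c p), Fin.sum_univ_five, c4, ← c3 i p j, ← c3 (t.1 i) p (t.1 j), sy i p,
        sy (t.1 i) p]
      simp only [Matrix.cons_val, c2]
      abel
    refine ⟨c i j, t, (hp t).2 ht, ?_, ?_, fun s hs => ?_⟩ <;> rw [e1]
    · intro e0
      have : ∀ r, ∑ q, c r q = 0 := fun r => by
        obtain ⟨k, rfl⟩ := tr1 p r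
        rw [← c5, e0, smul_zero]
      rw [this, this, add_zero] at c6
      exact m0 c6.symm
    · rw [c5, nfix p x fun s hs => ((hp _).1 (mem_normalizer_conj hn ((hp s).2 hs))).2]
    · rw [c5, ((hp s).1 hs).2]
  · intro M _ _ _ h T x hT hx fp t ht t1 m hm s hs
    have fp' : ∀ y : A5, y ^ 3 = 1 → y ≠ 1 → ∀ m : M, y • m = m → m = 0 := fun y y3 y1 m hm => by
      obtain ⟨g, e⟩ := cj3 x (o3 hx).1 (o3 hx).2
      obtain ⟨k, e'⟩ := cj3 y y3 y1
      exact (smul_eq_zero_iff_eq (g⁻¹ * k)).1 (fp _ (move (by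
        rw [show g⁻¹ * k * y * (g⁻¹ * k)⁻¹ = g⁻¹ * (k * y * k⁻¹) * g by group, e', ← e]; group) hm))
    have nm : ∀ y : A5, y ^ 3 = 1 ∧ y ≠ 1 → ∀ m : M, m + y • m + (y * y) • m = 0 :=
      fun y hy m => fp' y hy.1 hy.2 _ (by
        rw [smul_add, smul_add, ← mul_smul, ← mul_smul, ← pow_three, hy.1, one_smul]; abel)
    obtain ⟨g, g3, g1, e⟩ := inv3 t (exp hT t ht) t1
    obtain ⟨m, rfl⟩ := MdA.free h (exp hT t ht) e (fp' _ g3 g1) m hm
    rcases four t (exp hT t ht) t1 s (exp hT s hs) (comm_of_sq (exp hT) s hs t ht) with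
      rfl | rfl | ⟨y, hy, e1, e2, e3⟩
    · exact one_smul _ _
    · exact hm
    · have a1 := nm _ (hy 1 (by simp)) m
      have a2 := nm _ (hy t (by simp)) m
      have a3 := nm _ (hy s (by simp)) m
      have a4 := nm _ (hy (s * t) (by simp)) m
      have a5 := nm _ (hy 1 (by simp)) (m + t • m + s • (m + t • m))
      rw [e1] at a2
      rw [e2] at a3
      rw [e3] at a4
      simp only [mul_one, mul_smul, smul_add] at a1 a2 a3 a4 a5
      have a6 : m + t • m + s • (m + t • m) + (m + m) + (m + m) = 0 := by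
        have := congrArg₂ (· + ·) (congrArg₂ (· + ·) (congrArg₂ (· + ·) a1 a2)
          (congrArg₂ (· + ·) a3 a4)) a5
        simp only [add_zero] at this
        rw [← this, smul_add]
        have t1 := h.two (y • m + y • t • m + y • s • m + y • s • t • m + y • y • m +
          y • y • t • m + y • y • s • m + y • y • s • t • m)
        rw [← add_zero (_ + (m + m)), ← t1]
        abel
      rw [h.two, add_zero, add_zero] at a6
      rw [eq_neg_of_add_eq_zero_right a6, neg_eq_of_add_eq_zero_left (h.two _)]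
  · intro M _ _ _ h x hx m hm
    by_contra m0
    obtain ⟨g, e⟩ := cj3' x (o3 hx).1 (o3 hx).2
    obtain ⟨m, m0, h1, h2⟩ := fix2 h (s := Equiv.swap 2 3) (by decide) (by decide)
      ((smul_ne_zero_iff_ne g).2 m0) (move e hm)
    have k : ∀ m : M, x0.1 • m = m → (Equiv.swap 0 1 : S5) • m = m :=
      h.k _ _ (orderOf_eq_prime (by decide) (by decide)) (by decide)
        ⟨1, orderOf_eq_prime (p := 2) (by decide) (by decide)⟩
    obtain ⟨c, c1, c2, c3, c4, sy, c5, c6⟩ := duad (MdA.sub (alternatingGroup (Fin 5)) h) h1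
      (show (Equiv.swap 0 1 * Equiv.swap 2 3 : S5) • m = m by rw [mul_smul, h2, k m h1])
    have c7 : ∀ i j, (Equiv.swap 0 1 : S5) • c i j =
        c (Equiv.swap 0 1 i) (Equiv.swap 0 1 j) := fun i j => by
      by_cases hij : i = j
      · rw [hij, c2, c2, smul_zero]
      · obtain ⟨g, rfl, rfl⟩ := tr2 i j hij
        have := c4 ⟨Equiv.swap 0 1 * g.1 * (Equiv.swap 0 1)⁻¹,
          alternatingGroup.normal.conj_mem _ g.2 _⟩ 0 1
        rw [← c4, c1, sy]
        rw [c1] at this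
        refine Eq.trans ?_ (this.trans (by simp))
        change (Equiv.swap 0 1 : S5) • g.1 • m =
          (Equiv.swap 0 1 * g.1 * (Equiv.swap 0 1)⁻¹ : S5) • m
        rw [mul_smul, mul_smul, Equiv.swap_inv, k m h1]
    have h3 := k _ (c5 x0 0)
    rw [Finset.smul_sum, Finset.sum_congr rfl fun q _ => c7 0 q,
      Equiv.sum_comp (Equiv.swap 0 1) (c (Equiv.swap 0 1 0)), Equiv.swap_apply_left, c6,
      add_eq_right] at h3
    exact m0 h3

end Cfsg.Lib.P8
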