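import Cfsg.Agent.P8.Stm
import Cfsg.Agent.Gold.Cm

/-!
# Groups with element orders at most 8: no rank-one elements over the natural `L₃(2)`-module
-/

set_option autoImplicit false

namespace Cfsg.Lib.P8

open Subgroup Cfsg.Lib.Trans Cfsg.Lib.Gold
open scoped commutatorElement

universe u v

namespace R7H

variable {G : Type u} [Group G] [Finite G] {H Q W : Subgroup G}

/-- The elements of `Q` that are central involutions modulo `W`. -/
def Up (Q W : Subgroup G) (h : Q ≤ Ns W) : Subgroup G where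
  carrier := {b | b ∈ Q ∧ (∀ q ∈ Q, ⁅b, q⁆ ∈ W) ∧ b * b ∈ W}
  one_mem' := ⟨one_mem _, fun q _ => by simp, by simp⟩
  mul_mem' {a b} ha hb := ⟨mul_mem ha.1 hb.1, fun q hq => by
    rw [show ⁅a * b, q⁆ = a * ⁅b, q⁆ * a⁻¹ * ⁅a, q⁆ by simp only [commutatorElement_def]; group]
    exact mul_mem (mem_normalizer_conj (h ha.1) (hb.2.1 q hq)) (ha.2.1 q hq), by
    rw [show a * b * (a * b) = ⁅a, b⁆ * (b * (a * a) * b⁻¹) * (b * b) by
      simp only [commutatorElement_def]; group]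
    exact mul_mem (mul_mem (ha.2.1 b hb.1) (mem_normalizer_conj (h hb.1) ha.2.2)) hb.2.2⟩
  inv_mem' {a} ha := ⟨inv_mem ha.1, fun q hq => by
    rw [show ⁅a⁻¹, q⁆ = a⁻¹ * ⁅a, q⁆⁻¹ * a by simp only [commutatorElement_def]; group]
    exact mem_normalizer_conj' (h ha.1) (inv_mem (ha.2.1 q hq)), by
    rw [← mul_inv_rev]; exact inv_mem ha.2.2⟩

theorem secOK (h1 : Q ≤ H) (h2 : H ≤ Ns Q) (h3 : H ≤ Ns W) (h4 : W ≤ Q) :
    SecOK H Q W (Up Q W (h1.trans h3)) where
  le w hw := ⟨h4 hw, fun q hq => by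
    rw [commutatorElement_def, mul_assoc, mul_assoc, ← mul_assoc q]
    exact mul_mem hw (mem_normalizer_conj (h3 (h1 hq)) (inv_mem hw)), mul_mem hw hw⟩
  leQ _ h := h.1
  n1 := h3
  n2 h hh := mem_normalizer_of_cj_le (cj_le_iff.2 fun b hb =>
    ⟨mem_normalizer_conj (h2 hh) hb.1, fun q hq => by
      rw [show ⁅h * b * h⁻¹, q⁆ = h * ⁅b, h⁻¹ * q * h⁆ * h⁻¹ by
        simp only [commutatorElement_def]; group]
      exact mem_normalizer_conj (h3 hh) (hb.2.1 _ (mem_normalizer_conj' (h2 hh) hq)), by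
      rw [conj_mul]; exact mem_normalizer_conj (h3 hh) hb.2.2⟩)
  cen := commutator_le.2 fun b hb q hq => hb.2.1 q hq
  sq _ h := h.2.2

omit [Finite G] in
theorem zp {w y : G} (hw : w * w = 1) (hy : y ∈ zpowers w) : y = 1 ∨ y = w := by
  obtain ⟨n, rfl⟩ := hy
  rcases Int.even_or_odd' n with ⟨k, rfl | rfl⟩
  · left
    change w ^ (2 * k) = 1
    rw [zpow_mul, zpow_two, hw, one_zpow]
  · right
    change w ^ (2 * k + 1) = w
    rw [zpow_add, zpow_mul, zpow_two, hw, one_zpow, zpow_one, one_mul]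

theorem idx {R T C : Subgroup G} (h : IsSylowIn 2 T C) (h1 : R ≤ T) (h2 : R.relIndex C = 6) :
    R.relIndex T = 2 := by
  have e := relIndex_mul_relIndex R T C h1 h.le
  obtain ⟨n, hn⟩ := h.isPGroup.index (R.subgroupOf T)
  have hn : R.relIndex T = 2 ^ n := hn
  have h3 := h.not_dvd
  rw [h2, hn] at e
  rw [hn]
  rcases n with _ | _ | n
  · omega
  · rfl
  · have : 4 * (2 ^ n * T.relIndex C) = 6 := by rw [← e]; ring
    omega

theorem two (v : V3) : v + v = 0 := by revert v; decide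

end R7H

open R7H in
theorem pf_R7 [Bas1.{u}] [Bas2.{u}] [BasJ.{u}] [PjB.{u, 0}] [Brg.{u, 0}] [MdA.{u, 0}] [R7m] :
    R7.{u} := ⟨by
  intro G _ _ hP H Q W π c hT hW hc w R x hw hw1 hS U hWU hUQ hU hUn hUR
  have : Fact (Nat.Prime 2) := ⟨Nat.prime_two⟩
  by_contra hn
  have hHQ : H ≤ Ns Q := (PjB.one hT.toPj).2.2.2.1
  obtain ⟨-, -, hWQ, hNW, hE, hQW, hOm⟩ := BasJ.leT Q
  rw [← hW] at hWQ hNW hE hQW hOm
  have hHW : H ≤ Ns W := hHQ.trans hNW
  have hU2 : ∀ a ∈ U, a * a = 1 := fun a ha => by rw [← pow_two]; exact hU.2 a ha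
  have hw2 := hU2 w (hWU hw)
  obtain ⟨hR1, hR2, -⟩ := BasJ.o2 (H ⊓ C1 w)
  rw [← hS.eq] at hR1 hR2
  obtain ⟨T, hT', hRT⟩ := exists_isSylowIn_ge hR2 hR1
  have hTH : T ≤ H := hT'.le.trans inf_le_left
  obtain ⟨a, ha, haW, haT⟩ := BasJ.zfix hT'.isPGroup (hT.two.to_le hUQ) (lt_of_le_of_ne hWU fun e => hn e.ge)
    (hTH.trans hHW) (hT'.le.trans hUn) (hUQ.trans (hT.le.trans hHW))
  have hz : ∀ b ∈ U, ∀ q ∈ Q, ⁅b, q⁆ ∈ zpowers w := fun b hb q hq =>
    hUR (commutator_mem_commutator hb (hS.le hq))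
  have hok := secOK hT.le hHQ hHW hWQ
  have haU : a ∈ Up Q W (hT.le.trans hHW) :=
    ⟨hUQ ha, fun q hq => zpowers_le.2 hw (hz a ha q hq), by rw [hU2 a ha]; exact one_mem _⟩
  obtain ⟨M, _, _, _, p, hM, hp⟩ := Brg.sec hP hT.toPj hok
  obtain ⟨S, hS1, hS2⟩ := PjB.im hT.toPj T hTH
  rw [← relIndex_mul_relIndex Q R T hS.le hRT, hS.idx, idx hT' hRT hS.idx6] at hS2
  have c1 : c 1 = 0 := (hc.zero 1 (one_mem _)).2 rfl
  have cw : c w ≠ 0 := fun e => hw1 ((hc.zero w hw).1 e)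
  have fix : ∀ t ∈ H, t * w = w * t → (π t : Matrix (Fin 3) (Fin 3) (ZMod 2)).mulVec (c w) = c w :=
    fun t ht e => by rw [← hc.eqv t ht w hw, e, mul_inv_cancel_right]
  have key : ∀ q ∈ Q, ⁅x * a * x⁻¹, q⁆ = ⁅a, q⁆ := fun q hq => by
    have ad : ∀ b ∈ Up Q W (hT.le.trans hHW), ∀ b' ∈ Up Q W (hT.le.trans hHW),
        ⁅b * b', q⁆ = ⁅b', q⁆ * ⁅b, q⁆ := fun b hb b' hb' => by
      rw [show ⁅b * b', q⁆ = b * ⁅b', q⁆ * b⁻¹ * ⁅b, q⁆ by simp only [commutatorElement_def]; group,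
        ← mem_Cs.1 (hQW hb.1) _ (hb'.2.1 q hq), mul_inv_cancel_right]
    have wd : ∀ b ∈ Up Q W (hT.le.trans hHW), ∀ b' ∈ Up Q W (hT.le.trans hHW), p b = p b' →
        ⁅b, q⁆ = ⁅b', q⁆ := fun b hb b' hb' e => by
      have h1 := mul_mem (inv_mem hb) hb'
      have h2 := hp.add b hb _ h1
      rw [mul_inv_cancel_left, ← e, left_eq_add, hp.zero _ h1] at h2
      have h3 := ad b hb _ h1
      rwa [mul_inv_cancel_left, commutatorElement_eq_one_iff_mul_comm.2 (mem_Cs.1 (hQW hq) _ h2),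
        one_mul, eq_comm] at h3
    choose s hs es using hp.sur
    let ψ : M →+ V3 := AddMonoidHom.mk' (fun m => c ⁅s m, q⁆) fun m m' => by
      rw [← wd _ (mul_mem (hs m') (hs m)) _ (hs _) (by rw [hp.add _ (hs _) _ (hs _), es, es, es, add_comm]),
        ad _ (hs _) _ (hs _), hc.add _ ((hs _).2.1 q hq) _ ((hs _).2.1 q hq)]
    have hψ : ∀ h ∈ H, ψ (π h • p a) = c ⁅h * a * h⁻¹, q⁆ := fun h hh => by
      rw [← hp.eqv h hh a haU]
      exact congrArg c (wd _ (hs _) _ (mem_normalizer_conj (hok.n2 hh) haU) (es _))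
    classical
    let e : L32 → ZMod 2 := fun g => if ψ (g • p a) = 0 then 0 else 1
    have he : ∀ g : L32, ψ (g • p a) = e g • (g : Matrix (Fin 3) (Fin 3) (ZMod 2)).mulVec (c w) := by
      intro g
      by_cases h0 : ψ (g • p a) = 0
      · simp [e, h0]
      obtain ⟨h, hh, rfl⟩ := hT.sur g
      simp only [e, if_neg h0, one_smul]
      rw [hψ h hh, show ⁅h * a * h⁻¹, q⁆ = h * ⁅a, h⁻¹ * q * h⁆ * h⁻¹ by
        simp only [commutatorElement_def]; group] at h0 ⊢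
      rcases zp hw2 (hz a ha _ (mem_normalizer_conj' (hHQ hh) hq)) with e1 | e1 <;> rw [e1] at h0 ⊢
      · exact absurd (by simpa using c1) h0
      · exact hc.eqv h hh w hw
    have e1 := R7m.out e (c w) S cw hS2 (fun s hs => by
        obtain ⟨t, ht, rfl⟩ := (hS1 s).1 hs
        exact fix t (hTH ht) (mem_C1.1 (hT'.le ht).2)) (fun g s hs => by
        obtain ⟨t, ht, rfl⟩ := (hS1 s).1 hs
        have h1 := inv_mem (haT t ht)
        have : π t • p a = p a := by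
          rw [← hp.eqv t (hTH ht) a haU, show t * a * t⁻¹ = ⁅a, t⁆⁻¹ * a by
            simp only [commutatorElement_def]; group, hp.add _ (hok.le h1) _ haU,
            (hp.zero _ (hok.le h1)).2 h1, zero_add]
        simp only [e, mul_smul, this]) (fun g σ hσ => by
        have := congrArg ψ (MdA.norm hM (.inr hσ) (g • p a))
        rw [map_sum, map_zero, hσ] at this
        simpa only [← mul_smul, he] using this) (π x) (fix x hS.xH hS.xw)
    have e2 := hψ x hS.xH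
    have e3 := hψ 1 (one_mem _)
    rw [he, fix x hS.xH hS.xw, e1] at e2
    rw [he, fix 1 (one_mem _) (by simp), (PjB.one hT.toPj).1, e2, one_mul, inv_one, mul_one] at e3
    have m1 := (mem_normalizer_conj (hok.n2 hS.xH) haU).2.1 q hq
    have m2 := haU.2.1 q hq
    have e4 := hc.add _ m1 _ m2
    rw [e3, two, hc.zero _ (mul_mem m1 m2)] at e4
    exact mul_right_cancel (e4.trans (hU2 _ (hWU m2)).symm)
  have hx : x ∈ Ns U := hUn ⟨hS.xH, mem_C1.2 hS.xw⟩
  have hxa := mem_normalizer_conj hx ha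
  have hax : ⁅a, x⁆ = (x * a * x⁻¹)⁻¹ * a := by
    rw [← comm_of_sq hU2 _ ha _ (inv_mem hxa), commutatorElement_def]; group
  obtain ⟨b, hb, hbx, hab⟩ := Bas2.lift (hT.two.to_le hUQ) hWU (hUQ.trans (hT.le.trans hHW))
    (hHW hS.xH) hx (by rw [hS.ox]; decide) ha (by
      rw [hax]
      have h1 := mul_mem (inv_mem hxa) ha
      refine hOm _ (hUQ h1) (fun q hq => mem_C1.2 ?_) (hU2 _ h1)
      have := key q hq
      generalize x * a * x⁻¹ = y at this
      calc q * (y⁻¹ * a) = y⁻¹ * (⁅y, q⁆ * q) * a := by simp only [commutatorElement_def]; group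
        _ = _ := by rw [this]; simp only [commutatorElement_def]; group)
  have h1 := Bas2.rk3 hP hT.two (hHQ hS.xH) hS.ox (hUQ hb) hbx ((Bas1.cidx (I := zpowers w)
    fun d hd => by rw [← commutatorElement_inv]; exact inv_mem (hz b hb d hd)).trans (by
      rw [Nat.card_zpowers]; exact orderOf_le_of_pow_eq_one two_pos (by rw [pow_two, hw2])))
  exact haW (by simpa using mul_mem (hOm b (hUQ hb) h1 (hU2 b hb)) (inv_mem hab))⟩

end Cfsg.Lib.P8
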