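import Cfsg.Agent.P8.TyN
import Cfsg.Agent.S3050

/-!
# Groups with element orders at most 8: type `S₅`
-/

set_option autoImplicit false

namespace Cfsg.Lib.P8

open Subgroup Cfsg.Lib.Trans Cfsg.Lib.Gold
open scoped commutatorElement

universe u v

namespace S5aH

theorem f1 : ∀ g : S5, g * g = 1 → g ≠ 1 → ∃ h : S5, (g * (h * g * h⁻¹)) ^ 3 = 1 ∧ g * (h * g * h⁻¹) ≠ 1 := by
  decide +kernel

set_option synthInstance.maxSize 1000 in
theorem f2 : ∀ a : S5, a * a = 1 → a ≠ 1 → Equiv.Perm.sign a = 1 → ∀ b : S5, b * b = 1 → b ≠ 1 →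
    a * b = b * a → a ≠ b → Equiv.Perm.sign b = 1 →
      ∃ x : S5, x * a * x⁻¹ = b ∧ x * b * x⁻¹ = a * b ∧ x ^ 3 = 1 := by
  decide +kernel

set_option synthInstance.maxSize 1000 in
theorem f3 : ∀ a : S5, a * a = 1 → Equiv.Perm.sign a = -1 → ∀ b : S5, b * b = 1 → a * b = b * a →
    a ≠ b → Equiv.Perm.sign b = -1 →
      ∃ y : S5, y * a = a * y ∧ (b * (y * b * y⁻¹)) ^ 3 = 1 ∧ b * (y * b * y⁻¹) ≠ 1 := by
  decide +kernel

theorem klein {X : Type*} [Group X] {B : Subgroup X} (h : Nat.card B = 4) (h2 : ∀ b ∈ B, b * b = 1)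
    {a : X} (ha : a ∈ B) (h1 : a ≠ 1) : ∃ b ∈ B, b ≠ 1 ∧ a ≠ b ∧ ∀ y ∈ B, y = 1 ∨ y = a ∨ y = b ∨ y = a * b := by
  have : Finite B := Nat.finite_of_card_ne_zero (by omega)
  have : Nontrivial B := ⟨⟨a, ha⟩, 1, fun e => h1 (congrArg Subtype.val e)⟩
  have : IsKleinFour B := ⟨h, (Monoid.exponent_eq_prime_iff Nat.prime_two).2 fun g hg =>
    haveI : Fact (Nat.Prime 2) := ⟨Nat.prime_two⟩
    orderOf_eq_prime (Subtype.ext (by rw [pow_two]; exact h2 g g.2)) hg⟩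
  obtain ⟨b, b1, b2⟩ := ENat.exists_ne_ne_of_three_le (α := B) (by
    rw [ENat.card_eq_coe_natCard, h]; norm_num) 1 ⟨a, ha⟩
  refine ⟨b, b.2, fun e => b1 (Subtype.ext e), fun e => b2 (Subtype.ext e.symm), fun y hy => ?_⟩
  by_contra! k
  exact k.2.2.2 (congrArg Subtype.val (IsKleinFour.eq_mul_of_ne_all (x := (⟨a, ha⟩ : B)) (y := b)
    (z := ⟨y, hy⟩) (fun e => h1 (congrArg Subtype.val e)) b1 b2.symm (fun e => k.1 (congrArg Subtype.val e))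
    (fun e => k.2.1 (congrArg Subtype.val e)) fun e => k.2.2.1 (congrArg Subtype.val e)))

variable {G : Type u} [Group G] [Finite G] {H Q T : Subgroup G} {π : G → S5}

theorem ea [PjB.{u, 0}] [E73.{u}] (hT : Ty H Q π) (hF : Fp3 H Q) : ∀ a ∈ Q, a * a = 1 := by
  have : Fact (Nat.Prime 3) := ⟨Nat.prime_three⟩
  obtain ⟨A, hA, hQ, -, -, π', h, -⟩ := PjB.pre hT.toPj (alternatingGroup (Fin 5))
  obtain ⟨f, -, hf, hk⟩ := PjB.hom h
  obtain ⟨r, hr⟩ := exists_prime_orderOf_dvd_card' (G := A5) 3 (by rw [TyNH.card_A5]; decide)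
  obtain ⟨a, ha, rfl⟩ := h.sur r
  obtain ⟨x, hx, -, ho⟩ := PjB.odd h a ha (by rw [hr]; decide)
  have hxA : x ∈ A := zpowers_le.2 ha hx
  obtain ⟨e⟩ := E73.sl24.{u}
  have := Fintype.ofFinite (GaloisField 2 2)
  have h1 := (Cfsg.Agent.S3050.result f.ker (hk ▸ isPGroup_subgroupOf hT.two A) 2 le_rfl (GaloisField 2 2)
    (by rw [← Nat.card_eq_fintype_card, GaloisField.card 2 2 two_ne_zero])
    ((QuotientGroup.quotientKerEquivOfSurjective f hf).trans e) ⟨x, hxA⟩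
    (by rw [← orderOf_coe]; exact ho.trans hr) fun q hq e => Subtype.ext (mem_bot.1
      ((hF x ((hA x).1 hxA).1 (ho.trans hr)).le ⟨mem_subgroupOf.1 (hk ▸ hq),
        mem_C1.2 (mul_inv_eq_iff_eq_mul.1 (congrArg Subtype.val e)).symm⟩))).1
  intro a ha
  have := congrArg Subtype.val (h1.2 ⟨a, hQ ha⟩ (hk ▸ mem_subgroupOf.2 ha))
  rwa [pow_two] at this

theorem bot [PjB.{u, 0}] (hT : Ty H Q π) (hF : Fp3 H Q) {j h : G} (hj : j ∈ H) (hh : h ∈ H)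
    (e : (π j * (π h * π j * (π h)⁻¹)) ^ 3 = 1 ∧ π j * (π h * π j * (π h)⁻¹) ≠ 1) :
    Q ⊓ C1 j ⊓ C1 (h * j * h⁻¹) = ⊥ := by
  have : Fact (Nat.Prime 3) := ⟨Nat.prime_three⟩
  have hj' : h * j * h⁻¹ ∈ H := mul_mem (mul_mem hh hj) (inv_mem hh)
  have ho := orderOf_eq_prime e.1 e.2
  rw [← TyNH.pj hT.toPj hh hj, ← hT.mul _ hj _ hj'] at ho
  obtain ⟨b, hb, -, h3⟩ := PjB.odd hT.toPj _ (mul_mem hj hj') (by rw [ho]; decide)
  refine eq_bot_iff.2 fun c hc => (hF b (zpowers_le.2 (mul_mem hj hj') hb) (h3.trans ho)).le ⟨hc.1.1, ?_⟩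
  have : j * (h * j * h⁻¹) ∈ C1 c := mul_mem (mem_C1.2 (mem_C1.1 hc.1.2).symm) (mem_C1.2 (mem_C1.1 hc.2).symm)
  exact mem_C1.2 (mem_C1.1 (zpowers_le.2 this hb)).symm

theorem main [Bas1.{u}] [PjB.{u, 0}] [E73.{u}] (hP : Le8 G) (hT : Ty H Q π) (hF : Fp3 H Q) :
    EA Q ∧ (Nat.card Q = 16 ∨ 256 ≤ Nat.card Q) ∧
      (∀ j ∈ H, j ∉ Q → j * j ∈ Q → Nat.card ↥(Q ⊓ C1 j) ^ 2 = Nat.card Q) ∧
      (∀ T : Subgroup G, IsSylowIn 2 T H → Q ≤ T ∧ Q.relIndex T = 8 ∧ ∃ t ∈ T, t * t ∉ Q) ∧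
      (∀ A : Subgroup G, A ≤ H → EA A → Q.relIndex A ≤ 4) := by
  have : Fact (Nat.Prime 2) := ⟨Nat.prime_two⟩
  have hsq := ea hT hF
  have hE : EA Q := ⟨isMulCommutative_of_sq hsq, fun a ha => by rw [pow_two]; exact hsq a ha⟩
  have hn : H ≤ Ns Q := (PjB.one hT.toPj).2.2.2.1
  have h16 : ¬ 16 ∣ Nat.card S5 := by rw [TyNH.card_S5]; decide
  refine ⟨hE, ?_, fun j hj h0 h1 => ?_, fun T hS => ?_,
    fun A hA hE => TyNH.le4 hT.toPj h16 (.inr TyNH.four_S5) hA hE⟩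
  · obtain ⟨σ, hσ, h5⟩ := TyNH.ex hP hT.toPj (.inl rfl) (by rw [TyNH.card_S5]; decide)
    have h1 := Bas1.md hP (.inl h5) hT.two (hn hσ)
    obtain ⟨k, hk⟩ := IsPGroup.iff_card.1 hT.two
    have h2 : Nat.card Q ≠ 1 := fun e => hT.ne (card_eq_one.1 e)
    rw [hk, h5] at h1
    rw [hk] at h2 ⊢
    by_cases h3 : 8 ≤ k
    · exact .inr (Nat.pow_le_pow_right two_pos h3)
    · push Not at h3
      interval_cases k <;> omega
  · obtain ⟨h, e⟩ := f1 (π j) (by rw [← hT.mul j hj j hj, hT.ker _ (mul_mem hj hj)]; exact h1)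
      fun e => h0 ((hT.ker j hj).1 e)
    obtain ⟨h, hh, rfl⟩ := hT.sur h
    have h2 := Bas1.fl (bot hT hF hj hh e)
    have h3 := relIndex_cj h (C1 j) Q
    rw [cj_C1, mem_Ns_iff.1 (hn hh)] at h3
    have h4 := (Bas1.half hE (hn hj) (le_Cs_of_sq hsq le_rfl h1)).1
    have h5 := card_mul_relIndex (inf_le_left : Q ⊓ C1 j ≤ Q)
    rw [inf_relIndex_left] at h5
    rw [h3, ← h5] at h2
    have h6 : 0 < (C1 j).relIndex Q := Nat.pos_of_ne_zero fun e => by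
      rw [e, mul_zero] at h5; exact Nat.card_pos.ne h5
    rw [← h5, le_antisymm h4 (Nat.le_of_mul_le_mul_right h2 h6), pow_two]
  · obtain ⟨hQT, S, hS'⟩ := PjB.syl hT.toPj T hS
    obtain ⟨s, hs, -, a2⟩ := TyNH.four (isSylowIn_top S) TyNH.four_S5
    obtain ⟨t, ht, rfl⟩ := (hS' s).1 hs
    refine ⟨hQT, ?_, t, ht, fun e => a2 (by
      rw [← hT.mul t (hS.le ht) t (hS.le ht), hT.ker _ (hT.le e)]; exact e)⟩
    have h1 := TyNH.le8 hT.toPj h16 hS.le hS.isPGroup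
    have h2 := relIndex_mul_relIndex Q T H hQT hS.le
    have h3 := hS.not_dvd
    rw [(PjB.card hT.toPj).2.1, TyNH.card_S5] at h2
    generalize Q.relIndex T = a at h1 h2
    interval_cases a <;> omega

end S5aH

open S5aH in
theorem pf_S5a [Bas1.{u}] [Bas2.{u}] [PjB.{u, 0}] [E73.{u}] : S5a.{u} := ⟨fun hP _ _ _ => main hP, by
  intro G _ _ hP H Q T J π hT hF hS hJ hE h4 hC
  have : Fact (Nat.Prime 5) := ⟨by decide⟩
  have : Fact (Nat.Prime 3) := ⟨Nat.prime_three⟩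
  obtain ⟨-, hQ, hj, hS', -⟩ := main hP hT hF
  obtain ⟨hQT, h8, -⟩ := hS' T hS
  have hsq := ea hT hF
  obtain ⟨p1, -, -, hn, pe⟩ := PjB.one hT.toPj
  have hJH := hJ.trans hS.le
  have hJ2 : ∀ j ∈ J, j * j = 1 := fun a ha => by rw [← pow_two]; exact hE.2 a ha
  obtain ⟨B, hB, cB⟩ := PjB.im hT.toPj J hJH
  obtain ⟨A, hA, hQA, cA, h2, -⟩ := PjB.pre hT.toPj B
  rw [h4] at cB
  rw [cB] at cA
  have hB2 : ∀ b ∈ B, b * b = 1 := fun b hb => by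
    obtain ⟨a, ha, rfl⟩ := (hB b).1 hb
    rw [← hT.mul a (hJH ha) a (hJH ha), hJ2 a ha, p1]
  have eA : J ⊔ Q = A := le_antisymm (sup_le (fun j hj => (hA j).2 ⟨hJH hj, (hB _).2 ⟨j, hj, rfl⟩⟩) hQA)
    fun a ha => by
      obtain ⟨h1, h2⟩ := (hA a).1 ha
      obtain ⟨j, hj, e⟩ := (hB _).1 h2
      rw [← mul_inv_cancel_left j a]
      exact mul_mem (mem_sup_left hj) (mem_sup_right ((pe j (hJH hj) a h1).1 e))
  have hAT : A ≤ T := eA ▸ sup_le hJ hQT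
  replace h2 := h2 (isPGroup_of_sq hB2)
  rw [eA]
  refine ⟨?_, fun h5 => ?_, ?_⟩
  · have e := relIndex_mul_relIndex Q A T hQA hAT
    rw [cA, h8] at e
    have := normal_of_index_eq_two (H := A.subgroupOf T) (show A.relIndex T = 2 by omega)
    exact (normal_subgroupOf_iff_le_normalizer hAT).1 this
  · obtain ⟨σ, hσ⟩ := exists_prime_orderOf_dvd_card' 5 h5
    rw [← orderOf_coe] at hσ
    have e1 := Bas1.md hP (.inl hσ) h2 σ.2.2
    have e2 := Bas1.md hP (.inl hσ) hT.two (hn σ.2.1)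
    have e3 := card_mul_relIndex hQA
    rw [hσ] at e1 e2
    rw [cA] at e3
    omega
  have ev : ∀ b ∈ B, Equiv.Perm.sign b = 1 := by
    by_contra! k
    obtain ⟨s, hs, h1⟩ := k
    replace h1 := (Int.units_eq_one_or _).resolve_left h1
    obtain ⟨b, hb, b1, b2, -⟩ := klein cB hB2 hs (by rintro rfl; simp at h1)
    obtain ⟨s', hs', a1, a2⟩ : ∃ s' ∈ B, s ≠ s' ∧ Equiv.Perm.sign s' = -1 := by
      rcases Int.units_eq_one_or (Equiv.Perm.sign b) with e | e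
      · exact ⟨s * b, mul_mem hs hb, fun e => b1 (left_eq_mul.1 e), by rw [map_mul, h1, e, mul_one]⟩
      · exact ⟨b, hb, b2, e⟩
    obtain ⟨y, e1, e2⟩ := f3 s (hB2 s hs) h1 s' (hB2 s' hs') (comm_of_sq hB2 s hs s' hs') a1 a2
    obtain ⟨j, hj1, rfl⟩ := (hB _).1 hs
    obtain ⟨j', hj2, rfl⟩ := (hB _).1 hs'
    obtain ⟨x, hx, rfl⟩ := hT.sur y
    have hjQ : j ∉ Q := fun e => by
      rw [(hT.ker j (hJH hj1)).2 e] at h1; simp at h1
    have e3 := hj j (hJH hj1) hjQ (by rw [hJ2 j hj1]; exact one_mem _)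
    have hq : j⁻¹ * (x * j * x⁻¹) ∈ Q := (pe j (hJH hj1) _ (mul_mem (mul_mem hx (hJH hj1)) (inv_mem hx))).1
      (by rw [TyNH.pj hT.toPj hx (hJH hj1), e1, mul_inv_cancel_right])
    have e4 : Q ⊓ C1 j = ⊥ := eq_bot_iff.2 fun c hc => (bot hT hF (hJH hj2) hx e2).le
      ⟨⟨hc.1, Cs_le_C1 hj2 (hC j hj1 hjQ hc)⟩, by
        rw [← cj_C1]
        refine mem_cj.2 (Cs_le_C1 hj2 (hC j hj1 hjQ ⟨mem_normalizer_conj' (hn hx) hc.1, ?_⟩))
        refine mem_cj.1 ?_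
        rw [cj_C1, ← mul_inv_cancel_left j (x * j * x⁻¹)]
        exact mem_C1.2 (mem_C1.1 (mul_mem (mem_C1.2 (mem_C1.1 hc.2).symm)
          (mem_C1.2 (comm_of_sq hsq _ hq _ hc.1)))).symm⟩
    rw [e4, card_bot] at e3
    omega
  obtain ⟨a, ha, a1⟩ : ∃ a ∈ B, a ≠ 1 := by
    by_contra! k
    rw [(eq_bot_iff_forall B).2 k, card_bot] at cB
    omega
  obtain ⟨b, hb, b1, ab, hall⟩ := klein cB hB2 ha a1
  have hab := comm_of_sq hB2 a ha b hb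
  obtain ⟨y, e1, e2, e3⟩ := f2 a (hB2 a ha) a1 (ev a ha) b (hB2 b hb) b1 hab ab (ev b hb)
  have e4 : y * (a * b) * y⁻¹ = a := by
    rw [← conj_mul, e1, e2, hab, ← mul_assoc, hB2 b hb, one_mul]
  have ho : orderOf y = 3 := orderOf_eq_prime e3 (by rintro rfl; exact ab (by simpa using e1))
  obtain ⟨x', hx', rfl⟩ := hT.sur y
  obtain ⟨x, hx, e5, h3⟩ := PjB.odd hT.toPj x' hx' (by rw [ho]; decide)
  replace hx := zpowers_le.2 hx' hx
  rw [← e5] at e1 e2 e4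
  have hN : x ∈ Ns A := mem_normalizer_of_cj_le (cj_le_iff.2 fun c hc => by
    obtain ⟨c1, c2⟩ := (hA c).1 hc
    refine (hA _).2 ⟨mul_mem (mul_mem hx c1) (inv_mem hx), ?_⟩
    rw [TyNH.pj hT.toPj hx c1]
    rcases hall _ c2 with e | e | e | e <;> rw [e]
    · simp
    · exact e1 ▸ hb
    · exact e2 ▸ mul_mem ha hb
    · exact e4.symm ▸ ha)
  refine ⟨x, hx, h3.trans ho, hN, (Bas2.cop h2 hN (by rw [h3, ho]; decide)).1.trans (sup_le le_rfl ?_)⟩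
  refine le_trans (fun c hc => ?_) ((hF x hx (h3.trans ho)).le.trans bot_le)
  obtain ⟨c1, c2⟩ := (hA c).1 hc.1
  refine ⟨(hT.ker c c1).1 ?_, hc.2⟩
  have e6 := TyNH.pj hT.toPj hx c1
  rw [← mem_C1.1 hc.2, mul_inv_cancel_right] at e6
  rcases hall _ c2 with e | e | e | e <;> rw [e] at e6
  · exact e
  · exact absurd (e6.trans e1) ab
  · exact absurd (right_eq_mul.1 (e6.trans e2)) a1
  · exact absurd (mul_eq_left.1 (e6.trans e4)) b1⟩

end Cfsg.Lib.P8
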