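import Cfsg.Agent.P8.Stm
import Cfsg.Agent.Gold.Cm
import Cfsg.Agent.CIT.Basic
import Cfsg.Agent.Solv.Conj

/-!
# Groups with element orders at most 8: type `S₅` with large `O₂`
-/

set_option autoImplicit false

namespace Cfsg.Lib.P8

open Subgroup Cfsg.Lib.Trans Cfsg.Lib.Gold
open scoped commutatorElement

universe u v

namespace S5cH

variable {G : Type u} [Group G] [Finite G] {H Q T : Subgroup G} {π : G → S5}

omit [Finite G] in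
theorem sq {A : Subgroup G} (h : EA A) : ∀ a ∈ A, a * a = 1 := fun a ha => by
  rw [← pow_two]; exact h.2 a ha

omit [Finite G] in
theorem ea {A : Subgroup G} (h : ∀ a ∈ A, a * a = 1) : EA A :=
  ⟨isMulCommutative_of_sq h, fun a ha => by rw [pow_two]; exact h a ha⟩

omit [Finite G] in
theorem ea_cj {A : Subgroup G} (h : EA A) (g : G) : EA (cj g A) := ea fun a ha => by
  have := sq h _ (mem_cj.1 ha)
  calc a * a = g * (g⁻¹ * a * g * (g⁻¹ * a * g)) * g⁻¹ := by group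
    _ = 1 := by rw [this]; group

omit [Finite G] in
theorem card_inf (A B : Subgroup G) : Nat.card ↥(A ⊓ B) * B.relIndex A = Nat.card A := by
  rw [← inf_relIndex_left]
  exact card_mul_relIndex inf_le_left

/-- The stability group of `D ≥ I ≥ 1`. -/
def Sb (D I : Subgroup G) : Subgroup G where
  carrier := {g | g ∈ Cs I ∧ ∀ d ∈ D, ⁅d, g⁆ ∈ I}
  one_mem' := ⟨one_mem _, fun d _ => by simp⟩
  mul_mem' {a b} ha hb := ⟨mul_mem ha.1 hb.1, fun d hd => by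
    rw [show ⁅d, a * b⁆ = ⁅d, a⁆ * (a * ⁅d, b⁆ * a⁻¹) by simp only [commutatorElement_def]; group]
    exact mul_mem (ha.2 d hd) (mem_normalizer_conj (Cs_le_Ns ha.1) (hb.2 d hd))⟩
  inv_mem' {a} ha := ⟨inv_mem ha.1, fun d hd => by
    rw [show ⁅d, a⁻¹⁆ = a⁻¹ * ⁅d, a⁆⁻¹ * a by simp only [commutatorElement_def]; group]
    exact mem_normalizer_conj' (Cs_le_Ns ha.1) (inv_mem (ha.2 d hd))⟩

theorem two_of_Sb [Bas2.{u}] [BasJ.{u}] {N X I : Subgroup G} (hN : Ch N) (hX : X ≤ N)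
    (h : X ≤ Sb (O2 N) I) : IsPGroup 2 X := by
  by_contra hn
  obtain ⟨g, hg, ho, h1⟩ := CIT.exists_odd_of_not_isPGroup hn
  obtain ⟨-, h2, h3, -⟩ := BasJ.o2 N
  have h4 := (Bas2.cop h2 (h3 (le_normalizer (hX hg))) ho).2.1
  have h5 : ⁅O2 N, zpowers g⁆ ≤ I :=
    commutator_le.2 fun d hd a ha => (h (zpowers_le.2 hg ha)).2 d hd
  have h6 : ⁅⁅O2 N, zpowers g⁆, zpowers g⁆ = ⊥ :=
    commutator_eq_bot_iff_le_centralizer.2 (h5.trans (le_Cs_comm.1 fun a ha => (h (zpowers_le.2 hg ha)).1))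
  rw [h6] at h4
  have h7 := le_Cs_comm.1 (commutator_eq_bot_iff_le_centralizer.1 h4.symm) (mem_zpowers g)
  exact h1 (eq_one_of_mem_of_odd h2 (by rwa [Nat.card_zpowers]) (hN ⟨hX hg, h7⟩) (mem_zpowers g))

theorem uniq [S5a.{u}] (hP : Le8 G) (hT : Ty H Q π) (hF : Fp3 H Q) (hQ : 256 ≤ Nat.card Q)
    {A : Subgroup G} (hA : A ≤ H) (hE : EA A) (hc : Nat.card A = Nat.card Q) : A = Q := by
  obtain ⟨-, -, h1, -, h2⟩ := S5a.ea hP hT hF
  by_cases h : A ≤ Q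
  · exact eq_of_le_of_card_ge h hc.ge
  obtain ⟨j, hj, hn⟩ := SetLike.not_le_iff_exists.1 h
  have h3 := h1 j (hA hj) hn (by rw [sq hE j hj]; exact one_mem _)
  have h4 := card_inf A Q
  have h5 : Nat.card ↥(A ⊓ Q) ≤ Nat.card ↥(Q ⊓ C1 j) := Trans.card_le_of_le
    (le_inf inf_le_right (inf_le_left.trans ((le_Cs_of_sq (sq hE) le_rfl).trans (Cs_le_C1 hj))))
  have h6 := h2 A hA hE
  nlinarith [Nat.mul_le_mul h5 h6]

theorem le_of_O2 [Bas2.{u}] [BasJ.{u}] [S5a.{u}] (hP : Le8 G) (hM : Mx H Q) (hT : Ty H Q π)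
    (hF : Fp3 H Q) (hQ : 256 ≤ Nat.card Q) (hn : H ≤ Ns Q) (h1 : T ≤ H) (h2 : IsSylowIn 2 T ⊤)
    {N : Subgroup G} (hN : T ≤ N) (h : Q ≤ O2 N) : N ≤ H := fun n hn' => by
  obtain ⟨-, -, h3, -, h4⟩ := BasJ.o2 N
  rw [← Bas2.nor hM.mx hT.two hM.ne hn]
  refine mem_Ns_iff.2 (uniq hP hT hF hQ ?_ (ea_cj (S5a.ea hP hT hF).1 n) (card_cj n Q))
  exact ((cj_mono n h).trans (mem_Ns_iff.1 (h3 (le_normalizer hn'))).le).trans
    ((h4 T (h2.mono hN le_top)).trans h1)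

theorem arith {q a r s : ℕ} (h : q ^ 2 = a * r * s) (h1 : 256 ≤ q ^ 2) (h2 : a ≤ q) (h3 : r ≤ 4)
    (h4 : s ≤ 4) : r = 4 ∧ q ≤ a ∧ 2 ≤ a := by
  have h5 : 16 ≤ q := by nlinarith
  have h6 : q * q ≤ q * (r * 4) := by nlinarith [Nat.mul_le_mul (Nat.mul_le_mul h2 (le_refl r)) h4]
  have h7 := Nat.le_of_mul_le_mul_left h6 (by omega)
  have h8 : q * q ≤ q * a := by nlinarith [Nat.mul_le_mul (Nat.mul_le_mul (le_refl a) h3) h4]
  have h9 := Nat.le_of_mul_le_mul_left h8 (by omega)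
  omega

end S5cH

open S5cH in
theorem pf_S5c [Bas1.{u}] [Bas2.{u}] [BasJ.{u}] [PjB.{u, 0}] [LC.{u}] [S5a.{u}] : S5c.{u} := ⟨by
  intro G _ _ hG H Q T π hM hT hF hTH hTG hQ z hz hTz
  have hP := hG.p8
  have hn : H ≤ Ns Q := (PjB.one hT.toPj).2.2.2.1
  obtain ⟨hE, -, hj, hS, hrk⟩ := S5a.ea hP hT hF
  have hQT := (hS T hTH).1
  have hCh := (Bas2.chc hG.c2 hz).2
  have hsol := Bas1.sol hP (Bas1.cen hP (.inl hz)).1 (Bas1.cen hP (.inl hz)).2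
  have hLr := LC.lr hP hsol hCh
  by_cases hD : Q ≤ O2 (C1 z)
  · exact le_of_O2 hP hM hT hF hQ hn hTH.le hTG hTz hD
  exfalso
  obtain ⟨n, hnz, hX⟩ := BasJ.bs (hQT.trans hTz) hT.two hD
  obtain ⟨hDN, hD2, hND, -, hDT⟩ := BasJ.o2 (C1 z)
  replace hDT := hDT T (hTG.mono hTz le_top)
  generalize hDe : O2 (C1 z) = D at *
  have hnD : cj n D = D := mem_Ns_iff.1 (hND (le_normalizer hnz))
  have hYN : cj n Q ≤ C1 z := cj_le_of_mem_of_le hnz (hQT.trans hTz)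
  have hDQ : D ≤ Ns Q := hDT.trans (hTH.le.trans hn)
  have hDY : D ≤ Ns (cj n Q) := by rw [← hnD, ← cj_Ns]; exact cj_mono n hDQ
  have hEY := ea_cj hE n
  have hcJ : Nat.card ↥(cj n Q ⊓ D) = Nat.card ↥(Q ⊓ D) := by
    conv_lhs => rw [← hnD, ← cj_inf, card_cj]
  have hJH : cj n Q ⊓ D ≤ T := inf_le_right.trans hDT
  have hEJ : EA (cj n Q ⊓ D) := ea fun a ha => sq hEY a ha.1
  by_cases hJ : cj n Q ⊓ D ≤ Q
  · have e : cj n Q ⊓ D = Q ⊓ D := eq_of_le_of_card_ge (le_inf hJ inf_le_right) hcJ.ge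
    have key : ∀ Y : Subgroup G, EA Y → Y ≤ C1 z → D ≤ Ns Y → Y ≤ Sb D (Y ⊓ D) := fun Y h1 h2 h3 y hy =>
      ⟨le_Cs_of_sq (sq h1) inf_le_left hy, fun d hd =>
        ⟨commutator_le_right_of_le h3 (commutator_mem_commutator hd hy),
          commutator_le_left_of_le (h2.trans (le_normalizer.trans hND)) (commutator_mem_commutator hd hy)⟩⟩
    refine hX (two_of_Sb (I := Q ⊓ D) hCh (sup_le (hQT.trans hTz) hYN) ?_)
    rw [hDe]
    exact sup_le (key Q hE (hQT.trans hTz) hDQ) (e ▸ key _ hEY hYN hDY)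
  generalize hJe : cj n Q ⊓ D = J at *
  have hJY : J ≤ cj n Q := hJe ▸ inf_le_left
  have key : ∀ j ∈ J, j ∉ Q → Q.relIndex J = 4 ∧ J ⊓ Q = Q ⊓ C1 j ∧ 2 ≤ Nat.card ↥(J ⊓ Q) := by
    intro j h1 h2
    have h3 := hj j (hTH.le (hJH h1)) h2 (by rw [sq hEJ j h1]; exact one_mem _)
    have h4 : J ⊓ Q ≤ Q ⊓ C1 j :=
      le_inf inf_le_right (inf_le_left.trans ((le_Cs_of_sq (sq hEJ) le_rfl).trans (Cs_le_C1 h1)))
    have h5 := hLr Q (hQT.trans hTz) hE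
    rw [hDe] at h5
    obtain ⟨h6, h7, h8⟩ := arith (h3.trans (by rw [card_inf, hcJ, card_inf])) (h3 ▸ hQ) (Trans.card_le_of_le h4)
      (hrk J (hJH.trans hTH.le) hEJ) h5
    exact ⟨h6, eq_of_le_of_card_ge h4 h7, h8⟩
  obtain ⟨j, hj1, hj2⟩ := SetLike.not_le_iff_exists.1 hJ
  obtain ⟨k1, k2, k3⟩ := key j hj1 hj2
  obtain ⟨h1, h2, x, hx, ox, h3, h4⟩ := S5a.v4 hP hT hF hTH hJH hEJ k1 fun i hi hi' => by
    rw [← (key i hi hi').2.1]
    exact inf_le_left.trans (le_Cs_of_sq (sq hEJ) le_rfl)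
  have hZ : Q ⊓ Cs (J ⊔ Q) = J ⊓ Q := le_antisymm
    (k2 ▸ inf_le_inf_left _ (Cs_le_C1 (mem_sup_left hj1)))
    (le_inf inf_le_right (le_Cs_comm.1 (sup_le (le_Cs_of_sq (sq hEJ) inf_le_left)
      (le_Cs_of_sq (sq hE) inf_le_right))))
  have hB : H ⊓ Ns (J ⊔ Q) ≤ Ns (J ⊓ Q) :=
    hZ ▸ le_Ns_inf (inf_le_left.trans hn) (le_Ns_Cs inf_le_right)
  have hZ1 : J ⊓ Q ≠ ⊥ := fun e => by rw [e, card_bot] at k3; omega
  obtain ⟨w, hw, hw1⟩ := (ne_bot_iff_exists_ne_one.1 hZ1).elim fun w h =>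
    (⟨w.1, w.2, fun e => h (Subtype.ext e)⟩ : ∃ w ∈ J ⊓ Q, w ≠ 1)
  have ow : orderOf w = 2 := orderOf_eq_prime (hE.2 w hw.2) hw1
  have hTB : T ≤ H ⊓ Ns (J ⊔ Q) := le_inf hTH.le h1
  have hTN : T ≤ Cs (J ⊓ Q) ⊔ H ⊓ Ns (J ⊔ Q) := hTB.trans le_sup_right
  have hC := Bas2.ch hG.c2 ⟨J ⊓ Q, hT.two.to_le inf_le_right, hZ1, rfl⟩ hTG hTN (sup_le Cs_le_Ns hB)
  have hd := Solv.card_sup_dvd_of_le_normalizer (le_Ns_Cs hB)
  have h7 : ¬ 7 ∣ Nat.card ↥(H ⊓ Ns (J ⊔ Q)) := fun h => by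
    have h5 := h.trans (card_dvd_of_le (inf_le_left : _ ≤ H))
    obtain ⟨m, hm⟩ := IsPGroup.iff_card.1 hT.two
    rw [← card_mul_relIndex hT.le, (PjB.card hT.toPj).2.1, hm, Nat.card_perm, Nat.card_fin,
      (by decide : Nat.Prime 7).dvd_mul] at h5
    rcases h5 with h5 | h5
    · exact absurd ((by decide : Nat.Prime 7).dvd_of_dvd_pow h5) (by decide)
    · exact absurd h5 (by decide)
  have hs := Bas1.sol hP
    (fun h => (((by decide : Nat.Prime 5).dvd_mul).1 (h.trans hd)).elim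
      (fun h => (Bas1.cen hP (.inl ow)).1 (h.trans (card_dvd_of_le (Cs_le_C1 hw)))) h2)
    (fun h => (((by decide : Nat.Prime 7).dvd_mul).1 (h.trans hd)).elim
      (fun h => (Bas1.cen hP (.inl ow)).2 (h.trans (card_dvd_of_le (Cs_le_C1 hw)))) h7)
  have h5 := LC.lc hP hs hC ((sup_le hJH hQT).trans hTN) (hTH.isPGroup.to_le (sup_le hJH hQT))
    (mem_sup_right ⟨hx, h3⟩) ox h3
  have h6 := le_of_O2 hP hM hT hF hQ hn hTH.le hTG hTN (le_sup_right.trans (h4.trans h5))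
  have h8 := uniq hP hT hF hQ
    ((le_Cs_of_sq (sq hEY) (inf_le_left.trans hJY)).trans (le_sup_left.trans h6)) hEY (card_cj n Q)
  rw [h8, sup_idem] at hX
  exact hX hT.two⟩

end Cfsg.Lib.P8
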