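import Cfsg.Agent.P8.S5c

/-!
# Groups with element orders at most 8: the subgroup `IJ = [D, r]`
-/

set_option autoImplicit false

namespace Cfsg.Lib.P8

open Subgroup Cfsg.Lib.Trans Cfsg.Lib.Gold
open scoped commutatorElement

universe u v

namespace T5sH

variable {G : Type u} [Group G]

/-- The elements normalising `K` and centralising `D` modulo `K`. -/
def Zs (D K : Subgroup G) : Subgroup G where
  carrier := {g | g ∈ Ns K ∧ ∀ d ∈ D, ⁅d, g⁆ ∈ K}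
  one_mem' := ⟨one_mem _, fun d _ => by simp⟩
  mul_mem' {a b} ha hb := ⟨mul_mem ha.1 hb.1, fun d hd => by
    rw [show ⁅d, a * b⁆ = ⁅d, a⁆ * (a * ⁅d, b⁆ * a⁻¹) by simp only [commutatorElement_def]; group]
    exact mul_mem (ha.2 d hd) (mem_normalizer_conj ha.1 (hb.2 d hd))⟩
  inv_mem' {a} ha := ⟨inv_mem ha.1, fun d hd => by
    rw [show ⁅d, a⁻¹⁆ = a⁻¹ * ⁅d, a⁆⁻¹ * a by simp only [commutatorElement_def]; group]
    exact mem_normalizer_conj' ha.1 (inv_mem (ha.2 d hd))⟩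

theorem le_of_Zs {D K : Subgroup G} {r : G} (h : r ∈ Zs D K) : ⁅D, zpowers r⁆ ≤ K :=
  commutator_le.2 fun d hd _ ha => ((zpowers_le.2 h : _ ≤ Zs D K) ha).2 d hd

theorem conj_Zs {D K : Subgroup G} {g a : G} (h1 : g ∈ Ns D) (h2 : g ∈ Ns K) (h : a ∈ Zs D K) :
    g * a * g⁻¹ ∈ Zs D K := ⟨mul_mem (mul_mem h2 h.1) (inv_mem h2), fun d hd => by
  rw [show ⁅d, g * a * g⁻¹⁆ = g * ⁅g⁻¹ * d * g, a⁆ * g⁻¹ by simp only [commutatorElement_def]; group]
  exact mem_normalizer_conj h2 (h.2 _ (mem_normalizer_conj' h1 hd))⟩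

/-- `[D, b] ≤ [D, a]` for `b` of odd order in `⟨a⟩ D`. -/
theorem comm_le [Finite G] {D : Subgroup G} (hD : IsPGroup 2 D) {a z d : G} (hz : z ∈ zpowers a)
    (hd : d ∈ D) (ho : Odd (orderOf (z * d))) : ⁅D, zpowers (z * d)⁆ ≤ ⁅D, zpowers a⁆ := by
  have h1 : z ∈ Zs D ⁅D, zpowers a⁆ :=
    ⟨right_le_Ns_commutator hz, fun e he => commutator_mem_commutator he hz⟩
  have h2 : ∀ n : ℕ, (z * d) ^ n * (d ^ n)⁻¹ ∈ Zs D ⁅D, zpowers a⁆ := fun n => by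
    induction n with
    | zero => simp
    | succ n ih =>
      rw [show (z * d) ^ (n + 1) * (d ^ (n + 1))⁻¹ =
        (z * d) ^ n * (d ^ n)⁻¹ * (d ^ n * z * (d ^ n)⁻¹) by simp only [pow_succ]; group]
      exact mul_mem ih (conj_Zs (le_normalizer (pow_mem hd n))
        (left_le_Ns_commutator (pow_mem hd n)) h1)
  obtain ⟨k, hk⟩ := hD ⟨d, hd⟩
  have h3 := h2 (2 ^ k)
  rw [show d ^ 2 ^ k = 1 from congrArg Subtype.val hk, inv_one, mul_one] at h3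
  exact le_of_Zs (mem_of_pow_mem_of_coprime h3 ((odd_iff_coprime.1 ho).symm.pow_left k))

end T5sH

open T5sH S5cH in
theorem pf_T5s [Bas2.{u}] [BasJ.{u}] [T1.{u}] [T2.{u}] [T4.{u}] : T5s.{u} := ⟨by
  intro G _ _ H Q W T N h hT hTN hC hL h8 h2 v r hv hvD hr hor hvr
  obtain ⟨k1, -, k3, -, -, k6, -⟩ := T4.out h hT hTN hC hL fun e => hvD (e hv)
  obtain ⟨hDN, hD2, hND, -, hDT⟩ := BasJ.o2 N
  replace hDT := (hDT T ((T2.syl h hT).1.mono hTN le_top)).trans hT.le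
  generalize O2 N = D at *
  have hW := sq h.ws.ea
  have ho : Odd (orderOf r) := by rcases hor with e | e | e <;> rw [e] <;> decide
  have e1 : v * (r * v * r⁻¹) = (r ^ 2)⁻¹ := by
    rw [← mul_assoc, ← mul_assoc]
    nth_rw 2 [← inv_eq_of_sq (hW v hv)]
    rw [hvr, pow_two, mul_inv_rev]
  have hIJ : IJ H Q W r := (k1 r hr).resolve_left fun e => by
    have e2 := mem_Cs.1 ((T1.nw h).2.1.ge (e (conj_mem_cj.2 hv))) v hv
    have e3 : r ^ 4 = 1 := by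
      rw [← inv_eq_one, show (r ^ 4)⁻¹ = (r ^ 2)⁻¹ * (r ^ 2)⁻¹ by group]
      nth_rw 1 [← e1, e2]
      rw [← e1, mul_assoc, ← mul_assoc v, hW v hv, one_mul, conj_mul', hW v hv]
      group
    have e4 := orderOf_dvd_of_pow_eq_one e3
    rcases hor with e | e | e <;> rw [e] at e4 <;> omega
  have hc := card_inf W D
  rw [h2, h8] at hc
  have hrD : cj r D = D := mem_Ns_iff.1 (hND (le_normalizer hr))
  have hJD : cj r (W ⊓ D) ≤ D := (cj_mono r inf_le_right).trans hrD.le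
  have eI : W ⊓ D = W ⊓ cj r H := eq_of_le_of_card_ge (k3 r hr hIJ) (by rw [hIJ.cI]; omega)
  have eJ : cj r (W ⊓ D) = cj r W ⊓ H := eq_of_le_of_card_ge
    (le_inf (cj_mono r inf_le_left) (hJD.trans hDT)) (by rw [hIJ.cJ, card_cj]; omega)
  have hn := hIJ.nor
  rw [← eI, ← eJ] at hn
  have hKD : W ⊓ D ⊔ cj r (W ⊓ D) ≤ D := sup_le inf_le_right hJD
  have hDI : D ≤ Ns (W ⊓ D) := le_Ns_inf (hDT.trans h.ws.nor) le_normalizer
  have hz : r ∈ Zs D (W ⊓ D ⊔ cj r (W ⊓ D)) := by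
    refine mem_of_pow_mem_of_coprime (n := 2) ?_ (odd_iff_coprime.1 ho).symm
    rw [← inv_mem_iff, ← e1]
    refine mul_mem ⟨hn (mem_sup_left hv), fun d hd => mem_sup_left (k6 (commutator_mem_commutator hd hv))⟩
      ⟨hn (mem_sup_right (conj_mem_cj.2 hv)), fun d hd => mem_sup_right ?_⟩
    rw [show ⁅d, r * v * r⁻¹⁆ = r * ⁅r⁻¹ * d * r, v⁆ * r⁻¹ by simp only [commutatorElement_def]; group]
    exact conj_mem_cj.2 (k6 (commutator_mem_commutator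
      (mem_normalizer_conj' (hND (le_normalizer hr)) hd) hv))
  have hb : (W ⊓ D ⊔ cj r (W ⊓ D)) ⊓ C1 r = ⊥ := by
    by_contra hb
    have hb' : ∀ U : Subgroup G, U ≤ Ns ⊥ := fun U g _ => mem_Ns_iff.2 (cj_bot g)
    obtain ⟨y, hy, y1, y2⟩ := BasJ.zfix (T := zpowers v)
      (isPGroup_of_sq fun a ha => hW a (zpowers_le.2 hv ha)) (hD2.to_le (inf_le_left.trans hKD))
      (bot_lt_iff_ne_bot.2 hb) (hb' _) (zpowers_le.2 (mem_Ns_inf (hn (mem_sup_left hv)) (by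
        rw [mem_Ns_iff, cj_C1, hvr, ← Cs_zpowers, zpowers_inv, Cs_zpowers]))) (hb' _)
    obtain ⟨i, hi, j, hj, rfl⟩ := (Solv.mem_sup_of_le_normalizer (hJD.trans hDI)).1 hy.1
    have e2 := commutatorElement_eq_one_iff_mul_comm.1 (mem_bot.1 (y2 v (mem_zpowers v)))
    by_cases j1 : j = 1
    · rw [j1, mul_one] at hy y1
      refine y1 (hIJ.WW.le ⟨hi.1, ?_⟩)
      rw [← mul_inv_cancel_right i r, mem_C1.1 hy.2]
      exact conj_mem_cj.2 hi.1
    · refine hvD (eI.ge ((hIJ.fI j (eJ.le hj) j1).le ⟨hv, mem_C1.2 ?_⟩)).2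
      rw [← mul_assoc, ← comm_of_sq hW i hi.1 v hv, mul_assoc, mul_assoc] at e2
      exact (mul_left_cancel e2).symm
  have e5 : ⁅D, zpowers r⁆ = W ⊓ D ⊔ cj r (W ⊓ D) := le_antisymm (le_of_Zs hz) (by
    have := (Bas2.cop (hD2.to_le hKD) hz.1 ho).1
    rw [hb, sup_bot_eq] at this
    exact this.trans (commutator_mono hKD le_rfl))
  exact ⟨hIJ, e5, e5 ▸ hb, eJ.symm⟩⟩

end Cfsg.Lib.P8
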