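import Cfsg.Agent.P8.T5s

/-!
# Groups with element orders at most 8: solvable overgroups in the TI situation
-/

set_option autoImplicit false

namespace Cfsg.Lib.P8

open Subgroup Cfsg.Lib.Trans Cfsg.Lib.Gold
open scoped commutatorElement

universe u v

namespace T5tH

open T5sH S5cH

variable {G : Type u} [Group G] [Finite G] {X : Type v} [Group X] {H Q W T N D : Subgroup G}
  {π : G → X}

theorem comm_le' [PjB.{u, v}] (hP : Pj N D π) {a b : G} (ha : a ∈ N) (hb : b ∈ N)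
    (ho : Odd (orderOf b)) (h : π b ∈ zpowers (π a)) : ⁅D, zpowers b⁆ ≤ ⁅D, zpowers a⁆ := by
  have := (PjB.card hP).1
  obtain ⟨-, -, h3, -, h5⟩ := PjB.one hP
  obtain ⟨n, hn⟩ := (mem_powers_iff_mem_zpowers.2 h :)
  have h1 := (h5 _ (pow_mem ha n) _ hb).1 ((h3 a ha n).trans hn)
  rw [← mul_inv_cancel_left (a ^ n) b] at ho ⊢
  exact comm_le hP.two (pow_mem (mem_zpowers a) n) h1 ho

omit [Finite G] in
theorem pi_conj [PjB.{u, v}] (hP : Pj N D π) {a b : G} (ha : a ∈ N) (hb : b ∈ N) :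
    π (a * b * a⁻¹) = π a * π b * (π a)⁻¹ := by
  rw [hP.mul _ (mul_mem ha hb) _ (inv_mem ha), hP.mul _ ha _ hb, (PjB.one hP).2.1 a ha]

omit [Finite G] in
theorem pi_comm [PjB.{u, v}] (hP : Pj N D π) {a b : G} (ha : a ∈ N) (hb : b ∈ N) (h : ⁅a, b⁆ ∈ D) :
    π a * π b = π b * π a := by
  have h1 := mul_mem (mul_mem ha hb) (inv_mem ha)
  have := (hP.ker _ (mul_mem h1 (inv_mem hb))).2 h
  rwa [hP.mul _ h1 _ (inv_mem hb), pi_conj hP ha hb, (PjB.one hP).2.1 b hb, mul_inv_eq_one,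
    mul_inv_eq_iff_eq_mul] at this

omit [Finite G] in
theorem mem_Ns_zpowers [Finite G] {a b : G} (h : a * b = b * a) : a ∈ Ns (zpowers b) := by
  rw [mem_Ns_iff, cj_zpowers, h, mul_inv_cancel_right]

end T5tH

open T5sH S5cH T5tH in
theorem pf_T5t [Bas2.{u}] [BasJ.{u}] [PjB.{u, u}] [SvB.{u}] [G4.{u}] [LC.{u}] [FF.{u}] [T1.{u}]
    [T4.{u}] [T5s.{u}] : T5t.{u} := ⟨by
  intro G _ _ H Q W T N h hT hTN hC hs hn
  have hP := h.gl.p8
  have hL := LC.lr hP hs hC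
  obtain ⟨-, -, k3, k4, k5, k6, -, v, hv, hvD, hvT⟩ := T4.out h hT hTN hC hL hn
  obtain ⟨-, -, hWQ, h8⟩ := T1.nw h
  have hQT := (h.ws.d8 T hT).1
  have hWN : W ≤ N := hWQ.trans (hQT.trans hTN)
  have hc := card_inf W (O2 N)
  have h4 : (O2 N).relIndex W ≠ 4 := fun e => FF.ts1 hP hs hC hWN h.ws.ea e k6 k4
  obtain ⟨h8, h2, hI⟩ : Nat.card W = 8 ∧ (O2 N).relIndex W = 2 ∧ Nat.card ↥(W ⊓ O2 N) = 4 := by
    generalize (O2 N).relIndex W = k at *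
    generalize Nat.card ↥(W ⊓ O2 N) = a at *
    rcases h.ws.ex with ⟨e, -⟩ | ⟨e, -⟩ <;> rw [e] at hc ⊢ <;> interval_cases k <;> omega
  have hex := (h.ws.ex.resolve_left fun e => by omega).2.2
  obtain ⟨X, _, _, π, M, _, _, _, p, hπ, hX, -⟩ := SvB.out hP hs hC
  obtain ⟨p1, p2, p3, hND, p5⟩ := PjB.one hπ
  have key := fun {r : G} => T5s.key (r := r) h hT hTN hC hL h8 h2 hv hvD
  generalize O2 N = D at *
  have hW := sq h.ws.ea
  have hvN := hWN hv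
  obtain ⟨S, hS, -⟩ := PjB.im hπ T hTN
  have hS2 : IsPGroup 2 S := fun ⟨y, hy⟩ => by
    obtain ⟨a, ha, rfl⟩ := (hS y).1 hy
    obtain ⟨k, hk⟩ := hT.isPGroup ⟨a, ha⟩
    exact ⟨k, Subtype.ext (by
      change π a ^ 2 ^ k = 1
      rw [← p3 a (hTN ha), show a ^ 2 ^ k = 1 from congrArg Subtype.val hk, p1])⟩
  rcases G4.ts2 hX hS2 ((hS _).2 ⟨v, hQT (hWQ hv), rfl⟩)
    (orderOf_eq_prime (by rw [← p3 v hvN, h.ws.ea.2 v hv, p1]) fun e => hvD ((hπ.ker v hvN).1 e))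
    (fun y hy => by
      obtain ⟨a, ha, rfl⟩ := (hS y).1 hy
      exact mem_C1.2 (pi_comm hπ hvN (hTN ha) (hvT a ha)).symm) with
    ⟨ρ, h1, h3, h5⟩ | ⟨α, β, ⟨oα, oβ, h1, h3⟩, h5, h6⟩
  · have ho : Odd (orderOf ρ) := by rcases h1 with e | e | e <;> rw [e] <;> decide
    obtain ⟨r, hr, rfl, e1, e2⟩ := PjB.inv hπ v hvN (hW v hv) ρ ho h3
    rw [← e1] at h1 ho
    obtain ⟨hIJ, hK, -, hJ⟩ := key hr h1 e2
    have hTK : T ≤ Ns ⁅D, zpowers r⁆ := fun t ht => mem_normalizer_of_cj_le (by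
      rw [cj_commutator, mem_Ns_iff.1 (hND (hTN ht)), cj_zpowers]
      refine comm_le' hπ hr (mul_mem (mul_mem (hTN ht) hr) (inv_mem (hTN ht))) ?_ ?_
      · rwa [← MulAut.conj_apply, MulEquiv.orderOf_eq]
      · rw [pi_conj hπ (hTN ht) hr]
        exact mem_normalizer_conj (h5 ((hS _).2 ⟨t, ht, rfl⟩)) (mem_zpowers _))
    obtain ⟨j, hj, j1⟩ : ∃ j ∈ cj r W ⊓ H, j ≠ 1 := by
      by_contra! e
      have := hIJ.cJ
      rw [(eq_bot_iff_forall _).2 e, card_bot] at this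
      omega
    have hHQ : H ≤ Ns Q := h.mx.eq ▸ le_normalizer.trans (BasJ.o2 H).2.2.1
    refine hex Q hWQ le_rfl hHQ j hj.2 (fun e => j1 (hIJ.JQ.le ⟨hj.1, e⟩)) fun y hy => ?_
    have y1 : y ∈ Q := commutator_le_left_of_le (zpowers_le.2 (hHQ hj.2)) hy
    have y2 := commutator_le_right_of_le (hQT.trans hTK)
      (commutator_mono le_rfl (zpowers_le.2 (hK.ge (mem_sup_right (hJ.le hj)))) hy)
    rw [hK] at y2
    obtain ⟨i, hi, i', hi', rfl⟩ := (Solv.mem_sup_of_le_normalizer (le_Ns_inf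
      (hJ.ge.trans (inf_le_right.trans h.ws.nor)) (((cj_mono r inf_le_right).trans
        (mem_Ns_iff.1 (hND hr)).le).trans le_normalizer))).1 y2
    rw [mem_bot.1 (hIJ.JQ.le ⟨(hJ.ge hi').1, (mul_mem_cancel_left (hWQ hi.1)).1 y1⟩), mul_one]
    exact hi.1
  exfalso
  have main : ∀ e ∈ N, e ^ 3 = 1 → π e ≠ 1 → π v * π e * (π v)⁻¹ = (π e)⁻¹ →
      ⁅D, zpowers e⁆ ⊓ C1 e = ⊥ ∧ ∃ d ∈ D, ⁅D, zpowers e⁆ = W ⊓ D ⊔ cj (e * d) (W ⊓ D) := by
    intro e he e3 e1 e2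
    have o1 : orderOf (π e) = 3 := orderOf_eq_prime (by rw [← p3 e he, e3, p1]) e1
    have o2 : Odd (orderOf e) := Odd.of_dvd_nat (by decide) (orderOf_dvd_of_pow_eq_one e3)
    obtain ⟨r, hr, e4, e5, e6⟩ := PjB.inv hπ v hvN (hW v hv) (π e) (by rw [o1]; decide) e2
    rw [o1] at e5
    obtain ⟨hIJ, hK, -, hJ⟩ := key hr (.inl e5) e6
    have e7 : ⁅D, zpowers e⁆ = ⁅D, zpowers r⁆ := le_antisymm
      (comm_le' hπ hr he o2 (e4 ▸ mem_zpowers _))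
      (comm_le' hπ he hr (by rw [e5]; decide) (e4 ▸ mem_zpowers _))
    refine ⟨le_bot_iff.1 ((Bas2.cop hπ.two (hND he) o2).2.2.1.trans
      (commutator_eq_bot_iff_le_centralizer.2 ?_).le), e⁻¹ * r, (p5 e he r hr).1 e4.symm, by
        rw [e7, hK, mul_inv_cancel_left]⟩
    have : ⁅D, zpowers e⁆ ≤ W ⊓ cj r H ⊔ cj r W ⊓ H := by
      rw [e7, hK, hJ]
      exact sup_le_sup_right (k3 r hr hIJ) _
    exact this.trans (le_Cs_of_sq (sq hIJ.ea) this)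
  obtain ⟨a₀, ha₀, rfl⟩ := hπ.sur α
  obtain ⟨a, ha, ea, oa⟩ := PjB.odd hπ a₀ ha₀ (by rw [oα]; decide)
  replace ha := zpowers_le.2 ha₀ ha
  rw [oα] at oa
  rw [← ea] at oα h1 h3 h5
  obtain ⟨b₀, hb₀, hc0, rfl⟩ := PjB.cen hπ a ha (by rw [oa]; decide) β h1.symm
  obtain ⟨b, hb, eb, ob⟩ := PjB.odd hπ b₀ hb₀ (by rw [oβ]; decide)
  have hab : b * a = a * b := mem_C1.1 (zpowers_le.2 (mem_C1.2 hc0) hb)
  replace hb := zpowers_le.2 hb₀ hb
  rw [oβ] at ob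
  rw [← eb] at oβ h1 h3 h6
  have a3 : a ^ 3 = 1 := oa ▸ pow_orderOf_eq_one a
  have b3 : b ^ 3 = 1 := ob ▸ pow_orderOf_eq_one b
  have cab : Commute a b := hab.symm
  have a1 : π a ≠ 1 := fun e => by rw [e, orderOf_one] at oα; omega
  obtain ⟨ka, d, hd, kd⟩ := main a ha a3 a1 h5
  have hle : ∀ e ∈ N, e ^ 3 = 1 → π e ≠ 1 → π v * π e * (π v)⁻¹ = (π e)⁻¹ → a * e = e * a →
      ⁅D, zpowers a⁆ ⊓ C1 e = ⊥ := by
    intro e he e3 e1 e2 e4
    obtain ⟨k1, d', -, k2⟩ := main e he e3 e1 e2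
    refine le_bot_iff.1 ((inf_le_inf_right _ ?_).trans k1.le)
    have k7 : W ⊓ D ≤ ⁅D, zpowers e⁆ := k2 ▸ le_sup_left
    rw [kd]
    exact sup_le k7 ((cj_mono _ k7).trans (mem_Ns_iff.1 (mul_mem
      (mem_Ns_commutator (hND ha) (mem_Ns_zpowers e4)) (left_le_Ns_commutator hd))).le)
  have g9 := Bas2.gen9 (D := ⁅D, zpowers a⁆)
    (hπ.two.to_le (commutator_le_left_of_le (zpowers_le.2 (hND ha))))
    (mem_Ns_commutator (hND ha) (mem_Ns_zpowers rfl)) (mem_Ns_commutator (hND hb) (mem_Ns_zpowers hab))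
    ⟨oa, ob, hab.symm, fun e => h3 (by
      obtain ⟨n, rfl⟩ := (mem_powers_iff_mem_zpowers.2 e :)
      rw [p3 a ha n]
      exact pow_mem (mem_zpowers _) n)⟩
  rw [ka, hle b hb b3 (fun e => h3 (e ▸ one_mem _)) h6 hab.symm,
    hle (a * b) (mul_mem ha hb) (by rw [cab.mul_pow, a3, b3, one_mul])
      (by
        rw [hπ.mul a ha b hb]
        exact fun e => h3 (eq_inv_of_mul_eq_one_right e ▸ inv_mem (mem_zpowers _)))
      (by rw [hπ.mul a ha b hb, ← conj_mul', h5, h6, ← mul_inv_rev, h1])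
      (by rw [mul_assoc, hab]),
    hle (a * b⁻¹) (mul_mem ha (inv_mem hb)) (by rw [cab.inv_right.mul_pow, a3, inv_pow, b3, inv_one, one_mul])
      (by
        rw [hπ.mul a ha _ (inv_mem hb), p2 b hb, Ne, mul_inv_eq_one]
        exact fun e => h3 (e ▸ mem_zpowers _))
      (by
        rw [hπ.mul a ha _ (inv_mem hb), p2 b hb, ← conj_mul', ← conj_inv', h5, h6, ← mul_inv_rev,
          (show Commute (π a) (π b) from h1).inv_right.eq])
      (by rw [mul_assoc, ← cab.inv_right.eq]), sup_idem, sup_idem, sup_idem, kd] at g9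
  rw [le_bot_iff.1 (le_sup_left.trans g9), card_bot] at hI
  omega⟩

end Cfsg.Lib.P8
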