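import Cfsg.Agent.P8.Stm
import Cfsg.Agent.Gold.Cm

/-!
# Groups with element orders at most 8: finite facts on the four types
-/

set_option autoImplicit false

namespace Cfsg.Lib.P8

open Subgroup Cfsg.Lib.Trans Cfsg.Lib.Gold
open scoped commutatorElement

universe u v

namespace TyNH

theorem card_A5 : Nat.card A5 = 60 := by rw [nat_card_alternatingGroup]; simp [Nat.factorial]
theorem card_A6 : Nat.card A6 = 360 := by rw [nat_card_alternatingGroup]; simp [Nat.factorial]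
theorem card_S5 : Nat.card S5 = 120 := by rw [Nat.card_perm]; simp [Nat.factorial]

set_option synthInstance.maxSize 1000 in
theorem inv5 : ∀ g : S5, g * g = 1 → g ≠ 1 → (∃ r ∈ ([⟨![1, 2, 3, 4, 0], ![4, 0, 1, 2, 3], by decide, by decide⟩,
    ⟨![1, 2, 4, 0, 3], ![3, 0, 1, 4, 2], by decide, by decide⟩,
    ⟨![1, 3, 0, 4, 2], ![2, 0, 4, 1, 3], by decide, by decide⟩,
    ⟨![1, 3, 4, 2, 0], ![4, 0, 3, 1, 2], by decide, by decide⟩,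
    ⟨![1, 4, 0, 2, 3], ![2, 0, 3, 4, 1], by decide, by decide⟩] : List S5),
      g * r * g⁻¹ = r⁻¹ ∧ r ^ 5 = 1 ∧ r ≠ 1) ∨ (Equiv.Perm.sign g = -1 ∧
        ∀ s : S5, g * s = s * g → s ^ 4 = 1 → s * s = 1) := by
  decide +kernel

theorem inv6 : ∀ g : Equiv.Perm (Fin 6), g * g = 1 → g ≠ 1 → (∃ r ∈ ([
    ⟨![0, 2, 3, 4, 5, 1], ![0, 5, 1, 2, 3, 4], by decide, by decide⟩,
    ⟨![1, 2, 3, 5, 4, 0], ![5, 0, 1, 2, 4, 3], by decide, by decide⟩,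
    ⟨![1, 2, 4, 0, 3, 5], ![3, 0, 1, 4, 2, 5], by decide, by decide⟩,
    ⟨![1, 2, 5, 3, 0, 4], ![4, 0, 1, 3, 5, 2], by decide, by decide⟩,
    ⟨![1, 3, 2, 4, 5, 0], ![5, 0, 2, 1, 3, 4], by decide, by decide⟩,
    ⟨![0, 2, 4, 1, 5, 3], ![0, 3, 1, 5, 2, 4], by decide, by decide⟩,
    ⟨![2, 1, 5, 4, 0, 3], ![4, 1, 0, 5, 3, 2], by decide, by decide⟩,
    ⟨![1, 3, 4, 2, 0, 5], ![4, 0, 3, 1, 2, 5], by decide, by decide⟩,
    ⟨![1, 4, 0, 3, 5, 2], ![2, 0, 5, 3, 1, 4], by decide, by decide⟩,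
    ⟨![1, 4, 2, 0, 5, 3], ![3, 0, 2, 5, 1, 4], by decide, by decide⟩,
    ⟨![1, 4, 5, 3, 2, 0], ![5, 0, 4, 3, 1, 2], by decide, by decide⟩,
    ⟨![1, 5, 0, 2, 4, 3], ![2, 0, 3, 5, 4, 1], by decide, by decide⟩,
    ⟨![1, 5, 0, 3, 2, 4], ![2, 0, 4, 3, 5, 1], by decide, by decide⟩] : List (Equiv.Perm (Fin 6))),
      g * r * g⁻¹ = r⁻¹ ∧ r ^ 5 = 1 ∧ r ≠ 1) ∨ Equiv.Perm.sign g = -1 := by
  decide +kernel

theorem alt {n : ℕ} {g : alternatingGroup (Fin n)} {r : Equiv.Perm (Fin n)}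
    (h : g.1 * r * g.1⁻¹ = r⁻¹ ∧ r ^ 5 = 1 ∧ r ≠ 1) :
    ∃ r : alternatingGroup (Fin n), orderOf r = 5 ∧ g * r * g⁻¹ = r⁻¹ := by
  have : Fact (Nat.Prime 5) := ⟨by decide⟩
  have h1 := congrArg Equiv.Perm.sign h.2.1
  rw [map_pow, map_one, show 5 = 2 * 2 + 1 from rfl, pow_succ, pow_mul, Int.units_sq, one_mul] at h1
  exact ⟨⟨r, h1⟩, by rw [← orderOf_coe]; exact orderOf_eq_prime h.2.1 h.2.2, Subtype.ext h.1⟩

theorem invA5 (g : A5) (h1 : g * g = 1) (h2 : g ≠ 1) : ∃ r : A5, orderOf r = 5 ∧ g * r * g⁻¹ = r⁻¹ := by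
  rcases inv5 g (congrArg Subtype.val h1) (fun e => h2 (Subtype.ext e)) with ⟨r, -, h⟩ | ⟨h, -⟩
  · exact alt h
  · exact absurd (h.symm.trans g.2) (by decide)

theorem invA6 (g : A6) (h1 : g * g = 1) (h2 : g ≠ 1) : ∃ r : A6, orderOf r = 5 ∧ g * r * g⁻¹ = r⁻¹ := by
  rcases inv6 g (congrArg Subtype.val h1) (fun e => h2 (Subtype.ext e)) with ⟨r, -, h⟩ | h
  · exact alt h
  · exact absurd (h.symm.trans g.2) (by decide)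

theorem four_S5 : ∃ g : S5, g ^ 4 = 1 ∧ g * g ≠ 1 :=
  ⟨⟨![1, 2, 3, 0, 4], ![3, 0, 1, 2, 4], by decide, by decide⟩, by decide⟩

theorem four_A6 : ∃ g : A6, g ^ 4 = 1 ∧ g * g ≠ 1 :=
  ⟨⟨⟨![1, 2, 3, 0, 5, 4], ![3, 0, 1, 2, 5, 4], by decide, by decide⟩,
    Equiv.Perm.mem_alternatingGroup.2 (by decide +kernel)⟩, by decide +kernel⟩

/-- A transvection. -/
def t0 : L32 := ⟨!![1, 1, 0; 0, 1, 0; 0, 0, 1], by decide +kernel⟩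
/-- A transvection. -/
def t1 : L32 := ⟨!![0, 0, 1; 0, 1, 0; 1, 0, 0], by decide +kernel⟩
/-- A transvection. -/
def t2 : L32 := ⟨!![0, 1, 0; 1, 0, 0; 0, 0, 1], by decide +kernel⟩

theorem four_L32 : ∃ g : L32, g ^ 4 = 1 ∧ g * g ≠ 1 := ⟨t0 * t1, by decide +kernel⟩

theorem cls0 : ∀ A : Matrix (Fin 3) (Fin 3) (ZMod 2), A * A = 1 → A ≠ 1 →
    ∃ g ∈ ([!![1, 0, 0; 0, 0, 1; 1, 1, 0], !![1, 0, 0; 1, 0, 1; 1, 1, 0], !![1, 0, 0; 1, 1, 0; 0, 0, 1],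
      !![1, 0, 0; 1, 1, 0; 1, 0, 1], !![1, 0, 0; 0, 0, 1; 1, 1, 1], !![1, 0, 0; 1, 0, 1; 0, 1, 1],
      !![0, 0, 1; 1, 0, 0; 1, 1, 0], !![0, 0, 1; 0, 1, 0; 1, 0, 0], !![0, 1, 0; 0, 0, 1; 1, 0, 0],
      !![0, 0, 1; 0, 1, 1; 1, 0, 0], !![0, 0, 1; 1, 0, 0; 0, 1, 0], !![0, 0, 1; 1, 0, 0; 1, 1, 1],
      !![0, 1, 0; 1, 0, 0; 0, 0, 1], !![0, 1, 0; 1, 0, 0; 1, 0, 1], !![0, 0, 1; 1, 0, 0; 0, 1, 1],
      !![1, 0, 0; 0, 0, 1; 0, 1, 0], !![1, 0, 0; 1, 0, 1; 0, 1, 0], !![1, 0, 0; 0, 1, 0; 0, 0, 1],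
      !![1, 0, 0; 0, 1, 0; 1, 0, 1], !![1, 0, 0; 1, 0, 1; 1, 1, 1], !![1, 0, 0; 0, 0, 1; 0, 1, 1]] :
        List (Matrix (Fin 3) (Fin 3) (ZMod 2))), A * g = g * t0.1 ∧ g.det = 1 := by
  decide +kernel

theorem cls (t : L32) (h1 : t * t = 1) (h2 : t ≠ 1) : ∃ g, t = g * t0 * g⁻¹ := by
  obtain ⟨g, -, e, hg⟩ := cls0 t (congrArg Subtype.val h1) fun e => h2 (Subtype.ext e)
  exact ⟨⟨g, hg⟩, eq_mul_inv_of_mul_eq (Subtype.ext e)⟩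

theorem sev (t : L32) (h1 : t * t = 1) (h2 : t ≠ 1) : ∃ a b : L32,
    orderOf (t * (a * t * a⁻¹) * (b * t * b⁻¹)) = 7 ∧ (t * (a * t * a⁻¹)) ^ 2 ^ 2 = 1 ∧
      ⁅t, a * t * a⁻¹⁆ ≠ 1 := by
  have : Fact (Nat.Prime 7) := ⟨by decide⟩
  obtain ⟨g, rfl⟩ := cls t h1 h2
  obtain ⟨a, ha⟩ := cls t1 (by decide +kernel) (by decide +kernel)
  obtain ⟨b, hb⟩ := cls t2 (by decide +kernel) (by decide +kernel)
  refine ⟨g * a * g⁻¹, g * b * g⁻¹, ?_⟩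
  rw [show g * a * g⁻¹ * (g * t0 * g⁻¹) * (g * a * g⁻¹)⁻¹ = g * t1 * g⁻¹ by rw [ha]; group,
    show g * b * g⁻¹ * (g * t0 * g⁻¹) * (g * b * g⁻¹)⁻¹ = g * t2 * g⁻¹ by rw [hb]; group, conj_mul,
    conj_mul, conj_pow, ← conjugate_commutatorElement, Ne, conj_eq_one_iff, conj_eq_one_iff]
  refine ⟨orderOf_eq_prime ?_ ?_, by decide +kernel, ?_⟩
  · rw [conj_pow, conj_eq_one_iff]; decide +kernel
  · rw [Ne, conj_eq_one_iff]; decide +kernel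
  · rw [commutatorElement_eq_one_iff_mul_comm]; decide +kernel

section
variable {X : Type v} [Group X] [Finite X]

theorem four {B : Subgroup X} (h : IsSylowIn 2 B ⊤) (h4 : ∃ g : X, g ^ 4 = 1 ∧ g * g ≠ 1) :
    ∃ s ∈ B, s ^ 4 = 1 ∧ s * s ≠ 1 := by
  have : Fact (Nat.Prime 2) := ⟨Nat.prime_two⟩
  obtain ⟨g, h1, h2⟩ := h4
  obtain ⟨x, -, e⟩ := h.exists_cj_le (Q := zpowers g) (IsPGroup.of_card (n := 2) (by
    rw [Nat.card_zpowers]; exact orderOf_eq_prime_pow (p := 2) (n := 1) (by rwa [pow_one, pow_two]) h1))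
    le_top
  exact ⟨_, e (conj_mem_cj.2 (mem_zpowers g)), by rw [conj_pow, h1, mul_one, mul_inv_cancel], by
    rwa [conj_mul, Ne, conj_eq_one_iff]⟩

omit [Finite X] in
theorem dih {s t : X} (hs : s * s = 1) (ht : t * t = 1) (h : (s * t) ^ 2 ^ 2 = 1) :
    IsPGroup 2 ↥(zpowers s ⊔ zpowers (s * t)) := by
  have k : ∀ y : X, y ^ 2 ^ 2 = 1 → IsPGroup 2 (zpowers y) := by
    rintro y hy ⟨_, m, rfl⟩
    refine ⟨2, Subtype.ext ?_⟩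
    change (y ^ m) ^ 2 ^ 2 = 1
    rw [← zpow_natCast, ← zpow_mul, mul_comm, zpow_mul, zpow_natCast, hy, one_zpow]
  refine IsPGroup.to_sup_of_normal_right' (k s (by rw [pow_two 2, pow_mul, pow_two s, hs, one_pow]))
    (k _ h) (zpowers_le.2 (mem_Ns_iff.2 ?_))
  rw [cj_zpowers, ← zpowers_inv, ← mul_assoc, hs, one_mul, mul_inv_rev, inv_inv, inv_eq_of_sq ht]

end

variable {G : Type u} [Group G] [Finite G] {X : Type} [Group X] {N D : Subgroup G} {π : G → X}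

omit [Finite G] in
theorem pj [PjB.{u, 0}] (h : Pj N D π) {a b : G} (ha : a ∈ N) (hb : b ∈ N) :
    π (a * b * a⁻¹) = π a * π b * (π a)⁻¹ := by
  rw [h.mul _ (mul_mem ha hb) _ (inv_mem ha), h.mul _ ha _ hb, (PjB.one h).2.1 a ha]

omit [Finite G] in
theorem pc [PjB.{u, 0}] (h : Pj N D π) {a b : G} (ha : a ∈ N) (hb : b ∈ N) :
    π ⁅a, b⁆ = ⁅π a, π b⁆ := by
  rw [commutatorElement_def, h.mul _ (mul_mem (mul_mem ha hb) (inv_mem ha)) _ (inv_mem hb), pj h ha hb,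
    (PjB.one h).2.1 b hb, commutatorElement_def]

theorem two_pow [PjB.{u, 0}] (h : Pj N D π) {A : Subgroup G} (hA : A ≤ N) (h2 : IsPGroup 2 A) :
    ∃ n, D.relIndex A = 2 ^ n ∧ 2 ^ n ∣ Nat.card X := by
  have : Fact (Nat.Prime 2) := ⟨Nat.prime_two⟩
  obtain ⟨n, hn⟩ := h2.index (D.subgroupOf A)
  obtain ⟨B, -, e⟩ := PjB.im h A hA
  exact ⟨n, hn, by rw [← hn, ← relIndex, ← e]; exact B.card_subgroup_dvd_card⟩

theorem le_of_not_dvd {n k m : ℕ} (h : 2 ^ n ∣ m) (h' : ¬ 2 ^ (k + 1) ∣ m) : 2 ^ n ≤ 2 ^ k :=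
  Nat.pow_le_pow_right two_pos (by_contra fun e => h' ((pow_dvd_pow 2 (by omega)).trans h))

theorem le8 [PjB.{u, 0}] (h : Pj N D π) (h16 : ¬ 16 ∣ Nat.card X) {A : Subgroup G} (hA : A ≤ N)
    (h2 : IsPGroup 2 A) : D.relIndex A ≤ 8 := by
  obtain ⟨n, e, hn⟩ := two_pow h hA h2
  rw [e]
  exact le_of_not_dvd (k := 3) hn h16

theorem le4 [PjB.{u, 0}] (h : Pj N D π) (h16 : ¬ 16 ∣ Nat.card X)
    (h4 : ¬ 8 ∣ Nat.card X ∨ ∃ g : X, g ^ 4 = 1 ∧ g * g ≠ 1) {A : Subgroup G} (hA : A ≤ N)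
    (hE : EA A) : D.relIndex A ≤ 4 := by
  have : Fact (Nat.Prime 2) := ⟨Nat.prime_two⟩
  have hsq : ∀ a ∈ A, a * a = 1 := fun a ha => by rw [← pow_two]; exact hE.2 a ha
  obtain ⟨n, e, hn⟩ := two_pow h hA (isPGroup_of_sq hsq)
  rw [e]
  refine le_of_not_dvd (k := 2) (dvd_refl _) fun h8 => ?_
  have := (PjB.card h).1
  obtain ⟨B, hB, e'⟩ := PjB.im h A hA
  have hsq' : ∀ b ∈ B, b * b = 1 := fun b hb => by
    obtain ⟨a, ha, rfl⟩ := (hB b).1 hb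
    rw [← h.mul a (hA ha) a (hA ha), hsq a ha, (PjB.one h).1]
  obtain ⟨s, hs, -, h2⟩ := four (B := B) ⟨le_top, isPGroup_of_sq hsq', fun h2 => h16 (by
    rw [relIndex_top_right] at h2
    rw [← B.card_mul_index, e', e]
    exact Nat.mul_dvd_mul h8 h2)⟩ (h4.resolve_left fun k => k (h8.trans hn))
  exact h2 (hsq' s hs)

theorem ex [PjB.{u, 0}] (hP : Le8 G) (h : Pj N D π) {p : ℕ} (hp : p = 5 ∨ p = 7)
    (hd : p ∣ Nat.card X) : ∃ σ ∈ N, orderOf σ = p := by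
  have : Fact p.Prime := ⟨by rcases hp with rfl | rfl <;> decide⟩
  have := (PjB.card h).1
  obtain ⟨r, hr⟩ := exists_prime_orderOf_dvd_card' p hd
  obtain ⟨σ, hσ, rfl⟩ := h.sur r
  exact ⟨σ, hσ, (PjB.o57 hP h σ hσ (by rwa [hr])).1.trans hr⟩

theorem inv [PjB.{u, 0}] (h : Pj N D π) {v : G} (hv : v ∈ N) (h1 : v * v = 1)
    (hr : ∃ r : X, orderOf r = 5 ∧ π v * r * (π v)⁻¹ = r⁻¹) : Inv5 N v := by
  obtain ⟨r, h5, e⟩ := hr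
  obtain ⟨a, ha, -, h2, h3⟩ := PjB.inv h v hv h1 r (by rw [h5]; decide) e
  exact ⟨a, ha, h2.trans h5, h3⟩

theorem five [PjB.{u, 0}] (h : Pj N D π)
    (hX : ∀ g : X, g * g = 1 → g ≠ 1 → ∃ r : X, orderOf r = 5 ∧ g * r * g⁻¹ = r⁻¹) : Five N D :=
  fun _ hT v hv h0 h1 _ => inv h (hT.le hv) h1 (hX _
    (by rw [← h.mul v (hT.le hv) v (hT.le hv), h1, (PjB.one h).1]) fun e => h0 ((h.ker v (hT.le hv)).1 e))

end TyNH

open TyNH in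
theorem pf_TyN [PjB.{u, 0}] [E73.{u}] : TyN.{u} := ⟨by
  intro G _ _ hP N D hT
  have : Fact (Nat.Prime 2) := ⟨Nat.prime_two⟩
  have k : ∀ {X : Type} [Group X] {π : G → X}, Ty N D π → ¬ 16 ∣ Nat.card X →
      (¬ 8 ∣ Nat.card X ∨ ∃ g : X, g ^ 4 = 1 ∧ g * g ≠ 1) →
      Lr N ∧ ∀ T : Subgroup G, IsSylowIn 2 T N → D.relIndex T ≤ 8 := fun h h16 h4 =>
    ⟨fun A hA hE => h.eq ▸ le4 h.toPj h16 h4 hA hE, fun T hT => le8 h.toPj h16 hT.le hT.isPGroup⟩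
  rw [← and_assoc]
  rcases hT with ⟨π, h⟩ | ⟨π, h, -⟩ | ⟨π, h⟩ | ⟨π, h⟩
  · exact ⟨k h (by rw [card_A5]; decide) (.inl (by rw [card_A5]; decide)),
      .inl ⟨five h.toPj invA5, ex hP h.toPj (.inl rfl) (by rw [card_A5]; decide)⟩⟩
  · refine ⟨k h (by rw [card_S5]; decide) (.inr four_S5),
      .inl ⟨fun T hT v hv h0 h1 h2 => inv h.toPj (hT.le hv) h1 ?_,
        ex hP h.toPj (.inl rfl) (by rw [card_S5]; decide)⟩⟩
    have : Fact (Nat.Prime 5) := ⟨by decide⟩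
    rcases inv5 (π v) (by rw [← h.mul v (hT.le hv) v (hT.le hv), h1, (PjB.one h.toPj).1])
      (fun e => h0 ((h.ker v (hT.le hv)).1 e)) with ⟨r, -, e⟩ | ⟨-, e⟩
    · exact ⟨r, orderOf_eq_prime e.2.1 e.2.2, e.1⟩
    obtain ⟨-, S, hS⟩ := PjB.syl h.toPj T hT
    obtain ⟨s, hs, a1, a2⟩ := four (isSylowIn_top S) four_S5
    obtain ⟨t, ht, rfl⟩ := (hS s).1 hs
    refine absurd (e _ (commutatorElement_eq_one_iff_mul_comm.1 ?_) a1) a2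
    rw [← pc h.toPj (hT.le hv) (hT.le ht)]
    exact (h.ker _ (h.le (h2 t ht))).2 (h2 t ht)
  · exact ⟨k h (by rw [card_A6]; decide) (.inr four_A6),
      .inl ⟨five h.toPj invA6, ex hP h.toPj (.inl rfl) (by rw [card_A6]; decide)⟩⟩
  have hc := E73.l32.{u}.2.1
  refine ⟨k h (by rw [hc]; decide) (.inr four_L32),
    .inr ⟨fun v hv h0 h1 => ?_, ex hP h.toPj (.inr rfl) (by rw [hc]; decide)⟩⟩
  have h2 : π v * π v = 1 := by rw [← h.mul v hv v hv, h.ker _ (mul_mem hv hv)]; exact h1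
  obtain ⟨a, b, e1, e2, e3⟩ := sev (π v) h2 fun e => h0 ((h.ker v hv).1 e)
  obtain ⟨a, ha, rfl⟩ := h.sur a
  obtain ⟨b, hb, rfl⟩ := h.sur b
  have ha' : a * v * a⁻¹ ∈ N := mul_mem (mul_mem ha hv) (inv_mem ha)
  have hb' : b * v * b⁻¹ ∈ N := mul_mem (mul_mem hb hv) (inv_mem hb)
  have e4 := dih h2 (by rw [conj_mul, h2, mul_one, mul_inv_cancel]) e2
  rw [← pj h.toPj ha hv] at e1 e3 e4
  rw [← pj h.toPj hb hv, ← h.mul _ hv _ ha', ← h.mul _ (mul_mem hv ha') _ hb'] at e1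
  refine ⟨⟨a, ha, b, hb, _, mul_mem (mul_mem (subset_closure (by simp)) (subset_closure (by simp)))
    (subset_closure (by simp)), (PjB.o57 hP h.toPj _ (mul_mem (mul_mem hv ha') hb') (.inr e1)).1.trans e1⟩,
    a, ha, ?_, fun e => e3 (by rw [← pc h.toPj hv ha']; exact (h.ker _ (h.le e)).2 e)⟩
  obtain ⟨A, hA, h3, -, h4, -⟩ := PjB.pre h.toPj (zpowers (π v) ⊔ zpowers (π v * π (a * v * a⁻¹)))
  refine (h4 e4).to_le (sup_le h3 ((closure_le _).2 ?_))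
  rintro _ (rfl | rfl)
  · exact (hA _).2 ⟨hv, mem_sup_left (mem_zpowers _)⟩
  · exact (hA _).2 ⟨ha', (mul_mem_cancel_left (mem_sup_left (mem_zpowers _))).1
      (mem_sup_right (mem_zpowers _))⟩⟩

end Cfsg.Lib.P8
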