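import Cfsg.Agent.P8.Brg

/-!
# Groups with element orders at most 8: the natural `A₆`-module in `Ω₁Z(Q)`
-/

set_option autoImplicit false

namespace Cfsg.Lib.P8

open Subgroup Cfsg.Lib.Trans Cfsg.Lib.Gold

universe u

namespace WS16aH

abbrev V4 : Type := Fin 4 → ZMod 2

def b : Fin 6 → V4 := ![0, ![1, 0, 0, 0], ![0, 1, 0, 0], ![0, 0, 1, 0], ![0, 0, 0, 1], ![1, 1, 1, 1]]

theorem b_all : ∀ x : V4, x ≠ 0 → ∃ i j, i ≠ j ∧ x = b i + b j := by decide +kernel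

theorem b_inj : ∀ i j k l, i ≠ j → b i + b j = b k + b l → (i = k ∧ j = l) ∨ (i = l ∧ j = k) := by decide +kernel

theorem two_tr : ∀ i j : Fin 6, i ≠ j → ∃ g : Equiv.Perm (Fin 6), g 4 = i ∧ g 5 = j ∧ Equiv.Perm.sign g = 1 := by
  decide +kernel

theorem vsm {M : Type u} [AddCommGroup M] (h : ∀ m : M, m + m = 0) (m : M) (s t : ZMod 2) :
    (s + t).val • m = s.val • m + t.val • m := by
  have : ∀ s : ZMod 2, s = 0 ∨ s = 1 := by decide
  rcases this s with rfl | rfl <;> rcases this t with rfl | rfl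
  · simp
  · simp
  · simp
  · rw [show ((1 : ZMod 2) + 1).val = 0 from rfl, show (1 : ZMod 2).val = 1 from rfl, zero_smul, one_smul, h]

theorem core [PjB.{u, 0}] [Brg.{u, 0}] [M3b.{u}] {G : Type u} [Group G] [Finite G] (hP : Le8 G) {H Q : Subgroup G}
    {π : G → A6} (hT : Ty H Q π) {a : G} (ha : a ∈ Om Q) (ha1 : a ≠ 1)
    (hf : ∀ h ∈ H, ((π h : Equiv.Perm (Fin 6)) 4).val / 2 = 2 → ((π h : Equiv.Perm (Fin 6)) 5).val / 2 = 2 →
      h * a * h⁻¹ = a) :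
    ∃ (W : Subgroup G) (π' : G → A6) (e : Fin 6 → Fin 6 → G), W ≤ Om Q ∧ H ≤ Ns W ∧ Ty H Q π' ∧ Crd6 H W π' e ∧
      Nat.card W = 16 ∧ (∀ w ∈ W, w ≠ 1 → ∃ i j, i ≠ j ∧ w = e i j) ∧
      ∀ i j k l, i ≠ j → e i j = e k l → (i = k ∧ j = l) ∨ (i = l ∧ j = k) := by
  have hj := hT.toPj
  have hn : H ≤ Ns Q := (PjB.one hj).2.2.2.1
  have hok := Brg.om.{u, 0} hn
  obtain ⟨M, _, _, _, p, hM, hS⟩ := Brg.sec.{u, 0} hP hj hok
  have hinj : ∀ a ∈ Om Q, ∀ b ∈ Om Q, p a = p b → a = b := fun a ha b hb h =>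
    inv_mul_eq_one.1 (mem_bot.1 ((BrgH.p_eq hS.add hS.zero ha hb).1 h))
  obtain ⟨c, c1, c2, c3, c4, c5⟩ := M3b.out hM (p a) fun g h4 h5 => by
    obtain ⟨h, hh, rfl⟩ := hj.sur g
    rw [← hS.eqv h hh a ha, hf h hh h4 h5]
  have hne : ∀ i j, i ≠ j → c i j ≠ 0 := fun i j hij h0 => by
    obtain ⟨g, g4, g5, hg⟩ := two_tr i j hij
    have := c5 ⟨g, Equiv.Perm.mem_alternatingGroup.2 hg⟩ 4 5
    rw [c1, g4, g5, h0, smul_eq_zero_iff_eq] at this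
    exact ha1 (mem_bot.1 ((hS.zero a ha).1 this))
  let F : V4 → M := fun x => (x 0).val • c 0 1 + (x 1).val • c 0 2 + (x 2).val • c 0 3 + (x 3).val • c 0 4
  have Fa : ∀ x y, F (x + y) = F x + F y := fun x y => by
    simp only [F, Pi.add_apply, vsm hM.two]; abel
  have v1 : (1 : ZMod 2).val = 1 := rfl
  have Fb : ∀ i, F (b i) = c 0 i := fun i => by
    fin_cases i <;> simp [F, b, v1, c2]
    linear_combination (norm := abel1) c4 - c3 0 2 3 + c3 0 4 5 - hM.two (c 4 5) + hM.two (c 0 2)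
  have Fc : ∀ i j, F (b i + b j) = c i j := fun i j => by
    rw [Fa, Fb, Fb, ← c3 0 i j, ← add_assoc, hM.two, zero_add]
  choose E hE hpE using fun x => hS.sur (F x)
  let φ : Multiplicative V4 →* G := MonoidHom.mk' (fun x => E x.toAdd) fun x y =>
    hinj _ (hE _) _ (mul_mem (hE _) (hE _)) (by rw [hS.add _ (hE _) _ (hE _), hpE, hpE, hpE, toAdd_mul, Fa])
  have E0 : E 0 = 1 := φ.map_one
  have Em : ∀ x y, E (x + y) = E x * E y := fun x y => φ.map_mul (.ofAdd x) (.ofAdd y)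
  have hφ : Function.Injective φ := by
    rw [injective_iff_map_eq_one]
    intro x hx
    by_contra h0
    obtain ⟨i, j, hij, e⟩ := b_all x.toAdd h0
    refine hne i j hij ?_
    rw [← Fc, ← e, ← hpE, show E x.toAdd = 1 from hx, BrgH.p_one hS.add]
  have Ei : ∀ x y, E x = E y → x = y := fun x y h => hφ (a₁ := .ofAdd x) (a₂ := .ofAdd y) h
  have eqv : ∀ h ∈ H, ∀ i j, h * E (b i + b j) * h⁻¹ =
      E (b ((π h : Equiv.Perm (Fin 6)) i) + b ((π h : Equiv.Perm (Fin 6)) j)) := fun h hh i j =>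
    hinj _ (mem_normalizer_conj (hok.n2 hh) (hE _)) _ (hE _) (by rw [hS.eqv h hh _ (hE _), hpE, hpE, Fc, Fc, c5])
  have hall : ∀ w ∈ φ.range, ∃ i j, w = E (b i + b j) ∧ (w ≠ 1 → i ≠ j) := by
    rintro _ ⟨x, rfl⟩
    by_cases h0 : x.toAdd = 0
    · have : φ x = 1 := by rw [← E0, ← h0]; rfl
      exact ⟨0, 0, by rw [this, ← E0]; rfl, fun h => absurd this h⟩
    · obtain ⟨i, j, hij, e⟩ := b_all x.toAdd h0
      exact ⟨i, j, by rw [← e]; rfl, fun _ => hij⟩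
  refine ⟨φ.range, π, fun i j => E (b i + b j), ?_, fun h hh => mem_normalizer_of_cj_le (cj_le_iff.2 fun w hw => ?_), hT,
    ⟨fun i j k => ?_, fun i => ?_, ?_, fun h => ?_, eqv, le_antisymm (fun w hw => ?_) ((closure_le _).2 ?_)⟩, ?_,
    fun w hw h1 => ?_, fun i j k l hij h => b_inj i j k l hij (Ei _ _ h)⟩
  · rintro _ ⟨x, rfl⟩; exact hE _
  · obtain ⟨i, j, rfl, -⟩ := hall w hw
    rw [eqv h hh]
    exact ⟨.ofAdd _, rfl⟩
  · rw [← Em]; congr 1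
    revert i j k; decide +kernel
  · rw [← E0]; congr 1
    revert i; decide +kernel
  · rw [← Em, ← Em, ← E0]; congr 1
    decide +kernel
  · exact absurd (Ei _ _ (h.trans E0.symm)) (by decide +kernel)
  · obtain ⟨i, j, rfl, -⟩ := hall w hw
    exact subset_closure ⟨i, j, rfl⟩
  · rintro _ ⟨i, j, rfl⟩
    exact ⟨.ofAdd _, rfl⟩
  · rw [← Nat.card_congr (MonoidHom.ofInjective hφ).toEquiv]
    simp [V4]
  · obtain ⟨i, j, e, h2⟩ := hall w hw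
    exact ⟨i, j, h2 h1, e⟩

end WS16aH

theorem pf_WS16a [BasJ.{u}] [PjB.{u, 0}] [Brg.{u, 0}] [M3a.{u}] [M3b.{u}] : WS16a.{u} := by
  refine ⟨fun {G} _ _ hP {H Q π} hT => ?_⟩
  have hj := hT.toPj
  have hn : H ≤ Ns Q := (PjB.one hj).2.2.2.1
  have hok := Brg.om.{u, 0} hn
  obtain ⟨M, _, _, _, p, hM, hS⟩ := Brg.sec.{u, 0} hP hj hok
  have hinj : ∀ a ∈ Om Q, ∀ b ∈ Om Q, p a = p b → a = b := fun a ha b hb h =>
    inv_mul_eq_one.1 (mem_bot.1 ((BrgH.p_eq hS.add hS.zero ha hb).1 h))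
  obtain ⟨z, hz, hz1⟩ := ((Om Q).bot_or_exists_ne_one).resolve_left (BasJ.ne hj.two hT.ne).2
  obtain ⟨m, hm, h⟩ := M3a.out hM ⟨p z, 0, fun h => hz1 (mem_bot.1 ((hS.zero z hz).1 h))⟩
  obtain ⟨a, ha, rfl⟩ := hS.sur m
  have ha1 : a ≠ 1 := fun h => hm (by rw [h, BrgH.p_one hS.add])
  have hfx : ∀ g ∈ H, π g • p a = p a → g * a * g⁻¹ = a := fun g hg e =>
    hinj _ (mem_normalizer_conj (hok.n2 hg) ha) _ ha (by rw [hS.eqv g hg a ha, e])
  rcases h with h | h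
  · exact WS16aH.core hP hT ha ha1 fun g hg h4 h5 => hfx g hg (h _ h4 h5)
  · obtain ⟨α, hα⟩ := M3b.aut.{u}
    refine WS16aH.core hP ((PjB.equiv α.symm).2 hT) ha ha1 fun g hg h4 h5 => hfx g hg (h _ ?_)
    have := hα _ h4 h5
    rwa [MulEquiv.apply_symm_apply] at this

end Cfsg.Lib.P8
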