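import Cfsg.Agent.P8.WSc

/-!
# Groups with element orders at most 8: the natural module of `A₆`
-/

set_option autoImplicit false
set_option maxRecDepth 100000

namespace Cfsg.Lib.P8

open Subgroup Cfsg.Lib.Trans Cfsg.Lib.Gold
open scoped commutatorElement

universe u

namespace WS16bH

/-- `g` fixes the duad `{i, j}`. -/
abbrev fd (g : A6) (i j : Fin 6) : Prop := (g.1 i = i ∧ g.1 j = j) ∨ (g.1 i = j ∧ g.1 j = i)

/-- The stabiliser of the duad `{4, 5}`. -/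
def SS : Subgroup A6 where
  carrier := {g | fd g 4 5}
  one_mem' := .inl ⟨rfl, rfl⟩
  mul_mem' {a b} ha hb := by
    rcases ha with ⟨h1, h2⟩ | ⟨h1, h2⟩ <;> rcases hb with ⟨h3, h4⟩ | ⟨h3, h4⟩ <;>
      simp [fd, h1, h2, h3, h4]
  inv_mem' {a} ha := by
    rcases ha with ⟨h1, h2⟩ | ⟨h1, h2⟩
    · exact .inl ⟨Equiv.Perm.inv_eq_iff_eq.2 h1.symm, Equiv.Perm.inv_eq_iff_eq.2 h2.symm⟩
    · exact .inr ⟨Equiv.Perm.inv_eq_iff_eq.2 h2.symm, Equiv.Perm.inv_eq_iff_eq.2 h1.symm⟩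

/-- Three involutions. -/
def v1 : A6 :=
  ⟨Equiv.swap 0 1 * Equiv.swap 2 3, Equiv.Perm.mem_alternatingGroup.2 (by decide)⟩
def v2 : A6 :=
  ⟨Equiv.swap 0 2 * Equiv.swap 1 3, Equiv.Perm.mem_alternatingGroup.2 (by decide)⟩
def v3 : A6 :=
  ⟨Equiv.swap 0 3 * Equiv.swap 1 2, Equiv.Perm.mem_alternatingGroup.2 (by decide)⟩

/-- The four-group on `{0, 1, 2, 3}`. -/
def VV : Subgroup A6 where
  carrier := {g | g = 1 ∨ g = v1 ∨ g = v2 ∨ g = v3}
  one_mem' := .inl rfl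
  mul_mem' {a b} ha hb := by
    rw [Set.mem_ofPred_eq]
    rcases ha with rfl | rfl | rfl | rfl <;> rcases hb with rfl | rfl | rfl | rfl <;> decide
  inv_mem' {a} ha := by
    rw [Set.mem_ofPred_eq]
    rcases ha with rfl | rfl | rfl | rfl <;> decide

/-- An element of order 3. -/
def x0 : A6 :=
  ⟨Equiv.swap 0 1 * Equiv.swap 1 2, Equiv.Perm.mem_alternatingGroup.2 (by decide)⟩

/-- An element of order 4. -/
def g0 : A6 :=
  ⟨Equiv.swap 0 1 * Equiv.swap 1 2 * Equiv.swap 2 3 * Equiv.swap 4 5, Equiv.Perm.mem_alternatingGroup.2 (by decide)⟩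

theorem nor0 : ∀ s : A6, fd s 4 5 → ∀ v ∈ [1, v1, v2, v3],
    s * v * s⁻¹ = 1 ∨ s * v * s⁻¹ = v1 ∨ s * v * s⁻¹ = v2 ∨ s * v * s⁻¹ = v3 := by decide +kernel

theorem sd : WSc.SD SS VV x0 where
  le g h := by
    change fd g 4 5
    rcases h with rfl | rfl | rfl | rfl <;> decide
  cV := by
    change Nat.card {g : A6 // g = 1 ∨ g = v1 ∨ g = v2 ∨ g = v3} = 4
    rw [Nat.card_eq_fintype_card]
    decide +kernel
  cS := by
    change Nat.card {g : A6 // fd g 4 5} = 24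
    rw [Nat.card_eq_fintype_card]
    decide +kernel
  nor s hs v hv := nor0 s hs v (by rcases hv with rfl | rfl | rfl | rfl <;> simp)
  sq g h := by rcases h with rfl | rfl | rfl | rfl <;> decide
  xS := by
    change fd x0 4 5
    decide
  ox := orderOf_eq_prime (by decide) (by decide)
  out := by
    change ∀ n : A6, fd n 4 5 → ¬ (n = 1 ∨ n = v1 ∨ n = v2 ∨ n = v3) → _
    decide +kernel
  gen g h := by
    rcases h with rfl | rfl | rfl | rfl
    · exact ⟨1, .inl rfl, by decide⟩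
    · exact ⟨v3, .inr (.inr (.inr rfl)), by decide⟩
    · exact ⟨v1, .inr (.inl rfl), by decide⟩
    · exact ⟨v2, .inr (.inr (.inl rfl)), by decide⟩

theorem cq0 : ∀ g : A6, (∀ i j, i ≠ j → fd g i j) → g = 1 := by decide +kernel

theorem tr : ∀ i j : Fin 6, i ≠ j → ∃ g : A6, g.1 4 = i ∧ g.1 5 = j := by decide +kernel

theorem inv4 : ∀ g : A6, g ≠ 1 → g * g = 1 →
    Fintype.card {p : Fin 6 × Fin 6 // p.1 < p.2 ∧ fd g p.1 p.2} = 3 := by decide +kernel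

theorem inv5 : ∀ g : A6, g ≠ 1 → g * g = 1 → ∃ s : A6, s ^ 5 = 1 ∧ s ≠ 1 ∧ g * s * g⁻¹ = s⁻¹ := by
  decide +kernel

theorem fix : ∀ i j : Fin 6, i ≠ j → fd v1 i j → fd v2 i j → (i = 4 ∧ j = 5) ∨ (i = 5 ∧ j = 4) := by
  decide

end WS16bH

open WS16bH

theorem pf_WS16b [PjB.{u, 0}] [BasJ.{u}] : WS16b.{u} := ⟨by
  intro G _ _ h8 H Q W π e hT le nor k c16 all uq
  have hP := hT.toPj
  have ea := (BasJ.leT Q).2.2.2.2.1
  have ea2 : ∀ a ∈ W, a * a = 1 := fun a ha => by rw [← pow_two, ea.2 a (le ha)]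
  have eW : ∀ i j, e i j ∈ W := fun i j => k.gen ▸ subset_closure ⟨i, j, rfl⟩
  have sy : ∀ i j, e i j = e j i := fun i j => by
    rw [eq_inv_of_mul_eq_one_left ((k.tri i j i).trans (k.dia i)), inv_eq_of_sq (ea2 _ (eW j i))]
  have ne : ∀ i j, i ≠ j → e i j ≠ 1 := fun i j h e1 => by
    rcases uq i j i i h (e1.trans (k.dia i).symm) with h1 | h1
    · exact h h1.2.symm
    · exact h h1.2.symm
  have cm : ∀ h ∈ H, ∀ i j, i ≠ j → (h * e i j = e i j * h ↔ fd (π h) i j) := fun h hh i j hij => by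
    rw [← mul_inv_eq_iff_eq_mul, k.eqv h hh]
    refine ⟨fun e1 => (uq i j _ _ hij e1.symm).imp (fun h => ⟨h.1.symm, h.2.symm⟩)
      fun h => ⟨h.2.symm, h.1.symm⟩, fun h => ?_⟩
    rcases h with ⟨h1, h2⟩ | ⟨h1, h2⟩ <;> rw [h1, h2]
    exact sy j i
  refine WSc.ws hT le nor (fun h hh hc => ?_) (w := e 4 5) (fun a ha a1 => ?_)
    (fun j hj j1 j2 => ?_) (fun h hh => cm h hh 4 5 (by decide)) sd (fun a ha hf => ?_)
    (fun h => by omega) (m := 45) (by rw [nat_card_alternatingGroup, Nat.card_eq_fintype_card]; decide) (by decide)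
    (g := g0) (by decide) (by decide) (.inl ⟨c16, fun j hj jQ j2 => ?_⟩)
  · exact cq0 _ fun i j hij => (cm h hh i j hij).1 (mem_Cs.1 hc _ (eW i j)).symm
  · obtain ⟨i, j, hij, rfl⟩ := all a ha a1
    obtain ⟨g, e1, e2⟩ := tr i j hij
    obtain ⟨h, hh, rfl⟩ := hP.sur g
    exact ⟨h, hh, by rw [k.eqv h hh, e1, e2]⟩
  · have h3 := inv4 _ j1 j2
    rw [← Nat.card_eq_fintype_card] at h3
    rw [← Nat.card_congr (Equiv.ofBijective
      (fun o : Option {p : Fin 6 × Fin 6 // p.1 < p.2 ∧ fd (π j) p.1 p.2} =>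
        (o.elim 1 fun p => ⟨e p.1.1 p.1.2, eW _ _,
          mem_C1.2 ((cm j hj _ _ p.2.1.ne).2 p.2.2).symm⟩ : ↥(W ⊓ C1 j))) ⟨?_, ?_⟩),
      Finite.card_option, h3]
    · rintro (_ | p) (_ | q) h
      · rfl
      · exact absurd (congrArg Subtype.val h).symm (ne _ _ q.2.1.ne)
      · exact absurd (congrArg Subtype.val h) (ne _ _ p.2.1.ne)
      · rcases uq _ _ _ _ p.2.1.ne (congrArg Subtype.val h) with h1 | h1
        · exact congrArg some (Subtype.ext (Prod.ext h1.1 h1.2))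
        · exact absurd (h1.1 ▸ h1.2 ▸ p.2.1) q.2.1.le.not_gt
    · rintro ⟨a, ha, hc⟩
      by_cases a1 : a = 1
      · exact ⟨none, Subtype.ext a1.symm⟩
      · obtain ⟨i, l, hil, rfl⟩ := all a ha a1
        rcases lt_or_gt_of_ne hil with h | h
        · exact ⟨some ⟨(i, l), h, (cm j hj i l hil).1 (mem_C1.1 hc).symm⟩, rfl⟩
        · exact ⟨some ⟨(l, i), h, (cm j hj l i hil.symm).1 (sy i l ▸ (mem_C1.1 hc).symm)⟩,
            Subtype.ext (sy l i)⟩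
  · refine or_iff_not_imp_left.2 fun a1 => ?_
    obtain ⟨i, j, hij, rfl⟩ := all a ha a1
    obtain ⟨h1, hh1, e1⟩ := hP.sur v1
    obtain ⟨h2, hh2, e2⟩ := hP.sur v2
    rcases fix i j hij (e1 ▸ (cm h1 hh1 i j hij).1 (hf h1 hh1 (e1 ▸ .inr (.inl rfl))))
      (e2 ▸ (cm h2 hh2 i j hij).1 (hf h2 hh2 (e2 ▸ .inr (.inr (.inl rfl))))) with h | h
    · rw [h.1, h.2]
    · rw [h.1, h.2, sy]
  · obtain ⟨s, s5, s1, es⟩ := inv5 (π j) (fun e => jQ ((hP.ker j hj).1 e))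
      (by rw [← hP.mul j hj j hj, j2, (PjB.one hP).1])
    have os : orderOf s = 5 := by
      have : Fact (Nat.Prime 5) := ⟨by norm_num⟩
      exact orderOf_eq_prime s5 s1
    obtain ⟨a, ha, -, oa, ia⟩ := PjB.inv hP j hj j2 s (by rw [os]; decide) es
    exact ⟨a, ha, oa.trans os, ia⟩⟩

end Cfsg.Lib.P8
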