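import Cfsg.Agent.P8.WSc

/-!
# Groups with element orders at most 8: the natural module of `L₃(2)`
-/

set_option autoImplicit false
set_option maxRecDepth 100000

namespace Cfsg.Lib.P8

open Subgroup Cfsg.Lib.Trans Cfsg.Lib.Gold
open scoped commutatorElement

universe u

namespace WS8bH

/-- The action on vectors. -/
abbrev ac (g : L32) (v : V3) : V3 := (g : Matrix (Fin 3) (Fin 3) (ZMod 2)).mulVec v

theorem ac_mul (g h : L32) (v : V3) : ac (g * h) v = ac g (ac h v) := by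
  simp [ac, Matrix.mulVec_mulVec]

/-- The stabiliser of the first basis vector. -/
def SS : Subgroup L32 where
  carrier := {g | ac g ![1, 0, 0] = ![1, 0, 0]}
  one_mem' := by simp [ac]
  mul_mem' {a b} ha hb := by rw [Set.mem_ofPred_eq, ac_mul, hb, ha]
  inv_mem' {a} ha := by
    rw [Set.mem_ofPred_eq] at ha ⊢
    conv_lhs => rw [← ha, ← ac_mul, inv_mul_cancel]
    simp [ac]

theorem sq0 : ∀ g : L32, (ac g ![1, 0, 0] = ![1, 0, 0] ∧ ∀ v, ac g v = v ∨ ac g v = v + ![1, 0, 0]) →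
    g * g = 1 := by decide +kernel

/-- The transvections with centre the first basis vector. -/
def VV : Subgroup L32 where
  carrier := {g | ac g ![1, 0, 0] = ![1, 0, 0] ∧ ∀ v, ac g v = v ∨ ac g v = v + ![1, 0, 0]}
  one_mem' := by simp [ac]
  mul_mem' {a b} ha hb := ⟨by rw [ac_mul, hb.1, ha.1], fun v => by
    have e : ∀ v : V3, v + ![1, 0, 0] + ![1, 0, 0] = v := by decide
    rw [ac_mul]
    rcases hb.2 v with h | h <;> rw [h]
    · exact ha.2 v
    · rcases ha.2 (v + ![1, 0, 0]) with h | h <;> rw [h]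
      · exact .inr rfl
      · exact .inl (e v)⟩
  inv_mem' {a} ha := by rwa [inv_eq_of_sq (sq0 a ha)]

/-- An element of order 3. -/
def x0 : L32 := ⟨!![1, 0, 0; 0, 0, 1; 0, 1, 1], by decide⟩

/-- An element of order 4. -/
def g0 : L32 := ⟨!![1, 1, 0; 0, 1, 1; 0, 0, 1], by decide⟩

theorem sd : WSc.SD SS VV x0 where
  le _ h := h.1
  cV := by
    change Nat.card {g : L32 // ac g ![1, 0, 0] = ![1, 0, 0] ∧
      ∀ v, ac g v = v ∨ ac g v = v + ![1, 0, 0]} = 4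
    rw [Nat.card_eq_fintype_card]
    decide +kernel
  cS := by
    change Nat.card {g : L32 // ac g ![1, 0, 0] = ![1, 0, 0]} = 24
    rw [Nat.card_eq_fintype_card]
    decide +kernel
  nor s hs v hv := ⟨SS.mul_mem (SS.mul_mem hs hv.1) (SS.inv_mem hs), fun y => by
    have e : ac s (ac s⁻¹ y) = y := by rw [← ac_mul, mul_inv_cancel]; simp [ac]
    rw [ac_mul, ac_mul]
    rcases hv.2 (ac s⁻¹ y) with h | h <;> rw [h]
    · exact .inl e
    · exact .inr (by rw [ac, Matrix.mulVec_add]; exact congrArg₂ _ e hs)⟩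
  sq := sq0
  xS := by
    change ac x0 ![1, 0, 0] = ![1, 0, 0]
    decide
  ox := orderOf_eq_prime (by decide) (by decide)
  out := by
    change ∀ n : L32, ac n ![1, 0, 0] = ![1, 0, 0] → ¬ (ac n ![1, 0, 0] = ![1, 0, 0] ∧
      ∀ v, ac n v = v ∨ ac n v = v + ![1, 0, 0]) → _
    decide +kernel
  gen := by
    change ∀ n : L32, (ac n ![1, 0, 0] = ![1, 0, 0] ∧ ∀ v, ac n v = v ∨ ac n v = v + ![1, 0, 0]) →
      ∃ m : L32, (ac m ![1, 0, 0] = ![1, 0, 0] ∧ ∀ v, ac m v = v ∨ ac m v = v + ![1, 0, 0]) ∧ _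
    decide +kernel

theorem inv4 : ∀ g : L32, g ≠ 1 → g * g = 1 → Fintype.card {v : V3 // ac g v = v} = 4 := by
  decide +kernel

theorem tr : ∀ v : V3, v ≠ 0 → ∃ g : L32, ac g ![1, 0, 0] = v := by decide +kernel

theorem fix : ∀ y : V3, (∀ g : L32, (ac g ![1, 0, 0] = ![1, 0, 0] ∧
    ∀ v, ac g v = v ∨ ac g v = v + ![1, 0, 0]) → ac g y = y) → y = 0 ∨ y = ![1, 0, 0] := by
  decide +kernel

end WS8bH

open WS8bH

theorem pf_WS8b [PjB.{u, 0}] [BasJ.{u}] [E73.{u}] : WS8b.{u} := ⟨by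
  intro G _ _ h8 H Q W π c hT le nor k
  have hP := hT.toPj
  have ea := (BasJ.leT Q).2.2.2.2.1
  have ea2 : ∀ a ∈ W, a * a = 1 := fun a ha => by rw [← pow_two, ea.2 a (le ha)]
  have inj : ∀ a ∈ W, ∀ b ∈ W, c a = c b → a = b := fun a ha b hb e => by
    have e2 : ∀ v : V3, v + v = 0 := by decide
    have := (k.zero _ (mul_mem ha hb)).1 (by rw [k.add a ha b hb, e, e2])
    rw [eq_inv_of_mul_eq_one_left this, inv_eq_of_sq (ea2 b hb)]
  have cm : ∀ h ∈ H, ∀ a ∈ W, h * a = a * h ↔ ac (π h) (c a) = c a := fun h hh a ha => by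
    rw [ac, ← k.eqv h hh a ha, ← mul_inv_eq_iff_eq_mul]
    exact ⟨fun e => by rw [e], inj _ (mem_normalizer_conj (nor hh) ha) _ ha⟩
  have c8 : Nat.card W = 8 := by
    rw [Nat.card_congr (Equiv.ofBijective (fun a : W => c a)
      ⟨fun a b e => Subtype.ext (inj _ a.2 _ b.2 e), fun v =>
        let ⟨a, ha, e⟩ := k.sur v; ⟨⟨a, ha⟩, e⟩⟩), Nat.card_eq_fintype_card]
    rfl
  obtain ⟨w, hw, ew⟩ := k.sur ![1, 0, 0]
  obtain ⟨sim, c168, σ, -, hσ, -⟩ := E73.l32.{u}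
  refine ⟨WSc.ws hT le nor (fun h hh hc => ?_) (w := w) (fun a ha a1 => ?_) (fun j hj j1 j2 => ?_)
    (fun h hh => by rw [cm h hh w hw, ew]; rfl) sd (fun a ha hf => ?_) (fun _ a ha h hh hv => ?_)
    (m := 21) c168 (by decide) (g := g0) (by decide) (by decide) (.inr ⟨c8, ?_, ?_⟩), c8⟩
  · refine Subtype.ext (Matrix.ext_iff_mulVec.2 fun v => ?_)
    obtain ⟨a, ha, rfl⟩ := k.sur v
    rw [show (π h).1.mulVec (c a) = c a from (cm h hh a ha).1 (mem_Cs.1 hc a ha).symm]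
    simp
  · obtain ⟨g, e⟩ := tr (c a) fun e => a1 ((k.zero a ha).1 e)
    obtain ⟨h, hh, rfl⟩ := hP.sur g
    exact ⟨h, hh, inj _ (mem_normalizer_conj (nor hh) hw) _ ha (by rw [k.eqv h hh w hw, ew, ← e])⟩
  · rw [← inv4 _ j1 j2, ← Nat.card_eq_fintype_card]
    refine Nat.card_congr (Equiv.ofBijective (fun a => ⟨c a, (cm j hj a a.2.1).1
      (mem_C1.1 a.2.2).symm⟩) ⟨fun a b e => Subtype.ext (inj _ a.2.1 _ b.2.1
        (congrArg Subtype.val e)), fun v => ?_⟩)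
    obtain ⟨a, ha, e⟩ := k.sur v
    exact ⟨⟨a, ha, mem_C1.2 ((cm j hj a ha).2 (by rw [e]; exact v.2)).symm⟩, Subtype.ext e⟩
  · refine (fix (c a) fun g hg => ?_).imp (k.zero a ha).1 fun e => inj a ha w hw (e.trans ew.symm)
    obtain ⟨h, hh, rfl⟩ := hP.sur g
    exact (cm h hh a ha).1 (hf h hh hg)
  · have h1 := mem_normalizer_conj (nor hh) ha
    rw [commutatorElement_def, inv_eq_of_sq (ea2 a ha), mul_assoc, mul_assoc, ← mul_assoc h]
    rcases hv.2 (c a) with e | e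
    · rw [inj _ h1 a ha ((k.eqv h hh a ha).trans e), ea2 a ha]
      exact one_mem _
    · rw [inj _ h1 _ (mul_mem ha hw) (by rw [k.eqv h hh a ha, k.add a ha w hw, ew]; exact e),
        ← mul_assoc, ea2 a ha, one_mul]
      exact mem_zpowers w
  · obtain ⟨a, ha, rfl⟩ := hP.sur σ
    obtain ⟨b, hb, -, ob⟩ := PjB.odd hP a ha (by rw [hσ]; decide)
    exact ⟨b, zpowers_le.2 ha hb, ob.trans hσ⟩
  · exact fun U h1 h2 h3 => PjB.qw h8 hP (.inr (by rw [c168]; decide)) h1 h2 nor h3⟩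

end Cfsg.Lib.P8
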