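import Cfsg.Agent.Gold.Defs
import Cfsg.Prelude.Def_JComponents
import Cfsg.Prelude.Def_Amalgam
import Cfsg.Prelude.Def_CaseTheorems
import Cfsg.Prelude.Def_ClassificationK
import Cfsg.Prelude.Def_Transfer

/-!
# Groups with element orders at most 8: definitions
-/

set_option autoImplicit false

namespace Cfsg.Lib.P8

open Subgroup Cfsg.Lib.Trans Cfsg.Lib.Gold
open scoped commutatorElement

universe u v

/-- All element orders are at most 8. -/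
def Le8 (G : Type*) [Group G] : Prop := ∀ g : G, orderOf g ≤ 8

abbrev A5 : Type := ↥(alternatingGroup (Fin 5))
abbrev A6 : Type := ↥(alternatingGroup (Fin 6))
abbrev A7 : Type := ↥(alternatingGroup (Fin 7))
abbrev S5 : Type := Equiv.Perm (Fin 5)
abbrev L32 : Type := Matrix.SpecialLinearGroup (Fin 3) (ZMod 2)
abbrev V3 : Type := Fin 3 → ZMod 2

/-- `X ≅ L₃(4)`. -/
def IsL34 (X : Type*) [Group X] : Prop :=
  ∃ (F : Type) (_ : Field F) (_ : Fintype F), Fintype.card F = 4 ∧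
    Nonempty (X ≃* Matrix.ProjectiveSpecialLinearGroup (Fin 3) F)

/-- The five simple groups with element orders at most 8. -/
def Lst (X : Type*) [Group X] : Prop :=
  Nonempty (X ≃* A5) ∨ Nonempty (X ≃* A6) ∨ Nonempty (X ≃* L32) ∨ Nonempty (X ≃* A7) ∨ IsL34 X

/-- The induction hypothesis. -/
def IH (n : ℕ) : Prop :=
  ∀ (X : Type u) [Group X] [Finite X] [IsSimpleGroup X], Nat.card X < n → ¬ IsMulCommutative X → Le8 X → Lst X

section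
variable {G : Type u} [Group G] {X : Type v} [Group X]

abbrev O2 (N : Subgroup G) : Subgroup G := pCoreOf 2 N
abbrev Om (Q : Subgroup G) : Subgroup G := omegaCenterOf Q
abbrev Jt (T : Subgroup G) : Subgroup G := thompsonSubgroupOf 2 T
abbrev Phi (D : Subgroup G) : Subgroup G := (frattini ↥D).map D.subtype
abbrev EA (A : Subgroup G) : Prop := IsElementaryAbelian 2 A
abbrev SR4 (G : Type*) [Group G] : Prop := SectionalPRankLE 2 4 G

/-- `N` has characteristic 2. -/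
def Ch (N : Subgroup G) : Prop := N ⊓ Cs (O2 N) ≤ O2 N

/-- `a`, `b` generate an elementary abelian group of order 9. -/
def E9 (a b : G) : Prop := orderOf a = 3 ∧ orderOf b = 3 ∧ a * b = b * a ∧ b ∉ zpowers a

/-- `j` inverts an element of order 5 of `H`. -/
def Inv5 (H : Subgroup G) (j : G) : Prop := ∃ σ ∈ H, orderOf σ = 5 ∧ j * σ * j⁻¹ = σ⁻¹

/-- `N/O₂(N)` has 2-rank at most 2 (for images of elementary abelian subgroups). -/
def Lr (N : Subgroup G) : Prop := ∀ A : Subgroup G, A ≤ N → EA A → (O2 N).relIndex A ≤ 4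

/-- `π` restricted to `H` is an epimorphism onto `X` with kernel the 2-group `Q`. -/
structure Pj (H Q : Subgroup G) (π : G → X) : Prop where
  le : Q ≤ H
  two : IsPGroup 2 Q
  mul : ∀ a ∈ H, ∀ b ∈ H, π (a * b) = π a * π b
  sur : ∀ x : X, ∃ h ∈ H, π h = x
  ker : ∀ a ∈ H, π a = 1 ↔ a ∈ Q

/-- `H` has characteristic 2, `Q = O₂(H) ≠ 1`, `H/Q ≅ X` via `π`. -/
structure Ty (H Q : Subgroup G) (π : G → X) : Prop extends Pj H Q π where
  eq : Q = O2 H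
  ch : H ⊓ Cs Q ≤ Q
  ne : Q ≠ ⊥

/-- Elements of order 3 of `H` act without fixed points on `Q`. -/
def Fp3 (H Q : Subgroup G) : Prop := ∀ x ∈ H, orderOf x = 3 → Q ⊓ C1 x = ⊥

/-- The four types of nonsolvable 2-local subgroups. -/
def Typ (H Q : Subgroup G) : Prop :=
  (∃ π : G → A5, Ty H Q π) ∨ (∃ π : G → S5, Ty H Q π ∧ Fp3 H Q) ∨ (∃ π : G → A6, Ty H Q π) ∨
    (∃ π : G → L32, Ty H Q π)

/-- A module coming from a 2-section of a group with element orders at most 8. -/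
structure Md (X : Type v) (M : Type u) [Group X] [AddCommGroup M] [DistribMulAction X M] : Prop where
  two : ∀ m : M, m + m = 0
  fp : ∀ g : X, orderOf g = 5 ∨ orderOf g = 7 → ∀ m : M, g • m = m → m = 0
  k : ∀ s x : X, orderOf x = 3 → s * x = x * s → (∃ n : ℕ, orderOf s = 2 ^ n) → ∀ m : M, x • m = m → s • m = m
  n8 : ∀ s : X, orderOf s = 8 → ∀ m : M, ∑ i ∈ Finset.range 8, s ^ i • m = 0

/-- Faithful action. -/
def Fth (X : Type v) (M : Type u) [Group X] [AddCommGroup M] [DistribMulAction X M] : Prop :=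
  ∀ g : X, (∀ m : M, g • m = m) → g = 1

/-- Number of fixed vectors. -/
noncomputable def fx {M : Type u} [AddCommGroup M] [DistribMulAction X M] (g : X) : ℕ :=
  Nat.card {m : M // g • m = m}

/-- `p` identifies the section `U₂/U₁` with the `X`-module `M`. -/
structure Sec {M : Type u} [AddCommGroup M] [DistribMulAction X M] (H U₁ U₂ : Subgroup G) (π : G → X)
    (p : G → M) : Prop where
  add : ∀ a ∈ U₂, ∀ b ∈ U₂, p (a * b) = p a + p b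
  zero : ∀ a ∈ U₂, p a = 0 ↔ a ∈ U₁
  sur : ∀ m : M, ∃ a ∈ U₂, p a = m
  eqv : ∀ h ∈ H, ∀ a ∈ U₂, p (h * a * h⁻¹) = π h • p a

/-- The data for which a section module exists. -/
structure SecOK (H Q U₁ U₂ : Subgroup G) : Prop where
  le : U₁ ≤ U₂
  leQ : U₂ ≤ Q
  n1 : H ≤ Ns U₁
  n2 : H ≤ Ns U₂
  cen : ⁅U₂, Q⁆ ≤ U₁
  sq : ∀ a ∈ U₂, a * a ∈ U₁

/-- The quotient `N/O₂(N)` of a solvable subgroup of characteristic 2. -/
structure Sv (X : Type v) [Group X] : Prop where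
  p8 : Le8 X
  sol : Group.IsSolvable X
  o2 : pCore 2 X = ⊥
  noE : ∀ s a b : X, orderOf s = 2 → E9 a b → s * a = a * s → s * b = b * s → False
  n25 : ¬ 25 ∣ Nat.card X
  n49 : ¬ 49 ∣ Nat.card X

/-- Coordinates for the natural module of `L₃(2)`. -/
structure Crd (H W : Subgroup G) (π : G → L32) (c : G → V3) : Prop where
  add : ∀ a ∈ W, ∀ b ∈ W, c (a * b) = c a + c b
  zero : ∀ a ∈ W, c a = 0 ↔ a = 1
  sur : ∀ m : V3, ∃ a ∈ W, c a = m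
  eqv : ∀ h ∈ H, ∀ a ∈ W, c (h * a * h⁻¹) = (π h : Matrix (Fin 3) (Fin 3) (ZMod 2)).mulVec (c a)

/-- Coordinates for the natural module of `A₆` (`e i j` is the duad `{i, j}`). -/
structure Crd6 (H W : Subgroup G) (π : G → A6) (e : Fin 6 → Fin 6 → G) : Prop where
  tri : ∀ i j k, e i j * e j k = e i k
  dia : ∀ i, e i i = 1
  rel : e 0 1 * e 2 3 * e 4 5 = 1
  ne : e 0 1 ≠ 1
  eqv : ∀ h ∈ H, ∀ i j, h * e i j * h⁻¹ = e ((π h : Equiv.Perm (Fin 6)) i) ((π h : Equiv.Perm (Fin 6)) j)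
  gen : W = closure {g | ∃ i j, g = e i j}

/-- The stabiliser of `w ∈ W#` in `H`: `C_H(w)/Q ≅ S₄`, `R = O₂(C_H(w))`. -/
structure Stb (H Q W : Subgroup G) (w : G) (R : Subgroup G) (x : G) : Prop where
  eq : R = O2 (H ⊓ C1 w)
  le : Q ≤ R
  idx : Q.relIndex R = 4
  idx6 : R.relIndex (H ⊓ C1 w) = 6
  sq : ∀ r ∈ R, r * r ∈ Q
  xH : x ∈ H
  xw : x * w = w * x
  ox : orderOf x = 3
  gen : R ≤ ⁅R, zpowers x⁆ ⊔ Q
  fix : W ⊓ Cs R ≤ zpowers w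

/-- The natural module `W` in the types `L₃(2)` and `A₆`. -/
structure WS (H Q W : Subgroup G) : Prop where
  le : W ≤ Om Q
  ea : EA W
  nor : H ≤ Ns W
  cq : H ⊓ Cs W ≤ Q
  tr : ∀ w ∈ W, w ≠ 1 → ∀ w' ∈ W, w' ≠ 1 → ∃ h ∈ H, h * w * h⁻¹ = w'
  inv4 : ∀ j ∈ H, j ∉ Q → j * j ∈ Q → Nat.card ↥(W ⊓ C1 j) = 4
  stb : ∀ w ∈ W, w ≠ 1 → ∃ R x, Stb H Q W w R x ∧ (Nat.card W = 8 → ⁅W, R⁆ ≤ zpowers w)
  rk : ∀ A : Subgroup G, A ≤ H → EA A → Q.relIndex A ≤ 4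
  d8 : ∀ T : Subgroup G, IsSylowIn 2 T H → Q ≤ T ∧ Q.relIndex T = 8 ∧ ∃ t ∈ T, t * t ∉ Q
  ex : (Nat.card W = 16 ∧ ∀ j ∈ H, j ∉ Q → j * j = 1 → Inv5 H j) ∨
    (Nat.card W = 8 ∧ (∃ σ ∈ H, orderOf σ = 7) ∧
      ∀ U : Subgroup G, W ≤ U → U ≤ Q → H ≤ Ns U → ∀ j ∈ H, j ∉ Q → ⁅U, zpowers j⁆ ≤ W → U ≤ W)

/-- Global hypotheses. -/
structure Gl (G : Type u) [Group G] : Prop where
  p8 : Le8 G
  c2 : IsCharacteristicTwoType G

/-- `H` is a maximal 2-local subgroup of characteristic 2 with `Q = O₂(H)`. -/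
structure Mx (H Q : Subgroup G) : Prop where
  mx : IsMaximalTwoLocal H
  eq : Q = O2 H
  ch : H ⊓ Cs Q ≤ Q
  ne : Q ≠ ⊥

/-- The TI situation. -/
structure TT (H Q W : Subgroup G) : Prop where
  gl : Gl G
  mx : Mx H Q
  ws : WS H Q W
  cw : ∀ w ∈ W, w ≠ 1 → C1 w ≤ H

/-- Structure of a pair of non-commuting conjugates `W`, `W' = gWg⁻¹` with `W' ∩ H ≠ 1`. -/
structure IJ (H Q W : Subgroup G) (g : G) : Prop where
  cI : Nat.card ↥(W ⊓ cj g H) = 4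
  cJ : Nat.card ↥(cj g W ⊓ H) = 4
  JQ : cj g W ⊓ Q = ⊥
  IQ : W ⊓ cj g Q = ⊥
  WW : W ⊓ cj g W = ⊥
  fI : ∀ j ∈ cj g W ⊓ H, j ≠ 1 → W ⊓ C1 j = W ⊓ cj g H
  fJ : ∀ i ∈ W ⊓ cj g H, i ≠ 1 → cj g W ⊓ C1 i = cj g W ⊓ H
  nor : W ⊔ cj g W ≤ Ns ((W ⊓ cj g H) ⊔ (cj g W ⊓ H))
  ea : EA ((W ⊓ cj g H) ⊔ (cj g W ⊓ H))
  not2 : ¬ IsPGroup 2 ↥(W ⊔ cj g W)

/-- Weak closure of `W` in `T`. -/
def Wc (W T : Subgroup G) : Subgroup G := ⨆ g : {g : G // cj g W ≤ T}, cj (g : G) W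

/-- 2-central involutions of `N/D` invert elements of order 5. -/
def Five (N D : Subgroup G) : Prop :=
  ∀ T : Subgroup G, IsSylowIn 2 T N → ∀ v ∈ T, v ∉ D → v * v = 1 → (∀ t ∈ T, ⁅v, t⁆ ∈ D) → Inv5 N v

/-- The facts about `N/D ≅ L₃(2)` used in the TI analysis. -/
def Sev (N D : Subgroup G) : Prop :=
  ∀ v ∈ N, v ∉ D → v * v ∈ D →
    (∃ a ∈ N, ∃ b ∈ N, ∃ σ ∈ closure {v, a * v * a⁻¹, b * v * b⁻¹}, orderOf σ = 7) ∧
    (∃ a ∈ N, IsPGroup 2 ↥(D ⊔ closure {v, a * v * a⁻¹}) ∧ ⁅v, a * v * a⁻¹⁆ ∉ D)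

/-- All nonsolvable 2-local subgroups are of one of the four types. -/
def AllTy (G : Type u) [Group G] : Prop :=
  ∀ N : Subgroup G, IsTwoLocal N → ¬ Group.IsSolvable N → Typ N (O2 N)

/-- Some 2-central involution has a 2-closed centraliser. -/
def Cl2 (G : Type u) [Group G] : Prop :=
  ∃ (S : Sylow 2 G) (t : G), orderOf t = 2 ∧ (S : Subgroup G) ≤ C1 t ∧ C1 t ≤ Ns (S : Subgroup G)

/-- The characteristic core of some Sylow 2-subgroup is proper. -/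
def Cc (G : Type u) [Group G] : Prop := ∃ S : Sylow 2 G, charCore (S : Subgroup G) ≠ ⊤

/-- The setting `H/Q ≅ A₅` with a Sylow 2-subgroup `T` of `H` and `x` of order 3 normalising it. -/
structure AT (H Q T : Subgroup G) (x : G) : Prop where
  syl : IsSylowIn 2 T H
  le : Q ≤ T
  idx : Q.relIndex T = 4
  sq : ∀ t ∈ T, t * t ∈ Q
  xH : x ∈ H
  ox : orderOf x = 3
  xT : x ∈ Ns T
  gen : T ≤ ⁅T, zpowers x⁆ ⊔ Q
  fix : T ⊓ C1 x ≤ Q
  nT : H ⊓ Ns T ≤ T ⊔ zpowers x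
  ovr : ∀ N : Subgroup G, T ≤ N → N ≤ H → ¬ 5 ∣ Nat.card N → N ≤ Ns T
  inv : ∀ j ∈ H, j ∉ Q → j * j = 1 → Inv5 H j
  inv' : ∀ j ∈ H, j ∉ Q → j * j ∈ Q → ∃ h ∈ H, orderOf (j * (h * j * h⁻¹)) = 5

end

end Cfsg.Lib.P8
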