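import Cfsg.Agent.P8.Stm
import Cfsg.Agent.Gold.Cm

/-!
# Groups with element orders at most 8: cancellation certificates for modules of alternating groups
-/

set_option autoImplicit false

namespace Cfsg.Lib.P8.M3hH

open Subgroup Equiv Equiv.Perm

universe u v

/-- Insertion with cancellation. -/
def ins {α : Type*} (r : α → α → Bool) (g : α) : List α → List α
  | [] => [g]
  | h :: l => if r g h then l else h :: ins r g l

/-- Cancellation of related pairs. -/
def red {α : Type*} (r : α → α → Bool) (l : List α) : List α := l.foldr (ins r) []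

/-- A product of two transpositions, or `1`. -/
def s2 {n : ℕ} (a b c d : Fin n) : alternatingGroup (Fin n) :=
  if h : a ≠ b ∧ c ≠ d then ⟨swap a b * swap c d, by simp [h.1, h.2]⟩ else 1

/-- The digits of a code. -/
def dg (n : ℕ) [NeZero n] (c i : ℕ) : Fin n := Fin.ofNat n ((c >>> (3 * i)) % 8)

/-- The even permutation with a given code. -/
def el (n : ℕ) [NeZero n] (c : ℕ) : alternatingGroup (Fin n) :=
  s2 (dg n c 0) (dg n c 1) (dg n c 2) (dg n c 3) * s2 (dg n c 4) (dg n c 5) (dg n c 6) (dg n c 7) *
    s2 (dg n c 8) (dg n c 9) (dg n c 10) (dg n c 11)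

/-- The terms of a norm relation. -/
def nl {X : Type*} [Group X] (σ g : X) : List X := [g, σ * g, σ * σ * g, σ * σ * σ * g, σ * σ * σ * σ * g]

theorem ins_eq_1' : type_of% @ins.eq_1 := @ins.eq_1
theorem ins_eq_2' : type_of% @ins.eq_2 := @ins.eq_2
theorem ins_eq_def' : type_of% @ins.eq_def := @ins.eq_def
theorem red_eq_1' : type_of% @red.eq_1 := @red.eq_1
theorem s2_eq_1' : type_of% @s2.eq_1 := @s2.eq_1
theorem dg_eq_1' : type_of% @dg.eq_1 := @dg.eq_1
theorem el_eq_1' : type_of% @el.eq_1 := @el.eq_1
theorem nl_eq_1' : type_of% @nl.eq_1 := @nl.eq_1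

section
variable {α β : Type*} {M : Type*} [AddCommGroup M]

theorem ins_map (r : α → α → Bool) (κ : β → α) (g : β) (l : List β) :
    ins r (κ g) (l.map κ) = (ins (fun a b => r (κ a) (κ b)) g l).map κ := by
  induction l with
  | nil => rfl
  | cons h l ih =>
    simp only [List.map_cons, ins]
    split_ifs
    · rfl
    · rw [ih, List.map_cons]

theorem red_map (r : α → α → Bool) (κ : β → α) (l : List β) :
    red r (l.map κ) = (red (fun a b => r (κ a) (κ b)) l).map κ := by
  induction l with
  | nil => rfl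
  | cons h l ih =>
    simp only [red, List.map_cons, List.foldr_cons] at ih ⊢
    rw [ih, ins_map]

theorem ins_sum (two : ∀ m : M, m + m = 0) {r : α → α → Bool} {f : α → M}
    (hr : ∀ g h, r g h = true → f g = f h) (g : α) (l : List α) :
    ((ins r g l).map f).sum = f g + (l.map f).sum := by
  induction l with
  | nil => rfl
  | cons h l ih =>
    simp only [ins]
    split_ifs with e
    · rw [List.map_cons, List.sum_cons, hr g h e, ← add_assoc, two, zero_add]
    · rw [List.map_cons, List.sum_cons, ih, List.map_cons, List.sum_cons, add_left_comm]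

theorem red_sum (two : ∀ m : M, m + m = 0) {r : α → α → Bool} {f : α → M}
    (hr : ∀ g h, r g h = true → f g = f h) (l : List α) :
    ((red r l).map f).sum = (l.map f).sum := by
  induction l with
  | nil => rfl
  | cons h l ih =>
    rw [List.map_cons, List.sum_cons, ← ih, ← ins_sum two hr]
    rfl

theorem sum_zero (two : ∀ m : M, m + m = 0) {r : α → α → Bool} (κ : β → α) {f : β → M}
    (hr : ∀ g h, r (κ g) (κ h) = true → f g = f h) {l : List β} (hl : red r (l.map κ) = []) :
    (l.map f).sum = 0 := by
  rw [red_map, List.map_eq_nil_iff] at hl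
  rw [← red_sum two hr, hl]
  rfl

theorem sum_flatMap {F : β → List α} {f : α → M} {l : List β}
    (h : ∀ b ∈ l, ((F b).map f).sum = 0) : ((l.flatMap F).map f).sum = 0 := by
  induction l with
  | nil => rfl
  | cons b l ih =>
    rw [List.flatMap_cons, List.map_append, List.sum_append, h b List.mem_cons_self,
      ih fun c hc => h c (List.mem_cons_of_mem _ hc), add_zero]

end

theorem ord5 {X : Type*} [Group X] {σ : X} (h : σ * σ * σ * σ * σ = 1 ∧ σ ≠ 1) : orderOf σ = 5 :=
  haveI : Fact (Nat.Prime 5) := ⟨by decide⟩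
  orderOf_eq_prime (by rw [← h.1]; simp [pow_succ]) h.2

theorem ord3 {X : Type*} [Group X] {σ : X} (h : σ * σ * σ = 1 ∧ σ ≠ 1) : orderOf σ = 3 :=
  haveI : Fact (Nat.Prime 3) := ⟨by decide⟩
  orderOf_eq_prime (by rw [← h.1]; simp [pow_succ]) h.2

theorem nl_sum [MdA.{u, v}] {X : Type v} [Group X] {M : Type u} [AddCommGroup M] [DistribMulAction X M]
    (h : Md X M) {σ : X} (hσ : σ * σ * σ * σ * σ = 1 ∧ σ ≠ 1) (g : X) (m : M) :
    ((nl σ g).map (· • m)).sum = 0 := by
  have := MdA.norm h (.inl (ord5 hσ)) (g • m)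
  rw [ord5 hσ] at this
  simpa [Finset.sum_range_succ, pow_succ, nl, mul_smul, add_assoc] using this

end Cfsg.Lib.P8.M3hH
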