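import Cfsg.Agent.P8.Defs
import Cfsg.Prelude.Def_Classical
import Cfsg.Prelude.Def_Sz
import Cfsg.Prelude.Def_LieChev
import Cfsg.Prelude.Def_Spor_Mathieu

/-!
# Groups with element orders at most 8: the steps of the proof as hypothesis classes
-/

set_option autoImplicit false

namespace Cfsg.Lib.P8

open Subgroup Cfsg.Lib.Trans Cfsg.Lib.Gold
open scoped commutatorElement

universe u v

/-! ### Basic facts -/

class Bas1 : Prop where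
  sub : ∀ {G : Type u} [Group G] [Finite G], Le8 G → ∀ H : Subgroup G, Le8 ↥H
  quo : ∀ {G : Type u} [Group G] [Finite G], Le8 G → ∀ (N : Subgroup G) [N.Normal], Le8 (G ⧸ N)
  c3 : ∀ {G : Type u} [Group G] [Finite G], Le8 G → ∀ {x : G}, orderOf x = 3 →
    ∀ {S : Subgroup G}, IsPGroup 2 S → S ≤ C1 x → EA S
  e3 : ∀ {G : Type u} [Group G] [Finite G], Le8 G → ∀ {P : Subgroup G}, IsPGroup 3 P → ∀ g ∈ P, g ^ 3 = 1
  e9 : ∀ {G : Type u} [Group G] [Finite G], Le8 G → ∀ {P : Subgroup G}, IsPGroup 3 P → 3 < Nat.card P →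
    ∃ a ∈ P, ∃ b ∈ P, E9 a b
  fpf : ∀ {G : Type u} [Group G] [Finite G], Le8 G → ∀ {σ : G}, orderOf σ = 5 ∨ orderOf σ = 7 →
    ∀ g : G, g * σ = σ * g → g ^ orderOf σ = 1
  sol : ∀ {G : Type u} [Group G] [Finite G], Le8 G → ∀ {N : Subgroup G}, ¬ 5 ∣ Nat.card N → ¬ 7 ∣ Nat.card N →
    Group.IsSolvable N
  cen : ∀ {G : Type u} [Group G] [Finite G], Le8 G → ∀ {t : G}, orderOf t = 2 ∨ orderOf t = 3 →
    ¬ 5 ∣ Nat.card ↥(C1 t) ∧ ¬ 7 ∣ Nat.card ↥(C1 t)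
  md : ∀ {G : Type u} [Group G] [Finite G], Le8 G → ∀ {σ : G}, orderOf σ = 5 ∨ orderOf σ = 7 →
    ∀ {Q : Subgroup G}, IsPGroup 2 Q → σ ∈ Ns Q → Nat.card Q % orderOf σ = 1
  fl : ∀ {G : Type u} [Group G] [Finite G] {Q : Subgroup G} {a b : G}, Q ⊓ C1 a ⊓ C1 b = ⊥ →
    Nat.card Q ≤ (C1 a).relIndex Q * (C1 b).relIndex Q
  fl5 : ∀ {G : Type u} [Group G] [Finite G], Le8 G → ∀ {Q : Subgroup G} {j σ : G}, IsPGroup 2 Q → j ∈ Ns Q →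
    σ ∈ Ns Q → orderOf σ = 5 → j * j = 1 → j * σ * j⁻¹ = σ⁻¹ → Nat.card Q ≤ (C1 j).relIndex Q ^ 2
  half : ∀ {G : Type u} [Group G] [Finite G] {V : Subgroup G} {j : G}, EA V → j ∈ Ns V → j * j ∈ Cs V →
    (C1 j).relIndex V ≤ Nat.card ↥(V ⊓ C1 j) ∧ ⁅V, zpowers j⁆ ≤ C1 j ∧
      Nat.card ↥⁅V, zpowers j⁆ = (C1 j).relIndex V
  cidx : ∀ {G : Type u} [Group G] [Finite G] {D I : Subgroup G} {v : G}, (∀ d ∈ D, ⁅d, v⁆ ∈ I) →
    (C1 v).relIndex D ≤ Nat.card I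

class Bas2 : Prop where
  rk3 : ∀ {G : Type u} [Group G] [Finite G], Le8 G → ∀ {D : Subgroup G} {x w : G}, IsPGroup 2 D → x ∈ Ns D →
    orderOf x = 3 → w ∈ D → w * x = x * w → (C1 w).relIndex D ≤ 2 → D ≤ C1 w
  r5 : ∀ {G : Type u} [Group G] [Finite G], Le8 G → ∀ {Q : Subgroup G} {σ w y : G}, IsPGroup 2 Q → σ ∈ Ns Q →
    orderOf σ = 5 → w ∈ Q → y ∈ Q → Q ≤ C1 y → y * y = 1 → (∀ q ∈ Q, ⁅w, q⁆ ∈ zpowers y) → Q ≤ C1 w
  cop : ∀ {G : Type u} [Group G] [Finite G] {T : Subgroup G} {x : G}, IsPGroup 2 T → x ∈ Ns T → Odd (orderOf x) →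
    T ≤ ⁅T, zpowers x⁆ ⊔ (T ⊓ C1 x) ∧ ⁅⁅T, zpowers x⁆, zpowers x⁆ = ⁅T, zpowers x⁆ ∧
      ⁅T, zpowers x⁆ ⊓ C1 x ≤ ⁅⁅T, zpowers x⁆, ⁅T, zpowers x⁆⁆ ∧ ⁅T, zpowers x⁆ ≤ T ∧ T ≤ Ns ⁅T, zpowers x⁆
  lift : ∀ {G : Type u} [Group G] [Finite G] {U₁ U₂ : Subgroup G} {x a : G}, IsPGroup 2 U₂ → U₁ ≤ U₂ →
    U₂ ≤ Ns U₁ → x ∈ Ns U₁ → x ∈ Ns U₂ → Odd (orderOf x) → a ∈ U₂ → ⁅a, x⁆ ∈ U₁ →
    ∃ b ∈ U₂, b * x = x * b ∧ a⁻¹ * b ∈ U₁
  gen9 : ∀ {G : Type u} [Group G] [Finite G] {D : Subgroup G} {a b : G}, IsPGroup 2 D → a ∈ Ns D → b ∈ Ns D →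
    E9 a b → D ≤ (D ⊓ C1 a) ⊔ (D ⊓ C1 b) ⊔ (D ⊓ C1 (a * b)) ⊔ (D ⊓ C1 (a * b⁻¹))
  ch : ∀ {G : Type u} [Group G] [Finite G], IsCharacteristicTwoType G → ∀ {M N T : Subgroup G}, IsTwoLocal M →
    IsSylowIn 2 T ⊤ → T ≤ N → N ≤ M → Ch N
  chl : ∀ {G : Type u} [Group G] [Finite G], IsCharacteristicTwoType G → ∀ {M : Subgroup G}, IsTwoLocal M →
    Ch M ∧ O2 M ≠ ⊥
  chc : ∀ {G : Type u} [Group G] [Finite G], IsCharacteristicTwoType G → ∀ {t : G}, orderOf t = 2 →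
    IsTwoLocal (C1 t) ∧ Ch (C1 t)
  nor : ∀ {G : Type u} [Group G] [Finite G] {H U : Subgroup G}, IsMaximalTwoLocal H → IsPGroup 2 U → U ≠ ⊥ →
    H ≤ Ns U → Ns U = H
  sr : ∀ {G : Type u} [Group G] [Finite G] {T : Subgroup G}, IsSylowIn 2 T ⊤ → SR4 ↥T → SR4 G
  sr8 : ∀ {G : Type u} [Group G] [Finite G] {T W : Subgroup G}, IsPGroup 2 T → W ≤ T → EA W → Nat.card W = 8 →
    T ⊓ Cs W ≤ W → SR4 ↥T

class BasJ : Prop where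
  ex : ∀ {G : Type u} [Group G] [Finite G] {T Q : Subgroup G}, ¬ Jt T ≤ Q →
    ∃ A : Subgroup G, A ≤ T ∧ EA A ∧ ¬ A ≤ Q ∧ ∀ B : Subgroup G, B ≤ T → EA B → Nat.card B ≤ Nat.card A
  le : ∀ {G : Type u} [Group G] [Finite G] {T A : Subgroup G}, A ≤ T → EA A →
    (∀ B : Subgroup G, B ≤ T → EA B → Nat.card B ≤ Nat.card A) → A ≤ Jt T ∧ ∀ y ∈ T ⊓ Cs A, y * y = 1 → y ∈ A
  leT : ∀ {G : Type u} [Group G] [Finite G] (T : Subgroup G), Jt T ≤ T ∧ Ns T ≤ Ns (Jt T) ∧ Om T ≤ T ∧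
    Ns T ≤ Ns (Om T) ∧ EA (Om T) ∧ T ≤ Cs (Om T) ∧ ∀ y ∈ T, T ≤ C1 y → y * y = 1 → y ∈ Om T
  ne : ∀ {G : Type u} [Group G] [Finite G] {T : Subgroup G}, IsPGroup 2 T → T ≠ ⊥ → Jt T ≠ ⊥ ∧ Om T ≠ ⊥
  eq : ∀ {G : Type u} [Group G] [Finite G] {T Q : Subgroup G}, Q ≤ T → Jt T ≤ Q → Jt Q = Jt T
  off : ∀ {G : Type u} [Group G] [Finite G] {T Q V A : Subgroup G}, A ≤ T → V ≤ T → EA A → EA V →
    A ⊓ Q ≤ Cs V → (∀ B : Subgroup G, B ≤ T → EA B → Nat.card B ≤ Nat.card A) → V ≤ Q →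
    A.relIndex V ≤ Q.relIndex A
  bs : ∀ {G : Type u} [Group G] [Finite G] {N A : Subgroup G}, A ≤ N → IsPGroup 2 A → ¬ A ≤ O2 N →
    ∃ n ∈ N, ¬ IsPGroup 2 ↥(A ⊔ cj n A)
  o2 : ∀ {G : Type u} [Group G] [Finite G] (N : Subgroup G), O2 N ≤ N ∧ IsPGroup 2 ↥(O2 N) ∧ Ns N ≤ Ns (O2 N) ∧
    (∀ U : Subgroup G, U ≤ N → IsPGroup 2 U → N ≤ Ns U → U ≤ O2 N) ∧
    ∀ T : Subgroup G, IsSylowIn 2 T N → O2 N ≤ T
  zfix : ∀ {G : Type u} [Group G] [Finite G] {T U₁ U₂ : Subgroup G}, IsPGroup 2 T → IsPGroup 2 U₂ → U₁ < U₂ →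
    T ≤ Ns U₁ → T ≤ Ns U₂ → U₂ ≤ Ns U₁ → ∃ a ∈ U₂, a ∉ U₁ ∧ ∀ t ∈ T, ⁅a, t⁆ ∈ U₁

/-- Lifting through a projection with 2-group kernel. -/
class PjB : Prop where
  one : ∀ {G : Type u} [Group G] {X : Type v} [Group X] {H Q : Subgroup G} {π : G → X}, Pj H Q π →
    π 1 = 1 ∧ (∀ a ∈ H, π a⁻¹ = (π a)⁻¹) ∧ (∀ a ∈ H, ∀ n : ℕ, π (a ^ n) = π a ^ n) ∧ H ≤ Ns Q ∧
      ∀ a ∈ H, ∀ b ∈ H, π a = π b ↔ a⁻¹ * b ∈ Q
  hom : ∀ {G : Type u} [Group G] {X : Type v} [Group X] {H Q : Subgroup G} {π : G → X}, Pj H Q π →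
    ∃ f : ↥H →* X, (∀ a : ↥H, f a = π a) ∧ Function.Surjective f ∧ f.ker = Q.subgroupOf H
  card : ∀ {G : Type u} [Group G] [Finite G] {X : Type v} [Group X] {H Q : Subgroup G} {π : G → X}, Pj H Q π →
    Finite X ∧ Q.relIndex H = Nat.card X ∧ (Le8 G → Le8 X) ∧ (Group.IsSolvable H → Group.IsSolvable X) ∧
      (Group.IsSolvable X → Group.IsSolvable H)
  im : ∀ {G : Type u} [Group G] [Finite G] {X : Type v} [Group X] {H Q : Subgroup G} {π : G → X}, Pj H Q π →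
    ∀ A : Subgroup G, A ≤ H → ∃ B : Subgroup X, (∀ y, y ∈ B ↔ ∃ a ∈ A, π a = y) ∧ Nat.card B = Q.relIndex A
  pre : ∀ {G : Type u} [Group G] [Finite G] {X : Type v} [Group X] {H Q : Subgroup G} {π : G → X}, Pj H Q π →
    ∀ B : Subgroup X, ∃ A : Subgroup G, (∀ a, a ∈ A ↔ a ∈ H ∧ π a ∈ B) ∧ Q ≤ A ∧ Q.relIndex A = Nat.card B ∧
      (IsPGroup 2 B → IsPGroup 2 A) ∧ ∃ π' : G → ↥B, Pj A Q π' ∧ ∀ a ∈ A, (π' a : X) = π a
  odd : ∀ {G : Type u} [Group G] [Finite G] {X : Type v} [Group X] {H Q : Subgroup G} {π : G → X}, Pj H Q π →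
    ∀ a ∈ H, Odd (orderOf (π a)) → ∃ b ∈ zpowers a, π b = π a ∧ orderOf b = orderOf (π a)
  twoP : ∀ {G : Type u} [Group G] [Finite G] {X : Type v} [Group X] {H Q : Subgroup G} {π : G → X}, Pj H Q π →
    ∀ a ∈ H, (∃ n : ℕ, orderOf (π a) = 2 ^ n) → ∃ n : ℕ, orderOf a = 2 ^ n
  o57 : ∀ {G : Type u} [Group G] [Finite G] {X : Type v} [Group X] {H Q : Subgroup G} {π : G → X}, Le8 G → Pj H Q π →
    ∀ a ∈ H, orderOf (π a) = 5 ∨ orderOf (π a) = 7 → orderOf a = orderOf (π a) ∧ Q ⊓ C1 a = ⊥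
  cen : ∀ {G : Type u} [Group G] [Finite G] {X : Type v} [Group X] {H Q : Subgroup G} {π : G → X}, Pj H Q π →
    ∀ x ∈ H, Odd (orderOf x) → ∀ y : X, y * π x = π x * y → ∃ a ∈ H, a * x = x * a ∧ π a = y
  inv : ∀ {G : Type u} [Group G] [Finite G] {X : Type v} [Group X] {H Q : Subgroup G} {π : G → X}, Pj H Q π →
    ∀ j ∈ H, j * j = 1 → ∀ r : X, Odd (orderOf r) → π j * r * (π j)⁻¹ = r⁻¹ →
      ∃ a ∈ H, π a = r ∧ orderOf a = orderOf r ∧ j * a * j⁻¹ = a⁻¹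
  syl : ∀ {G : Type u} [Group G] [Finite G] {X : Type v} [Group X] {H Q : Subgroup G} {π : G → X}, Pj H Q π →
    ∀ T : Subgroup G, IsSylowIn 2 T H → Q ≤ T ∧ ∃ S : Sylow 2 X, ∀ y, y ∈ (S : Subgroup X) ↔ ∃ t ∈ T, π t = y
  equiv : ∀ {G : Type u} [Group G] {X : Type v} [Group X] {H Q : Subgroup G} {π : G → X} {Y : Type} [Group Y]
    (e : X ≃* Y), (Pj H Q π → Pj H Q (fun g => e (π g))) ∧ (Ty H Q π → Ty H Q (fun g => e (π g)))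
  qw : ∀ {G : Type u} [Group G] [Finite G] {X : Type v} [Group X] [IsSimpleGroup X] {H Q : Subgroup G} {π : G → X},
    Le8 G → Pj H Q π → (5 ∣ Nat.card X ∨ 7 ∣ Nat.card X) → ∀ {U₁ U₂ : Subgroup G}, U₁ ≤ U₂ → U₂ ≤ Q → H ≤ Ns U₁ →
      H ≤ Ns U₂ → ∀ j ∈ H, j ∉ Q → ⁅U₂, zpowers j⁆ ≤ U₁ → U₂ ≤ U₁

/-- Section modules. -/
class Brg : Prop where
  sec : ∀ {G : Type u} [Group G] [Finite G] {X : Type v} [Group X] {H Q U₁ U₂ : Subgroup G} {π : G → X}, Le8 G →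
    Pj H Q π → SecOK H Q U₁ U₂ → ∃ (M : Type u) (_ : AddCommGroup M) (_ : Finite M) (_ : DistribMulAction X M)
      (p : G → M), Md X M ∧ Sec H U₁ U₂ π p
  om : ∀ {G : Type u} [Group G] [Finite G] {H Q : Subgroup G}, H ≤ Ns Q → SecOK H Q ⊥ (Om Q)
  phi : ∀ {G : Type u} [Group G] [Finite G] {H Q : Subgroup G}, IsPGroup 2 Q → H ≤ Ns Q → SecOK H Q (Phi Q) Q
  fth : ∀ {G : Type u} [Group G] [Finite G] {X : Type v} [Group X] {H Q : Subgroup G} {π : G → X}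
    {M : Type u} [AddCommGroup M] [DistribMulAction X M] {p : G → M}, Pj H Q π → Q = O2 H → H ⊓ Cs Q ≤ Q →
      Sec H (Phi Q) Q π p → Fth X M
  fix : ∀ {G : Type u} [Group G] [Finite G] {H Q : Subgroup G} {x : G}, IsPGroup 2 Q → H ≤ Ns Q → x ∈ H →
    Odd (orderOf x) → Q ⊓ C1 x ≠ ⊥ → ∃ U₁ U₂, SecOK H Q U₁ U₂ ∧ ∃ a ∈ U₂, a ∉ U₁ ∧ a * x = x * a
  quo : ∀ {G : Type u} [Group G] [Finite G] (N : Subgroup G), ∃ (Y : Type u) (_ : Group Y) (_ : Finite Y)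
    (π : G → Y), Pj N (O2 N) π ∧ pCore 2 Y = ⊥

/-! ### Modules -/

class MdA : Prop where
  comp : ∀ {X : Type v} [Group X] {M : Type u} [AddCommGroup M] [DistribMulAction X M] {Y : Type} [Group Y]
    (f : Y →* X), Function.Injective f → Md X M → @Md Y M _ _ (DistribMulAction.compHom M f)
  sub : ∀ {X : Type v} [Group X] {M : Type u} [AddCommGroup M] [DistribMulAction X M] (L : Subgroup X),
    Md X M → Md (↥L) M
  norm : ∀ {X : Type v} [Group X] {M : Type u} [AddCommGroup M] [DistribMulAction X M], Md X M →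
    ∀ {σ : X}, orderOf σ = 5 ∨ orderOf σ = 7 → ∀ m : M, ∑ i ∈ Finset.range (orderOf σ), σ ^ i • m = 0
  fix2 : ∀ {X : Type v} [Group X] [Finite X] {M : Type u} [AddCommGroup M] [Finite M] [DistribMulAction X M],
    Md X M → ∀ {S : Subgroup X}, IsPGroup 2 S → ∀ {K : AddSubgroup M}, (∀ s ∈ S, ∀ m ∈ K, s • m ∈ K) → K ≠ ⊥ →
      ∃ m ∈ K, m ≠ 0 ∧ ∀ s ∈ S, s • m = m
  orb : ∀ {X : Type v} [Group X] {M : Type u} [AddCommGroup M] [DistribMulAction X M] {Ω : Type} [MulAction X Ω]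
    (ω : Ω) (m : M), (∀ ω' : Ω, ∃ g : X, g • ω = ω') → (∀ g : X, g • ω = ω → g • m = m) →
      ∃ c : Ω → M, c ω = m ∧ ∀ (g : X) (ω' : Ω), g • c ω' = c (g • ω')
  free : ∀ {X : Type v} [Group X] {M : Type u} [AddCommGroup M] [Finite M] [DistribMulAction X M], Md X M →
    ∀ {t g : X}, t * t = 1 → t * g * t⁻¹ = g⁻¹ → (∀ m : M, (g * g) • m = m → m = 0) →
      ∀ m : M, t • m = m → ∃ m' : M, m = m' + t • m'
  fi : ∀ {X : Type v} [Group X] {M : Type u} [AddCommGroup M] [Finite M] [DistribMulAction X M], Md X M →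
    ∀ {t σ x : X}, orderOf t = 2 → orderOf σ = 5 ∨ orderOf σ = 7 → t * σ * t⁻¹ = σ⁻¹ → orderOf x = 3 →
      t * x = x * t → ∀ m : M, x • m = m → m = 0
  bp : ∀ {X : Type v} [Group X] {M : Type u} [AddCommGroup M] [DistribMulAction X M], Md X M →
    ∀ {s x y : X}, orderOf x = 3 → (∃ n : ℕ, orderOf s = 2 ^ n) → s * x = x * s → y * x = x * y → y ^ 3 = 1 →
      s * y * s⁻¹ = y⁻¹ → ∀ m : M, x • m = m → y • m = m
  dec9 : ∀ {X : Type v} [Group X] {M : Type u} [AddCommGroup M] [DistribMulAction X M], Md X M →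
    ∀ {a b : X}, E9 a b → ∀ m : M, ∃ m₁ m₂ m₃ m₄ : M, m = m₁ + m₂ + m₃ + m₄ ∧ a • m₁ = m₁ ∧ b • m₂ = m₂ ∧
      (a * b) • m₃ = m₃ ∧ (a * b⁻¹) • m₄ = m₄

class MdB : Prop where
  cube : ∀ {X : Type v} [Group X] {M : Type u} [AddCommGroup M] [Finite M] [DistribMulAction X M], Md X M →
    ∀ {σ x : X}, orderOf σ = 7 → orderOf x = 3 → x * σ * x⁻¹ = σ ^ 2 → Nat.card M = fx (M := M) x ^ 3
  four : ∀ {X : Type v} [Group X] {M : Type u} [AddCommGroup M] [Finite M] [DistribMulAction X M], Md X M →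
    ∀ {a b : X}, E9 a b → (∀ m : M, a • m = m → b • m = m → m = 0) →
      Nat.card M = fx (M := M) a * fx (M := M) b * fx (M := M) (a * b) * fx (M := M) (a * b⁻¹)
  cjg : ∀ {X : Type v} [Group X] {M : Type u} [AddCommGroup M] [DistribMulAction X M] (g a : X),
    fx (M := M) (g * a * g⁻¹) = fx (M := M) a ∧ fx (M := M) a⁻¹ = fx (M := M) a
  nsq : ∀ {X : Type v} [Group X] [Finite X] {M : Type u} [AddCommGroup M] [Finite M] [DistribMulAction X M],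
    Le8 X → Md X M → Nontrivial M → ¬ 25 ∣ Nat.card X ∧ ¬ 49 ∣ Nat.card X
  noE : ∀ {X : Type v} [Group X] {M : Type u} [AddCommGroup M] [DistribMulAction X M], Md X M → Fth X M →
    ∀ s a b : X, orderOf s = 2 → E9 a b → s * a = a * s → s * b = b * s → False

/-- The solvable quotient with its faithful module. -/
class SvB : Prop where
  out : ∀ {G : Type u} [Group G] [Finite G], Le8 G → ∀ {N : Subgroup G}, Group.IsSolvable N → Ch N →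
    ∃ (X : Type u) (_ : Group X) (_ : Finite X) (π : G → X) (M : Type u) (_ : AddCommGroup M) (_ : Finite M)
      (_ : DistribMulAction X M) (p : G → M),
      Pj N (O2 N) π ∧ Sv X ∧ Md X M ∧ Fth X M ∧ Sec N (Phi (O2 N)) (O2 N) π p

class G1 : Prop where
  fit : ∀ {X : Type u} [Group X] [Finite X], Sv X →
    (∃ σ : X, (orderOf σ = 5 ∨ orderOf σ = 7) ∧ (zpowers σ).Normal ∧ C1 σ ≤ zpowers σ ∧
      ∀ S : Subgroup X, IsPGroup 2 S → IsCyclic S) ∨ Cs (pCore 3 X) ≤ pCore 3 X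
  c3 : ∀ {X : Type u} [Group X] [Finite X], Sv X → ∀ {P : Subgroup X}, IsPGroup 3 P → ∀ {s : X}, orderOf s = 2 →
    Nat.card ↥(P ⊓ C1 s) ≤ 3
  inv : ∀ {X : Type u} [Group X] [Finite X], Sv X → ∀ {s : X}, orderOf s = 2 →
    ∃ r : X, (orderOf r = 5 ∨ orderOf r = 7 ∨ (orderOf r = 3 ∧ r ∈ pCore 3 X)) ∧ s * r * s⁻¹ = r⁻¹
  axb : ∀ {X : Type u} [Group X] [Finite X], Sv X → Cs (pCore 3 X) ≤ pCore 3 X → ∀ {s x : X}, orderOf s = 2 →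
    orderOf x = 3 → s * x = x * s → ∃ y ∈ pCore 3 X, E9 x y ∧ s * y * s⁻¹ = y⁻¹
  gen4 : ∀ {X : Type u} [Group X] [Finite X] {P : Subgroup X} {a b : X}, IsPGroup 3 P → a ∈ Ns P → b ∈ Ns P →
    orderOf a = 2 → orderOf b = 2 → a ≠ b → a * b = b * a → P ≤ (P ⊓ C1 a) ⊔ (P ⊓ C1 b) ⊔ (P ⊓ C1 (a * b))

class G2 : Prop where
  lr : ∀ {X : Type u} [Group X] [Finite X], Sv X → ∀ A : Subgroup X, EA A → Nat.card A ≤ 4
  ts1 : ∀ {X : Type u} [Group X] [Finite X], Sv X → ∀ A : Subgroup X, EA A → Nat.card A = 4 →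
    ∃ v₁ ∈ A, ∃ v₂ ∈ A, ∃ r : X, v₁ ≠ 1 ∧ orderOf r = 3 ∧ v₁ * r = r * v₁ ∧ v₂ * r * v₂⁻¹ = r⁻¹
  l3 : ∀ {X : Type u} [Group X] [Finite X], Sv X → ¬ 5 ∣ Nat.card X → ¬ 7 ∣ Nat.card X →
    (∀ a b : X, ¬ E9 a b) → Nat.card X ∣ 6

class G4 : Prop where
  ts2 : ∀ {X : Type u} [Group X] [Finite X], Sv X → ∀ {S : Subgroup X}, IsPGroup 2 S → ∀ {w : X}, w ∈ S →
    orderOf w = 2 → S ≤ C1 w →
      (∃ r : X, (orderOf r = 3 ∨ orderOf r = 5 ∨ orderOf r = 7) ∧ w * r * w⁻¹ = r⁻¹ ∧ S ≤ Ns (zpowers r)) ∨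
      (∃ a b : X, E9 a b ∧ w * a * w⁻¹ = a⁻¹ ∧ w * b * w⁻¹ = b⁻¹)

class G5 : Prop where
  lc : ∀ {X : Type u} [Group X] [Finite X] {M : Type u} [AddCommGroup M] [Finite M] [DistribMulAction X M],
    Sv X → Md X M → Fth X M → ∀ {Y : Subgroup X} {x : X}, IsPGroup 2 Y → orderOf x = 3 → x ∈ Ns Y → Y ≤ C1 x

/-! ### Solvable subgroups of characteristic 2 -/

class LA : Prop where
  out : ∀ {G : Type u} [Group G] [Finite G], Le8 G → ∀ {D : Subgroup G} {a b : G}, IsPGroup 2 D → a ∈ Ns D →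
    b ∈ Ns D → E9 a b → ⁅D, D⁆ ⊓ C1 a ⊓ C1 b = ⊥

class LC : Prop where
  lc : ∀ {G : Type u} [Group G] [Finite G], Le8 G → ∀ {N : Subgroup G}, Group.IsSolvable N → Ch N →
    ∀ {Y : Subgroup G} {x : G}, Y ≤ N → IsPGroup 2 Y → x ∈ N → orderOf x = 3 → x ∈ Ns Y → ⁅Y, zpowers x⁆ ≤ O2 N
  lr : ∀ {G : Type u} [Group G] [Finite G], Le8 G → ∀ {N : Subgroup G}, Group.IsSolvable N → Ch N → Lr N
  l3 : ∀ {G : Type u} [Group G] [Finite G], Le8 G → ∀ {N : Subgroup G}, Ch N → ¬ 5 ∣ Nat.card N →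
    ¬ 7 ∣ Nat.card N → (∀ a ∈ N, ∀ b ∈ N, ¬ E9 a b) → (O2 N).relIndex N ∣ 6

class LZ : Prop where
  out : ∀ {G : Type u} [Group G] [Finite G], Le8 G → ∀ {N T : Subgroup G} {x : G}, Ch N → ¬ 5 ∣ Nat.card N →
    ¬ 7 ∣ Nat.card N → IsSylowIn 2 T N → x ∈ N → orderOf x = 3 → x ∈ Ns T → ¬ N ≤ Ns T →
      T ⊓ C1 x ≠ ⊥ ∧ ⁅T, zpowers x⁆ ⊓ C1 x = ⊥

class FFm : Prop where
  four : ∀ {X : Type u} [Group X] [Finite X] {M : Type u} [AddCommGroup M] [Finite M] [DistribMulAction X M],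
    Sv X → Md X M → Fth X M → ∀ (A : Subgroup X) (K : AddSubgroup M), EA A → Nat.card A = 4 →
      (∀ a ∈ A, ∀ m ∈ K, a • m = m) → K.index ≤ 4 → False
  comm : ∀ {X : Type u} [Group X] [Finite X] {M : Type u} [AddCommGroup M] [Finite M] [DistribMulAction X M],
    Sv X → Md X M → Fth X M → ∀ (A : Subgroup X) (I : AddSubgroup M), EA A → Nat.card A = 4 →
      (∀ a ∈ A, ∀ m ∈ I, a • m = m) → (∀ a ∈ A, ∀ m : M, m + a • m ∈ I) → Nat.card I ≤ 4 → False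
  tv : ∀ {X : Type u} [Group X] [Finite X] {M : Type u} [AddCommGroup M] [Finite M] [DistribMulAction X M],
    Sv X → Md X M → Fth X M → ∀ {S : Subgroup X}, IsPGroup 2 S → ∀ {b : X}, b ∈ S → orderOf b = 2 →
      ∀ K : AddSubgroup M, (∀ m ∈ K, b • m = m) → K.index ≤ 2 →
        ∃ y y' : M, y ≠ y' ∧ b • y = y' ∧ ∀ s ∈ S, s • y = y ∨ s • y = y'

class FF : Prop where
  out : ∀ {G : Type u} [Group G] [Finite G], Le8 G → ∀ {N T : Subgroup G}, Group.IsSolvable N → Ch N →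
    IsSylowIn 2 T N → N ⊓ Cs (Om T) ≤ T → ¬ N ≤ Ns (Jt T) → ∃ y ∈ T, orderOf y = 2 ∧ (C1 y).relIndex T = 2
  ts1 : ∀ {G : Type u} [Group G] [Finite G], Le8 G → ∀ {N W : Subgroup G}, Group.IsSolvable N → Ch N → W ≤ N →
    EA W → (O2 N).relIndex W = 4 → ⁅O2 N, W⁆ ≤ W ⊓ O2 N → Nat.card ↥(W ⊓ O2 N) ≤ 4 → False

class WL : Prop where
  out : ∀ {G : Type u} [Group G] [Finite G] {T V : Subgroup G}, IsPGroup 2 T → V ≤ T → T ≤ Ns V → EA V →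
    Nat.card V = 16 → V.relIndex T = 8 → (∃ t ∈ T, t * t ∉ V) →
      (∀ j ∈ T, j ∉ V → j * j ∈ V → Nat.card ↥(V ⊓ C1 j) = 4) → SR4 ↥T

/-! ### Modules for the small simple groups -/

class Du5 : Prop where
  out : ∀ {M : Type u} [AddCommGroup M] [DistribMulAction A5 M], Md A5 M → ∀ m : M,
    (∀ g : A5, ((g : S5) 0 = 0 ∧ (g : S5) 1 = 1) ∨ ((g : S5) 0 = 1 ∧ (g : S5) 1 = 0) → g • m = m) →
      ∃ c : Fin 5 → Fin 5 → M, c 0 1 = m ∧ (∀ i, c i i = 0) ∧ (∀ i j k, c i j + c j k = c i k) ∧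
        ∀ (g : A5) i j, g • c i j = c ((g : S5) i) ((g : S5) j)

class MA5 : Prop where
  a : ∀ {M : Type u} [AddCommGroup M] [Finite M] [DistribMulAction A5 M], Md A5 M → ∀ (T : Subgroup A5) (x : A5),
    Nat.card T = 4 → orderOf x = 3 → x ∈ Ns T → (∃ m : M, m ≠ 0 ∧ x • m = m) →
      ∃ m : M, ∃ t ∈ T, m + t • m ≠ 0 ∧ x • (m + t • m) = m + t • m ∧ ∀ s ∈ T, s • (m + t • m) = m + t • m
  b : ∀ {M : Type u} [AddCommGroup M] [Finite M] [DistribMulAction A5 M], Md A5 M → ∀ (T : Subgroup A5) (x : A5),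
    Nat.card T = 4 → orderOf x = 3 → (∀ m : M, x • m = m → m = 0) →
      ∀ t ∈ T, t ≠ 1 → ∀ m : M, t • m = m → ∀ s ∈ T, s • m = m
  s5 : ∀ {M : Type u} [AddCommGroup M] [Finite M] [DistribMulAction S5 M], Md S5 M → ∀ x : S5, orderOf x = 3 →
    ∀ m : M, x • m = m → m = 0

class M2a : Prop where
  out : ∀ {M : Type u} [AddCommGroup M] [Finite M] [DistribMulAction L32 M], Md L32 M → Nontrivial M →
    ∃ m : M, m ≠ 0 ∧
      ((∀ g : L32, (g : Matrix (Fin 3) (Fin 3) (ZMod 2)).mulVec ![1, 0, 0] = ![1, 0, 0] → g • m = m) ∨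
       (∀ g : L32, Matrix.vecMul ![0, 0, 1] (g : Matrix (Fin 3) (Fin 3) (ZMod 2)) = ![0, 0, 1] → g • m = m))

class M2b : Prop where
  out : ∀ {M : Type u} [AddCommGroup M] [Finite M] [DistribMulAction L32 M], Md L32 M → Nontrivial M →
    ∃ K : AddSubgroup M, Nat.card K = 8 ∧ ∀ g : L32, ∀ m ∈ K, g • m ∈ K

class M3a : Prop where
  out : ∀ {M : Type u} [AddCommGroup M] [Finite M] [DistribMulAction A6 M], Md A6 M → Nontrivial M →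
    ∃ m : M, m ≠ 0 ∧
      ((∀ g : A6, ((g : Equiv.Perm (Fin 6)) 4).val / 2 = 2 → ((g : Equiv.Perm (Fin 6)) 5).val / 2 = 2 → g • m = m) ∨
       (∀ g : A6, (∀ i j : Fin 6, i.val / 2 = j.val / 2 →
          ((g : Equiv.Perm (Fin 6)) i).val / 2 = ((g : Equiv.Perm (Fin 6)) j).val / 2) → g • m = m))

class M3b : Prop where
  out : ∀ {M : Type u} [AddCommGroup M] [DistribMulAction A6 M], Md A6 M → ∀ m : M,
    (∀ g : A6, ((g : Equiv.Perm (Fin 6)) 4).val / 2 = 2 → ((g : Equiv.Perm (Fin 6)) 5).val / 2 = 2 → g • m = m) →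
      ∃ c : Fin 6 → Fin 6 → M, c 4 5 = m ∧ (∀ i, c i i = 0) ∧ (∀ i j k, c i j + c j k = c i k) ∧
        c 0 1 + c 2 3 + c 4 5 = 0 ∧
        ∀ (g : A6) i j, g • c i j = c ((g : Equiv.Perm (Fin 6)) i) ((g : Equiv.Perm (Fin 6)) j)
  aut : ∃ α : A6 ≃* A6, ∀ g : A6, ((g : Equiv.Perm (Fin 6)) 4).val / 2 = 2 →
    ((g : Equiv.Perm (Fin 6)) 5).val / 2 = 2 → ∀ i j : Fin 6, i.val / 2 = j.val / 2 →
      ((α g : Equiv.Perm (Fin 6)) i).val / 2 = ((α g : Equiv.Perm (Fin 6)) j).val / 2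

class M4 : Prop where
  a6 : ∀ {M : Type u} [AddCommGroup M] [Finite M] [DistribMulAction A6 M], Md A6 M → ∀ {a b : A6}, E9 a b →
    ∀ m : M, a • m = m → b • m = m → m = 0
  a7 : ∀ {M : Type u} [AddCommGroup M] [Finite M] [DistribMulAction A7 M], Md A7 M → Subsingleton M

class E6 : Prop where
  a6 : ∀ (F : Type) [Field F] [Fintype F], Fintype.card F = 4 →
    ∃ f : A6 →* Matrix.ProjectiveSpecialLinearGroup (Fin 3) F, Function.Injective f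

class E73 : Prop where
  l34 : ∀ {X : Type u} [Group X], IsL34 X → Nat.card X = 20160 ∧ (∀ g : X, orderOf g ≠ 8) ∧
    ∃ σ x : X, orderOf σ = 7 ∧ orderOf x = 3 ∧ x * σ * x⁻¹ = σ ^ 2
  a7 : (∀ g : A7, orderOf g ≠ 8) ∧ ∃ σ x : A7, orderOf σ = 7 ∧ orderOf x = 3 ∧ x * σ * x⁻¹ = σ ^ 2
  l32 : IsSimpleGroup L32 ∧ Nat.card L32 = 168 ∧ ∃ σ x : L32, orderOf σ = 7 ∧ orderOf x = 3 ∧ x * σ * x⁻¹ = σ ^ 2
  iso : ∀ {X : Type u} [Group X] [Finite X] [IsSimpleGroup X], Nat.card X = 168 → Nonempty (X ≃* L32)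
  sl24 : Nonempty (A5 ≃* Matrix.SpecialLinearGroup (Fin 2) (GaloisField 2 2))

class M7 : Prop where
  l34 : ∀ {X : Type u} [Group X] {M : Type u} [AddCommGroup M] [Finite M] [DistribMulAction X M], IsL34 X →
    Md X M → Subsingleton M
  lst : ∀ {X : Type u} [Group X] {M : Type u} [AddCommGroup M] [Finite M] [DistribMulAction X M],
    Nonempty (X ≃* A7) ∨ IsL34 X → Md X M → Subsingleton M
  l32 : ∀ {X : Type u} [Group X] [Finite X] {M : Type u} [AddCommGroup M] [Finite M] [DistribMulAction X M],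
    Le8 X → Md X M → Nontrivial M → ∀ (L : Subgroup X) [L.Normal], Nonempty (↥L ≃* L32) → Cs L = ⊥ → L = ⊤

class M9 : Prop where
  grp : ∀ {X : Type u} [Group X] [Finite X] (L : Subgroup X) [L.Normal], Nonempty (↥L ≃* A6) → Cs L = ⊥ →
    L.index = 2 → (∃ b ∈ L, ∃ s σ : X, orderOf s = 8 ∧ b = s ^ 4 ∧ orderOf σ = 5 ∧ b * σ * b⁻¹ = σ⁻¹) ∨
      (∀ x ∈ L, orderOf x = 3 → ∃ s : X, orderOf s = 2 ∧ s * x = x * s ∧ ∃ y ∈ L, E9 x y ∧ s * y * s⁻¹ = y⁻¹)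

class M9b : Prop where
  out : ∀ {X : Type u} [Group X] [Finite X] {M : Type u} [AddCommGroup M] [Finite M] [DistribMulAction X M],
    Le8 X → Md X M → Nontrivial M → ∀ (L : Subgroup X) [L.Normal], Nonempty (↥L ≃* A6) → Cs L = ⊥ → L = ⊤

class Soc : Prop where
  soc : ∀ {X : Type u} [Group X] [Finite X], Le8 X → Nontrivial X →
    (∀ A : Subgroup X, A.Normal → IsMulCommutative A → A = ⊥) →
      ∃ L : Subgroup X, L.Normal ∧ IsSimpleGroup L ∧ ¬ IsMulCommutative L ∧ Cs L = ⊥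
  nab : ∀ {X : Type u} [Group X] [Finite X] {M : Type u} [AddCommGroup M] [Finite M] [DistribMulAction X M],
    Le8 X → ¬ Group.IsSolvable X → pCore 2 X = ⊥ → Md X M → Fth X M →
      ∀ A : Subgroup X, A.Normal → IsMulCommutative A → A = ⊥

class TYP : Prop where
  out : ∀ {G : Type u} [Group G] [Finite G], Le8 G → IH.{u} (Nat.card G) → ∀ {N : Subgroup G}, Ch N → O2 N ≠ ⊥ →
    ¬ Group.IsSolvable N → Typ N (O2 N)

class TyN : Prop where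
  idx : ∀ {G : Type u} [Group G] [Finite G], Le8 G → ∀ {N D : Subgroup G}, Typ N D →
    Lr N ∧ (∀ T : Subgroup G, IsSylowIn 2 T N → D.relIndex T ≤ 8) ∧
      ((Five N D ∧ ∃ σ ∈ N, orderOf σ = 5) ∨ (Sev N D ∧ ∃ σ ∈ N, orderOf σ = 7))

/-! ### The natural modules of `L₃(2)` and `A₆` -/

class WS8a : Prop where
  out : ∀ {G : Type u} [Group G] [Finite G], Le8 G → ∀ {H Q : Subgroup G} {π : G → L32}, Ty H Q π →
    ∃ (W : Subgroup G) (π' : G → L32) (c : G → V3), W ≤ Om Q ∧ H ≤ Ns W ∧ Ty H Q π' ∧ Crd H W π' c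

class WS8b : Prop where
  out : ∀ {G : Type u} [Group G] [Finite G], Le8 G → ∀ {H Q W : Subgroup G} {π : G → L32} {c : G → V3},
    Ty H Q π → W ≤ Om Q → H ≤ Ns W → Crd H W π c → WS H Q W ∧ Nat.card W = 8

class WS16a : Prop where
  out : ∀ {G : Type u} [Group G] [Finite G], Le8 G → ∀ {H Q : Subgroup G} {π : G → A6}, Ty H Q π →
    ∃ (W : Subgroup G) (π' : G → A6) (e : Fin 6 → Fin 6 → G), W ≤ Om Q ∧ H ≤ Ns W ∧ Ty H Q π' ∧ Crd6 H W π' e ∧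
      Nat.card W = 16 ∧ (∀ w ∈ W, w ≠ 1 → ∃ i j, i ≠ j ∧ w = e i j) ∧
      ∀ i j k l, i ≠ j → e i j = e k l → (i = k ∧ j = l) ∨ (i = l ∧ j = k)

class WS16b : Prop where
  out : ∀ {G : Type u} [Group G] [Finite G], Le8 G → ∀ {H Q W : Subgroup G} {π : G → A6} {e : Fin 6 → Fin 6 → G},
    Ty H Q π → W ≤ Om Q → H ≤ Ns W → Crd6 H W π e → Nat.card W = 16 → (∀ w ∈ W, w ≠ 1 → ∃ i j, i ≠ j ∧ w = e i j) →
      (∀ i j k l, i ≠ j → e i j = e k l → (i = k ∧ j = l) ∨ (i = l ∧ j = k)) → WS H Q W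

class R7m : Prop where
  out : ∀ (e : L32 → ZMod 2) (w : V3) (S : Subgroup L32), w ≠ 0 → Nat.card S = 8 →
    (∀ s ∈ S, (s : Matrix (Fin 3) (Fin 3) (ZMod 2)).mulVec w = w) → (∀ g : L32, ∀ s ∈ S, e (g * s) = e g) →
    (∀ g σ : L32, orderOf σ = 7 →
      ∑ i ∈ Finset.range 7, e (σ ^ i * g) • ((σ ^ i * g : L32) : Matrix (Fin 3) (Fin 3) (ZMod 2)).mulVec w = 0) →
    ∀ x : L32, (x : Matrix (Fin 3) (Fin 3) (ZMod 2)).mulVec w = w → e x = e 1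

class R7 : Prop where
  out : ∀ {G : Type u} [Group G] [Finite G], Le8 G → ∀ {H Q W : Subgroup G} {π : G → L32} {c : G → V3},
    Ty H Q π → W = Om Q → Crd H W π c → ∀ {w : G} {R : Subgroup G} {x : G}, w ∈ W → w ≠ 1 → Stb H Q W w R x →
      ∀ {U : Subgroup G}, W ≤ U → U ≤ Q → EA U → H ⊓ C1 w ≤ Ns U → ⁅U, R⁆ ≤ zpowers w → U ≤ W

class CW1 : Prop where
  out : ∀ {G : Type u} [Group G] [Finite G], Gl G → ∀ {H Q W : Subgroup G}, Mx H Q → WS H Q W →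
    ∀ {w : G} {R : Subgroup G} {x : G}, w ∈ W → w ≠ 1 → Stb H Q W w R x →
      C1 w ≤ H ∨ (¬ Jt R ≤ Q ∧ ∃ Y : Subgroup G, IsPGroup 2 Y ∧ R ≤ Y ∧ Y ≤ C1 w ∧ Y ≤ Ns R ∧ ¬ Y ≤ H ∧
        H ⊓ C1 w ≤ Ns Y)

class CW2 : Prop where
  noff : ∀ {G : Type u} [Group G] [Finite G], Le8 G → ∀ {H Q W : Subgroup G}, Mx H Q → WS H Q W →
    ∀ {w : G} {R : Subgroup G} {x : G}, w ∈ W → w ≠ 1 → Stb H Q W w R x → (Nat.card W = 16 ∨ W ≠ Om Q) → Jt R ≤ Q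
  eight : ∀ {G : Type u} [Group G] [Finite G], Le8 G → ∀ {H Q W : Subgroup G} {π : G → L32} {c : G → V3},
    Mx H Q → Ty H Q π → WS H Q W → Nat.card W = 8 → W = Om Q → Crd H W π c →
    ∀ {w : G} {R : Subgroup G} {x : G}, w ∈ W → w ≠ 1 → Stb H Q W w R x → ⁅W, R⁆ ≤ zpowers w →
      ∀ {Y : Subgroup G}, IsPGroup 2 Y → R ≤ Y → Y ≤ C1 w → Y ≤ Ns R → ¬ Y ≤ H → H ⊓ C1 w ≤ Ns Y → Q ≤ W

/-! ### The TI analysis -/

class T1 : Prop where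
  nw : ∀ {G : Type u} [Group G] [Finite G] {H Q W : Subgroup G}, TT H Q W → Ns W = H ∧ Cs W = Q ∧ W ≤ Q ∧
    8 ≤ Nat.card W
  ti : ∀ {G : Type u} [Group G] [Finite G] {H Q W : Subgroup G}, TT H Q W → ∀ g : G, W ⊓ cj g W ≠ ⊥ → g ∈ H
  inQ : ∀ {G : Type u} [Group G] [Finite G] {H Q W : Subgroup G}, TT H Q W → ∀ g : G, cj g W ≤ H → cj g W ≤ Q
  ij : ∀ {G : Type u} [Group G] [Finite G] {H Q W : Subgroup G}, TT H Q W → ∀ g : G, cj g W ⊓ H ≠ ⊥ →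
    cj g W ≤ Q ∨ IJ H Q W g

class T2 : Prop where
  syl : ∀ {G : Type u} [Group G] [Finite G] {H Q W T : Subgroup G}, TT H Q W → IsSylowIn 2 T H →
    IsSylowIn 2 T ⊤ ∧ Ns (Wc W T) = H
  inD : ∀ {G : Type u} [Group G] [Finite G] {H Q W T N : Subgroup G}, TT H Q W → IsSylowIn 2 T H → T ≤ N → Ch N →
    Lr N → W ≤ O2 N → N ≤ H
  fin : ∀ {G : Type u} [Group G] [Finite G] {H Q W T : Subgroup G}, TT H Q W → IsSylowIn 2 T H → Q ≤ W → SR4 G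

class T4 : Prop where
  out : ∀ {G : Type u} [Group G] [Finite G] {H Q W T N : Subgroup G}, TT H Q W → IsSylowIn 2 T H → T ≤ N → Ch N →
    Lr N → ¬ W ≤ O2 N →
      (∀ n ∈ N, cj n W ≤ Q ∨ IJ H Q W n) ∧ (∃ n ∈ N, IJ H Q W n) ∧
      (∀ n ∈ N, IJ H Q W n → W ⊓ O2 N ≤ W ⊓ cj n H) ∧ Nat.card ↥(W ⊓ O2 N) ≤ 4 ∧ (O2 N).relIndex W ≤ 4 ∧
      ⁅O2 N, W⁆ ≤ W ⊓ O2 N ∧ (∃ y ∈ H, y ∉ Q ∧ y * y = 1 ∧ O2 N ≤ C1 y) ∧
      (∃ v ∈ W, v ∉ O2 N ∧ ∀ t ∈ T, ⁅v, t⁆ ∈ O2 N)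

class T5s : Prop where
  key : ∀ {G : Type u} [Group G] [Finite G] {H Q W T N : Subgroup G}, TT H Q W → IsSylowIn 2 T H → T ≤ N → Ch N →
    Lr N → Nat.card W = 8 → (O2 N).relIndex W = 2 → ∀ {v r : G}, v ∈ W → v ∉ O2 N → r ∈ N →
      (orderOf r = 3 ∨ orderOf r = 5 ∨ orderOf r = 7) → v * r * v⁻¹ = r⁻¹ →
        IJ H Q W r ∧ ⁅O2 N, zpowers r⁆ = (W ⊓ O2 N) ⊔ cj r (W ⊓ O2 N) ∧ ⁅O2 N, zpowers r⁆ ⊓ C1 r = ⊥ ∧
          cj r W ⊓ H = cj r (W ⊓ O2 N)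

class T5t : Prop where
  out : ∀ {G : Type u} [Group G] [Finite G] {H Q W T N : Subgroup G}, TT H Q W → IsSylowIn 2 T H → T ≤ N → Ch N →
    Group.IsSolvable N → ¬ W ≤ O2 N → Q ≤ W

class T5n : Prop where
  out : ∀ {G : Type u} [Group G] [Finite G] {H Q W T N : Subgroup G}, TT H Q W → IsSylowIn 2 T H → T ≤ N →
    Typ N (O2 N) → ¬ W ≤ O2 N → Q ≤ W ∨ SR4 G

class T6 : Prop where
  tt : ∀ {G : Type u} [Group G] [Finite G] [IsSimpleGroup G], ¬ IsMulCommutative G → AllTy G →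
    ∀ {H Q W : Subgroup G}, TT H Q W → SR4 G ∨ Cc G
  l32 : ∀ {G : Type u} [Group G] [Finite G] [IsSimpleGroup G], ¬ IsMulCommutative G → Gl G → AllTy G →
    ∀ {H Q : Subgroup G} {π : G → L32}, Mx H Q → Ty H Q π → SR4 G ∨ Cc G
  a6 : ∀ {G : Type u} [Group G] [Finite G] [IsSimpleGroup G], ¬ IsMulCommutative G → Gl G → AllTy G →
    ∀ {H Q : Subgroup G} {π : G → A6}, Mx H Q → Ty H Q π → SR4 G ∨ Cc G

/-! ### The types `A₅` and `S₅` -/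

class A5S : Prop where
  a5 : ∀ {G : Type u} [Group G] [Finite G], Gl G → ∀ {H Q T : Subgroup G} {π : G → A5}, Mx H Q → Ty H Q π →
    IsSylowIn 2 T H → SR4 G ∨ (Ns T ≤ H ∧ IsSylowIn 2 T ⊤)
  s5 : ∀ {G : Type u} [Group G] [Finite G], Gl G → ∀ {H Q T : Subgroup G} {π : G → S5}, Mx H Q → Ty H Q π →
    IsSylowIn 2 T H → SR4 G ∨ (Ns T ≤ H ∧ IsSylowIn 2 T ⊤)

class A5F : Prop where
  ex : ∀ {G : Type u} [Group G] [Finite G], Le8 G → ∀ {H Q T : Subgroup G} {π : G → A5}, Ty H Q π →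
    IsSylowIn 2 T H → ∃ x, AT H Q T x
  o : ∀ {G : Type u} [Group G] [Finite G], Le8 G → ∀ {H Q T : Subgroup G} {π : G → A5} {x : G}, Ty H Q π →
    AT H Q T x → T ⊓ C1 x ≠ ⊥ → ⁅T, zpowers x⁆ ⊓ C1 x ≠ ⊥
  q : ∀ {G : Type u} [Group G] [Finite G], Le8 G → ∀ {H Q T : Subgroup G} {π : G → A5} {x : G}, Ty H Q π →
    AT H Q T x → Om T ⊓ C1 x = ⊥ → ∀ t ∈ T, t ∉ Q → Om Q ⊓ C1 t ≤ Om T

class A5J : Prop where
  fin : ∀ {G : Type u} [Group G] [Finite G], Le8 G → ∀ {H Q T : Subgroup G} {π : G → A5} {x : G}, Ty H Q π →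
    AT H Q T x → (∀ t ∈ T, t ∉ Q → Om Q ⊓ C1 t ≤ Om T) → ∀ y ∈ T, orderOf y = 2 → (C1 y).relIndex T ≠ 2
  j : ∀ {G : Type u} [Group G] [Finite G], Le8 G → ∀ {H Q T : Subgroup G} {π : G → A5} {x : G}, Ty H Q π →
    AT H Q T x → ¬ Jt T ≤ Q → Om (Jt T) = Om T ∧ Nat.card ↥(Om T) ≤ 4

class A5M : Prop where
  out : ∀ {G : Type u} [Group G] [Finite G], Gl G → ∀ {H Q : Subgroup G} {π : G → A5}, Mx H Q → Ty H Q π →
    SR4 G ∨ Cl2 G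

class S5a : Prop where
  ea : ∀ {G : Type u} [Group G] [Finite G], Le8 G → ∀ {H Q : Subgroup G} {π : G → S5}, Ty H Q π → Fp3 H Q →
    EA Q ∧ (Nat.card Q = 16 ∨ 256 ≤ Nat.card Q) ∧
      (∀ j ∈ H, j ∉ Q → j * j ∈ Q → Nat.card ↥(Q ⊓ C1 j) ^ 2 = Nat.card Q) ∧
      (∀ T : Subgroup G, IsSylowIn 2 T H → Q ≤ T ∧ Q.relIndex T = 8 ∧ ∃ t ∈ T, t * t ∉ Q) ∧
      (∀ A : Subgroup G, A ≤ H → EA A → Q.relIndex A ≤ 4)
  v4 : ∀ {G : Type u} [Group G] [Finite G], Le8 G → ∀ {H Q T J : Subgroup G} {π : G → S5}, Ty H Q π → Fp3 H Q →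
    IsSylowIn 2 T H → J ≤ T → EA J → Q.relIndex J = 4 → (∀ j ∈ J, j ∉ Q → Q ⊓ C1 j ≤ Cs J) →
      T ≤ Ns (J ⊔ Q) ∧ ¬ 5 ∣ Nat.card ↥(H ⊓ Ns (J ⊔ Q)) ∧
        ∃ x ∈ H, orderOf x = 3 ∧ x ∈ Ns (J ⊔ Q) ∧ J ⊔ Q ≤ ⁅J ⊔ Q, zpowers x⁆

class S5c : Prop where
  out : ∀ {G : Type u} [Group G] [Finite G], Gl G → ∀ {H Q T : Subgroup G} {π : G → S5}, Mx H Q → Ty H Q π →
    Fp3 H Q → IsSylowIn 2 T H → IsSylowIn 2 T ⊤ → 256 ≤ Nat.card Q → ∀ z : G, orderOf z = 2 → T ≤ C1 z → C1 z ≤ H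

class S5M : Prop where
  out : ∀ {G : Type u} [Group G] [Finite G], Gl G → ∀ {H Q : Subgroup G} {π : G → S5}, Mx H Q → Ty H Q π →
    Fp3 H Q → SR4 G ∨ Cl2 G

/-! ### The lists -/

class X1 : Prop where
  l2 : ∀ {G : Type u} [Group G] [Finite G] [IsSimpleGroup G], ¬ IsMulCommutative G → Le8 G →
    ∀ (F : Type) [Field F] [Fintype F], Nonempty (G ≃* Matrix.ProjectiveSpecialLinearGroup (Fin 2) F) → Lst G

class X2 : Prop where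
  big : ∀ {G : Type u} [Group G] [Finite G], Le8 G → ∀ p : ℕ, p.Prime → 11 ≤ p → ¬ p ∣ Nat.card G
  sz : ∀ {G : Type u} [Group G] [Finite G], Le8 G → ¬ Cfsg.Lie.IsoSuzuki G
  u3 : ∀ {G : Type u} [Group G] [Finite G], Le8 G → ∀ (F : Type) [Field F] [Fintype F] (q : ℕ),
    Fintype.card F = q ^ 2 → Even q → 4 ≤ q → ¬ Nonempty (G ≃* Cfsg.PSU 3 F q)
  l3 : ∀ {G : Type u} [Group G] [Finite G] [IsSimpleGroup G], Le8 G → ∀ (F : Type) [Field F] [Fintype F] (n : ℕ),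
    Fintype.card F = 2 ^ n → Nonempty (G ≃* Matrix.ProjectiveSpecialLinearGroup (Fin 3) F) → Lst G
  sp4 : ∀ {G : Type u} [Group G] [Finite G] [IsSimpleGroup G], Le8 G → ∀ (F : Type) [Field F] [Fintype F] (n : ℕ),
    Fintype.card F = 2 ^ n → ¬ Nonempty (G ≃* Cfsg.PSp 2 F)

class X3 : Prop where
  f3 : ∀ {G : Type u} [Group G] [Finite G], Le8 G → ∀ (F : Type) [Field F] [Fintype F], Fintype.card F = 3 →
    ¬ Nonempty (G ≃* Matrix.ProjectiveSpecialLinearGroup (Fin 3) F) ∧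
    ¬ Nonempty (G ≃* Matrix.ProjectiveSpecialLinearGroup (Fin 4) F) ∧
    ¬ Nonempty (G ≃* ↥(Cfsg.Lie.chevG2.group F))
  mat : ∀ {G : Type u} [Group G] [Finite G], Le8 G →
    ¬ Cfsg.Spor.IsoM11 G ∧ ¬ Cfsg.Spor.IsoM22 G ∧ ¬ Cfsg.Spor.IsoM23 G ∧ Nat.card G ≠ 17971200
  alt : ∀ {G : Type u} [Group G] [Finite G], Le8 G → ∀ n : ℕ, 8 ≤ n →
    ¬ Nonempty (G ≃* ↥(alternatingGroup (Fin n)))
  sp43 : ∀ {G : Type u} [Group G] [Finite G], Le8 G → ∀ (F : Type) [Field F] [Fintype F], Fintype.card F = 3 →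
    ¬ Nonempty (G ≃* Cfsg.PSp 2 F)

class X4 : Prop where
  u33 : ∀ {G : Type u} [Group G] [Finite G], Le8 G → ∀ (F : Type) [Field F] [Fintype F], Fintype.card F = 9 →
    ¬ Nonempty (G ≃* Cfsg.PSU 3 F 3)
  u43 : ∀ {G : Type u} [Group G] [Finite G], Le8 G → ∀ (F : Type) [Field F] [Fintype F], Fintype.card F = 9 →
    ¬ Nonempty (G ≃* Cfsg.PSU 4 F 3)

/-- The classification of the simple groups with element orders at most 8. -/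
class Main : Prop where
  out : ∀ {G : Type u} [Group G] [Finite G] [IsSimpleGroup G], ¬ IsMulCommutative G → Le8 G → Lst G

class Fin1 : Prop where
  alm : ∀ {X : Type u} [Group X] [Finite X], Le8 X → 5 ∣ Nat.card X → 7 ∣ Nat.card X →
    ∀ (L : Subgroup X) [L.Normal], Lst ↥L → Cs L = ⊥ → (Nonempty (↥L ≃* A7) ∨ IsL34 ↥L) ∧ L.index ≤ 2
  a7 : ∀ {X : Type u} [Group X] [Finite X], Le8 X → ∀ (L : Subgroup X) [L.Normal], Nonempty (↥L ≃* A7) →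
    Cs L = ⊥ → L = ⊤

class Fin2 : Prop where
  p57 : ∀ {G : Type u} [Group G] [Finite G], Le8 G → ¬ Group.IsSolvable G → ∀ (K : Subgroup G) [K.Normal],
    Group.IsSolvable K → ¬ 5 ∣ Nat.card K ∧ ¬ 7 ∣ Nat.card K
  three : ∀ {G : Type u} [Group G] [Finite G], Le8 G → ∀ (K : Subgroup G) [K.Normal], IsPGroup 3 K →
    IsMulCommutative K → (∃ σ x : G ⧸ K, orderOf σ = 7 ∧ orderOf x = 3 ∧ x * σ * x⁻¹ = σ ^ 2) → K = ⊥
  rad : ∀ {G : Type u} [Group G] [Finite G], Le8 G → ∀ (K : Subgroup G) [K.Normal], Group.IsSolvable K →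
    ¬ 5 ∣ Nat.card K → ¬ 7 ∣ Nat.card K → ∀ (L : Subgroup (G ⧸ K)), Nonempty (↥L ≃* A7) ∨ IsL34 ↥L → K = ⊥

end Cfsg.Lib.P8
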