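import Cfsg.Agent.P8.Stm
import Cfsg.Agent.Gold.Cm
import Cfsg.Agent.Local.CharP
import Cfsg.Agent.Known.SylowCount

/-!
# Groups with element orders at most 8: common part of the two natural-module steps
-/

set_option autoImplicit false

namespace Cfsg.Lib.P8.WSc

open Subgroup Cfsg.Lib.Trans Cfsg.Lib.Gold
open scoped commutatorElement

universe u

/-- The stabiliser `S ≅ S₄` with `V = O₂(S)`. -/
structure SD {X : Type} [Group X] (S V : Subgroup X) (x : X) : Prop where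
  le : V ≤ S
  cV : Nat.card V = 4
  cS : Nat.card S = 24
  nor : ∀ s ∈ S, ∀ v ∈ V, s * v * s⁻¹ ∈ V
  sq : ∀ v ∈ V, v * v = 1
  xS : x ∈ S
  ox : orderOf x = 3
  out : ∀ n ∈ S, n ∉ V → (n * (x * n * x⁻¹)) ^ 3 = 1 ∧ n * (x * n * x⁻¹) ≠ 1
  gen : ∀ v ∈ V, ∃ v' ∈ V, v = v' * x * v'⁻¹ * x⁻¹

variable {G : Type u} [Group G] [Finite G] {X : Type} [Group X] {H Q W : Subgroup G} {π : G → X}

omit [Finite G] in
theorem stb_cj {w x h : G} {R : Subgroup G} (hh : h ∈ H) (nW : h ∈ Ns W) (nQ : h ∈ Ns Q)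
    (s : Stb H Q W w R x) : Stb H Q W (h * w * h⁻¹) (cj h R) (h * x * h⁻¹) := by
  have eQ := mem_Ns_iff.1 nQ
  have eC : cj h (H ⊓ C1 w) = H ⊓ C1 (h * w * h⁻¹) := by rw [cj_inf, cj_C1, cj_eq_of_mem hh]
  refine ⟨?_, eQ ▸ cj_mono h s.le, ?_, ?_, fun r hr => ?_, mul_mem (mul_mem hh s.xH) (inv_mem hh),
    ?_, ?_, ?_, ?_⟩
  · rw [← eC, s.eq, Local.cj_pCoreOf]
  · rw [← s.idx, ← relIndex_cj h Q R, eQ]
  · rw [← s.idx6, ← eC, relIndex_cj]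
  · obtain ⟨r, rfl⟩ := conj_surj h r
    rw [conj_mul']
    exact mem_normalizer_conj nQ (s.sq r (conj_mem_cj.1 hr))
  · rw [conj_mul', conj_mul', s.xw]
  · rw [← s.ox]
    exact (MulAut.conj h).orderOf_eq x
  · have := cj_mono h s.gen
    rwa [cj_sup, cj_commutator, cj_zpowers, eQ] at this
  · have := cj_mono h s.fix
    rwa [cj_inf, cj_Cs, cj_zpowers, mem_Ns_iff.1 nW] at this

theorem stb [PjB.{u, 0}] [BasJ.{u}] (hT : Ty H Q π) {w : G} {S V : Subgroup X} {x₀ : X}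
    (hS : ∀ h ∈ H, h * w = w * h ↔ π h ∈ S) (d : SD S V x₀)
    (fix : ∀ a ∈ W, (∀ h ∈ H, π h ∈ V → h * a = a * h) → a = 1 ∨ a = w) :
    ∃ R x, (∀ a, a ∈ R ↔ a ∈ H ∧ π a ∈ V) ∧ Stb H Q W w R x := by
  have hP := hT.toPj
  obtain ⟨o1, o2, o3, o4, o5⟩ := PjB.one hP
  obtain ⟨R, mR, QR, iR, tR, -⟩ := PjB.pre hP V
  obtain ⟨C, mC, QC, iC, -, -⟩ := PjB.pre hP S
  have eC : C = H ⊓ C1 w := by
    ext a
    rw [mC, mem_inf, mem_C1]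
    exact and_congr_right fun ha => (hS a ha).symm
  subst eC
  have cj' : ∀ a ∈ H, ∀ b ∈ H, π (a * b * a⁻¹) = π a * π b * (π a)⁻¹ := fun a ha b hb => by
    rw [hP.mul _ (mul_mem ha hb) _ (inv_mem ha), hP.mul a ha b hb, o2 a ha]
  obtain ⟨a, ha, ea⟩ := hP.sur x₀
  obtain ⟨x, hx, ex, ox⟩ := PjB.odd hP a ha (by rw [ea, d.ox]; decide)
  have xH : x ∈ H := zpowers_le.2 ha hx
  rw [ea] at ex ox
  have xC : x ∈ H ⊓ C1 w := (mC x).2 ⟨xH, ex ▸ d.xS⟩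
  have RC : R ≤ H ⊓ C1 w := fun r hr => (mC r).2 ⟨((mR r).1 hr).1, d.le ((mR r).1 hr).2⟩
  obtain ⟨b1, b2, b3, b4, -⟩ := BasJ.o2 (H ⊓ C1 w)
  refine ⟨R, x, mR, le_antisymm (b4 R RC (tR (isPGroup_of_sq d.sq)) fun c hc =>
    mem_normalizer_of_cj_le (cj_le_iff.2 fun r hr => (mR _).2
      ⟨mul_mem (mul_mem hc.1 (RC hr).1) (inv_mem hc.1), by
        rw [cj' c hc.1 r (RC hr).1]
        exact d.nor _ ((mC c).1 hc).2 _ ((mR r).1 hr).2⟩)) fun n hn => ?_,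
    QR, iR.trans d.cV, ?_, fun r hr => ?_, xH, mem_C1.1 xC.2, ox.trans d.ox, fun r hr => ?_,
    fun a ha => ?_⟩
  · refine (mR n).2 ⟨(b1 hn).1, by_contra fun hv => ?_⟩
    obtain ⟨h1, h2⟩ := d.out _ ((mC n).1 (b1 hn)).2 hv
    have hm := mul_mem hn (mem_normalizer_conj (b3 (le_normalizer xC)) hn)
    obtain ⟨k, hk⟩ := b2 ⟨_, hm⟩
    have h3 := o3 _ (b1 hm).1 (2 ^ k)
    rw [show (n * (x * n * x⁻¹)) ^ 2 ^ k = 1 from congrArg Subtype.val hk, o1,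
      hP.mul _ (b1 hn).1 _ (mul_mem (mul_mem xH (b1 hn).1) (inv_mem xH)), cj' x xH n (b1 hn).1,
      ex] at h3
    exact h2 (orderOf_eq_one_iff.1 (Nat.eq_one_of_dvd_coprimes
      (show Nat.Coprime 3 (2 ^ k) from Nat.Coprime.pow_right k (by decide))
      (orderOf_dvd_of_pow_eq_one h1) (orderOf_dvd_of_pow_eq_one h3.symm)))
  · have := relIndex_mul_relIndex Q R _ QR RC
    rw [iR, iC, d.cV, d.cS] at this
    omega
  · obtain ⟨h1, h2⟩ := (mR r).1 hr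
    exact (hP.ker _ (mul_mem h1 h1)).1 (by rw [hP.mul r h1 r h1, d.sq _ h2])
  · obtain ⟨h1, h2⟩ := (mR r).1 hr
    obtain ⟨v, hv, e⟩ := d.gen _ h2
    obtain ⟨b, hb, rfl⟩ := hP.sur v
    have h3 : b * x * b⁻¹ * x⁻¹ ∈ H := mul_mem (mul_mem (mul_mem hb xH) (inv_mem hb)) (inv_mem xH)
    have h4 := (o5 _ h3 r h1).1 (by
      rw [hP.mul _ (mul_mem (mul_mem hb xH) (inv_mem hb)) _ (inv_mem xH), cj' b hb x xH, o2 x xH,
        ex, e])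
    have := mul_mem_sup (commutator_mem_commutator ((mR b).2 ⟨hb, hv⟩) (mem_zpowers x)) h4
    rwa [commutatorElement_def, mul_inv_cancel_left] at this
  · rcases fix a ha.1 fun h hh hv => mem_Cs.1 ha.2 h ((mR h).2 ⟨hh, hv⟩) with rfl | rfl
    · exact one_mem _
    · exact mem_zpowers _

theorem syl [Finite X] {m : ℕ} (hX : Nat.card X = 2 ^ 3 * m) (hm : ¬ 2 ∣ m) {g : X}
    (g4 : g ^ 4 = 1) (g2 : g * g ≠ 1) (S : Sylow 2 X) :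
    Nat.card (S : Subgroup X) = 8 ∧ ∃ s ∈ (S : Subgroup X), s * s ≠ 1 := by
  refine ⟨Known.SC.sylow_card_eq_pow S hX hm, ?_⟩
  have hg : IsPGroup 2 (zpowers g) := by
    rintro ⟨_, n, rfl⟩
    refine ⟨2, Subtype.ext ?_⟩
    change (g ^ n) ^ 2 ^ 2 = 1
    rw [← zpow_natCast, ← zpow_mul, mul_comm, zpow_mul, zpow_natCast]
    rw [show g ^ 2 ^ 2 = 1 from g4, one_zpow]
  obtain ⟨k, -, hk⟩ := (isSylowIn_top S).exists_cj_le hg le_top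
  refine ⟨_, hk (conj_mem_cj.2 (mem_zpowers g)), ?_⟩
  rwa [conj_mul', Ne, conj_eq_one_iff]

theorem ws [PjB.{u, 0}] [BasJ.{u}] (hT : Ty H Q π) (le : W ≤ Om Q) (nor : H ≤ Ns W)
    (cq : ∀ h ∈ H, h ∈ Cs W → π h = 1) {w : G}
    (tr : ∀ a ∈ W, a ≠ 1 → ∃ h ∈ H, h * w * h⁻¹ = a)
    (inv4 : ∀ j ∈ H, π j ≠ 1 → π j * π j = 1 → Nat.card ↥(W ⊓ C1 j) = 4)
    {S V : Subgroup X} {x₀ : X} (hS : ∀ h ∈ H, h * w = w * h ↔ π h ∈ S) (d : SD S V x₀)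
    (fix : ∀ a ∈ W, (∀ h ∈ H, π h ∈ V → h * a = a * h) → a = 1 ∨ a = w)
    (com : Nat.card W = 8 → ∀ a ∈ W, ∀ h ∈ H, π h ∈ V → ⁅a, h⁆ ∈ zpowers w)
    {m : ℕ} (hX : Nat.card X = 2 ^ 3 * m) (hm : ¬ 2 ∣ m) {g : X} (g4 : g ^ 4 = 1) (g2 : g * g ≠ 1)
    (ex : (Nat.card W = 16 ∧ ∀ j ∈ H, j ∉ Q → j * j = 1 → Inv5 H j) ∨
      (Nat.card W = 8 ∧ (∃ σ ∈ H, orderOf σ = 7) ∧
        ∀ U : Subgroup G, W ≤ U → U ≤ Q → H ≤ Ns U → ∀ j ∈ H, j ∉ Q → ⁅U, zpowers j⁆ ≤ W → U ≤ W)) :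
    WS H Q W := by
  have hP := hT.toPj
  have : Finite X := (PjB.card hP).1
  obtain ⟨o1, o2, o3, o4, o5⟩ := PjB.one hP
  have ea := (BasJ.leT Q).2.2.2.2.1
  have ea2 : ∀ a ∈ W, a * a = 1 := fun a ha => by rw [← pow_two, ea.2 a (le ha)]
  refine ⟨le, ⟨isMulCommutative_of_sq ea2, fun a ha => ea.2 a (le ha)⟩, nor,
    fun h hh => (hP.ker h hh.1).1 (cq h hh.1 hh.2), fun a ha a1 b hb b1 => ?_,
    fun j hj hq h2 => inv4 j hj (fun e => hq ((hP.ker j hj).1 e)) ?_, fun a ha a1 => ?_,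
    fun A hA eA => ?_, fun T hT' => ?_, ex⟩
  · obtain ⟨h, hh, rfl⟩ := tr a ha a1
    obtain ⟨k, hk, rfl⟩ := tr b hb b1
    exact ⟨k * h⁻¹, mul_mem hk (inv_mem hh), by group⟩
  · rw [← hP.mul j hj j hj]
    exact (hP.ker _ (mul_mem hj hj)).2 h2
  · obtain ⟨h, hh, rfl⟩ := tr a ha a1
    obtain ⟨R, x, mR, s⟩ := stb hT hS d fix
    refine ⟨_, _, stb_cj hh (nor hh) (o4 hh) s, fun h8 => ?_⟩
    rw [← cj_zpowers, ← mem_Ns_iff.1 (nor hh), ← cj_commutator]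
    exact cj_mono h (commutator_le.2 fun a ha r hr =>
      com h8 a ha r ((mR r).1 hr).1 ((mR r).1 hr).2)
  · obtain ⟨B, mB, cB⟩ := PjB.im hP A hA
    have sq : ∀ b ∈ B, b * b = 1 := fun b hb => by
      obtain ⟨a, ha, rfl⟩ := (mB b).1 hb
      rw [← pow_two, ← o3 a (hA ha), eA.2 a ha, o1]
    obtain ⟨P, hle⟩ := (isPGroup_of_sq sq).exists_le_sylow
    obtain ⟨c8, s, hs, s2⟩ := syl hX hm g4 g2 P
    have h1 := card_dvd_of_le hle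
    have h2 : Nat.card B ≠ 8 := fun e =>
      s2 (sq s ((eq_of_le_of_card_ge hle (by rw [c8, e])).ge hs))
    rw [c8] at h1
    rw [← cB]
    have h3 := Nat.le_of_dvd (by norm_num) h1
    generalize Nat.card B = n at h1 h2 h3
    interval_cases n <;> omega
  · obtain ⟨QT, P, mP⟩ := PjB.syl hP T hT'
    obtain ⟨B, mB, cB⟩ := PjB.im hP T hT'.le
    obtain ⟨c8, s, hs, s2⟩ := syl hX hm g4 g2 P
    obtain rfl : B = P := by
      ext y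
      rw [mB, mP]
    obtain ⟨t, ht, rfl⟩ := (mP s).1 hs
    refine ⟨QT, cB ▸ c8, t, ht, fun e => s2 ?_⟩
    rw [← hP.mul t (hT'.le ht) t (hT'.le ht)]
    exact (hP.ker _ (hT'.le (mul_mem ht ht))).2 e

end Cfsg.Lib.P8.WSc
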