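import Cfsg.Agent.P8.Stm
import Cfsg.Agent.S0245
import Cfsg.Agent.S0246
import Cfsg.Agent.S0247
import Cfsg.Agent.S1163
import Cfsg.Agent.S2904
import Cfsg.Agent.Block.ZhA7
import Cfsg.Agent.OddDeg.Simple

/-!
# The families of even characteristic have elements of large prime order
-/

set_option autoImplicit false

namespace Cfsg.Lib.P8

universe u v

namespace X2H

theorem zs {m : ℕ} (hm : 8 ≤ m) : ∃ r : ℕ, r.Prime ∧ 11 ≤ r ∧ r ∣ 2 ^ m - 1 ∧
    ∀ k, 0 < k → k < m → ¬ r ∣ 2 ^ k - 1 := by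
  obtain ⟨r, hr, h1, h2⟩ := Agent.S2904.result 2 m one_lt_two (by omega) (by omega) (by omega)
  refine ⟨r, hr, ?_, h1, h2⟩
  by_contra h
  have : r ∣ 2 ^ 2 - 1 ∨ r ∣ 2 ^ 3 - 1 ∨ r ∣ 2 ^ 4 - 1 ∨ r = 2 := by
    have := hr.two_le
    have h' : r ≤ 10 := by omega
    interval_cases r <;> first | decide | exact absurd hr (by decide)
  rcases this with k | k | k | rfl
  · exact h2 2 (by omega) (by omega) k
  · exact h2 3 (by omega) (by omega) k
  · exact h2 4 (by omega) (by omega) k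
  · have : 2 ∣ 2 ^ m := dvd_pow_self 2 (by omega)
    have := Nat.one_le_two_pow (n := m)
    omega

theorem zp {k : ℕ} (hk : 4 ≤ k) : ∃ r : ℕ, r.Prime ∧ 11 ≤ r ∧ r ∣ 2 ^ k + 1 := by
  obtain ⟨r, hr, h0, h1, h2⟩ := zs (m := k * 2) (by omega)
  rw [pow_mul, ← one_pow 2, Nat.sq_sub_sq] at h1
  exact ⟨r, hr, h0, ((Nat.Prime.dvd_mul hr).1 h1).resolve_right (h2 k (by omega) (by omega))⟩

theorem big {G : Type u} [Group G] [Finite G] (h : Le8 G) (p : ℕ) (hp : p.Prime) (l : 11 ≤ p) :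
    ¬ p ∣ Nat.card G := fun d => by
  have := Fact.mk hp
  obtain ⟨g, hg⟩ := exists_prime_orderOf_dvd_card' p d
  have := h g
  omega

theorem big' {G : Type u} [Group G] [Finite G] (h : Le8 G) {p a : ℕ} (hp : p.Prime) (l : 11 ≤ p) :
    ¬ p ∣ Nat.gcd 3 a * Nat.card G := fun d => by
  rcases (Nat.Prime.dvd_mul hp).1 d with k | k
  · have := Nat.le_of_dvd (by decide) (k.trans (Nat.gcd_dvd_left 3 a))
    omega
  · exact big h p hp l k

end X2H

open X2H

theorem pf_X2 [E73.{u}] : X2.{u} where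
  big := big
  sz h := by
    rintro ⟨F, _, _, m, hm, hF, ⟨e⟩⟩
    obtain ⟨r, hr, l, d⟩ := zp (k := (2 * m + 1) * 2) (by omega)
    refine big h r hr l ?_
    rw [Nat.card_congr e.toEquiv, (Agent.S1163.result hm hF).1]
    exact Dvd.dvd.mul_left (pow_mul 2 _ _ ▸ d) _
  u3 h F _ _ q hF ev l4 := by
    rintro ⟨e⟩
    obtain ⟨p, _, k, hp, hk⟩ := FiniteField.card' F
    have e2 : p = 2 := ((Nat.prime_dvd_prime_iff_eq Nat.prime_two hp).1 (Nat.prime_two.dvd_of_dvd_pow
      (hk ▸ hF ▸ dvd_pow ev.two_dvd two_ne_zero))).symm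
    subst e2
    obtain ⟨n, -, rfl⟩ := (Nat.dvd_prime_pow Nat.prime_two).1
      (hk ▸ hF ▸ dvd_pow_self q two_ne_zero : q ∣ 2 ^ (k : ℕ))
    have hn : 2 ≤ n := (Nat.pow_le_pow_iff_right one_lt_two).1 l4
    obtain ⟨r, hr, l, d⟩ := zp (k := n * 3) (by omega)
    refine big' h (a := 2 ^ n + 1) hr l ?_
    rw [Nat.card_congr e.toEquiv, OddDeg.card_psu3 hF]
    exact ((pow_mul 2 _ _ ▸ d).mul_right _).mul_left _
  l3 h F _ _ n hF := by
    rintro ⟨e⟩
    have c := Block.Zh.gcd_mul_card_psl3 F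
    rw [← Nat.card_congr e.toEquiv, hF] at c
    rcases (by omega : n = 0 ∨ n = 1 ∨ n = 2 ∨ 3 ≤ n) with rfl | rfl | rfl | hn
    · exact absurd hF Fintype.one_lt_card.ne'
    · exact .inr (.inr (.inl (E73.iso (by simpa using c))))
    · exact .inr (.inr (.inr (.inr ⟨F, _, _, hF, ⟨e⟩⟩)))
    · obtain ⟨r, hr, l, d, -⟩ := zs (m := n * 3) (by omega)
      exact (big' h hr l (c ▸ (pow_mul 2 _ _ ▸ d).mul_left _)).elim
  sp4 := fun {G} _ _ _ h F _ _ n hF => by
    rintro ⟨e⟩
    have n0 : n ≠ 0 := by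
      rintro rfl
      exact absurd hF Fintype.one_lt_card.ne'
    have z : Subgroup.center (Matrix.symplecticGroup (Fin 2) F) = ⊥ := by
      rw [← Subgroup.card_eq_one, Agent.S0246.result hF 2 one_le_two]
      refine Nat.coprime_two_left.2 (Nat.Even.sub_odd Nat.one_le_two_pow ?_ odd_one)
      exact (Nat.even_pow' n0).2 even_two
    let e' := e.trans ((QuotientGroup.quotientMulEquivOfEq z).trans QuotientGroup.quotientBot)
    rcases (by omega : n = 1 ∨ 2 ≤ n) with rfl | hn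
    · obtain ⟨f⟩ := Agent.S0247.result hF
      have := (e'.trans f).symm.isSimpleGroup
      rcases IsSimpleGroup.eq_bot_or_eq_top_of_normal (alternatingGroup (Fin 6)) inferInstance with
        k | k
      · have := alternatingGroup.index_eq_two (α := Fin 6)
        rw [k, Subgroup.index_bot, Nat.card_perm] at this
        simp [Nat.factorial] at this
      · have := alternatingGroup.index_eq_two (α := Fin 6)
        rw [k, Subgroup.index_top] at this
        omega
    · obtain ⟨r, hr, l, d⟩ := zp (k := n * 2) (by omega)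
      refine big h r hr l ?_
      rw [Nat.card_congr e'.toEquiv, Agent.S0245.result hF 2, Finset.prod_range_succ]
      refine Dvd.dvd.mul_left (Dvd.dvd.mul_left ?_ _) _
      rw [show 2 * (1 + 1) = 2 * 2 from rfl, pow_mul, ← one_pow 2, Nat.sq_sub_sq]
      exact (pow_mul 2 _ _ ▸ d).mul_right _

end Cfsg.Lib.P8
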